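import Cfsg.Agent.TensorWreathUni.Merge

/-!
# All pure isotropic centres give all isotropic centres

If every tensor of isotropic vectors is the centre of transvections in `M`, the Siegel elements at one such
tensor have every direction orthogonal to it, and so every isotropic vector is a centre.
-/

set_option autoImplicit false
set_option linter.unusedSectionVars false
set_option linter.unusedSimpArgs false

namespace CfsgLib.TWU

open Matrix Cfsg.Geo CfsgLib.MaxSub CfsgLib.TWreath
open CfsgLib.TWSp (kr gram)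
open CfsgLib.TensorUnitary (isom su pMat rMat IsCentre IsSieg)

variable {F : Type*} [Field F] [Finite F] {σ : F ≃+* F} {m : ℕ} {H : Matrix (Fin m) (Fin m) F}
variable {ι : Type} [Fintype ι] [DecidableEq ι]

/-- A subspace containing the tensors with prescribed spanning components contains all of them. -/
theorem pten_mem_span {S : Submodule F ((ι → Fin m) → F)} (T : Finset ι) {ys : ι → Fin m → F}
    (P : ι → (Fin m → F) → Prop) (hP : ∀ k ∈ T, ∀ U : Submodule F (Fin m → F), (∀ y, P k y → y ∈ U) → U = ⊤)
    (h : ∀ zs : ι → Fin m → F, (∀ k ∈ T, P k (zs k)) → (∀ k ∉ T, zs k = ys k) → pten zs ∈ S) :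
    pten ys ∈ S := by
  induction T using Finset.induction generalizing ys with
  | empty => exact h ys (fun k hk => absurd hk (Finset.notMem_empty k)) fun _ _ => rfl
  | insert l T hl ih =>
    let U : Submodule F (Fin m → F) :=
      { carrier := {y | pten (Function.update ys l y) ∈ S}
        add_mem' := fun {p q} hp hq => by
          show pten _ ∈ S; rw [pten_update_add]; exact S.add_mem hp hq
        zero_mem' := by
          show pten _ ∈ S
          rw [pten_eq_zero.mpr ⟨l, by simp⟩]; exact S.zero_mem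
        smul_mem' := fun k p hp => by
          show pten _ ∈ S; rw [pten_update_smul]; exact S.smul_mem k hp }
    have hU : U = ⊤ := hP l (Finset.mem_insert_self l T) U fun y hy =>
      ih (ys := Function.update ys l y) (fun k hk => hP k (Finset.mem_insert_of_mem hk)) fun zs hz hz' => by
        refine h zs (fun k hk => ?_) fun k hk => ?_
        · rcases Finset.mem_insert.mp hk with rfl | hk
          · rw [hz' _ hl, Function.update_self]; exact hy
          · exact hz k hk
        · rw [Finset.mem_insert, not_or] at hk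
          rw [hz' k hk.2, Function.update_of_ne hk.1]
    have : ys l ∈ U := hU ▸ Submodule.mem_top
    simpa [U] using this

theorem pMat_pten (hH : UForm σ H) (xs : ι → Fin m → F) :
    pMat (hm σ (gram ι H)) (pten xs) = Pt fun k => cen σ H (xs k) := by rw [pMat_eq, cen_pten]

theorem prod_update_mul_erase (j : ι) (v : F) (g : ι → F) :
    ∏ k, Function.update g j v k = v * ∏ k ∈ Finset.univ.erase j, g k := by
  rw [← Finset.mul_prod_erase _ _ (Finset.mem_univ j), Function.update_self]
  exact congrArg (v * ·) (Finset.prod_congr rfl fun k hk => Function.update_of_ne (Finset.ne_of_mem_erase hk) _ _)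

theorem rMat_pten (hH : UForm σ H) (cs : ι → Fin m → F) (j : ι) (v : Fin m → F) :
    Pt (Function.update (fun k => cen σ H (cs k)) j (rMat (hm σ H) (cs j) v)) =
      rMat (hm σ (gram ι H)) (pten cs) (pten (Function.update cs j v)) := by
  refine ext_pten fun ys => ?_
  rw [Pt_mulVec_pten, TensorUnitary.rMat_mulVec (uForm_gram hH).isUnitary]
  set Q := fun k => hm σ H (ys k) (cs k) with hQ
  have e1 : (fun k => Function.update (fun k => cen σ H (cs k)) j (rMat (hm σ H) (cs j) v) k *ᵥ ys k) =
      Function.update (fun k => Q k • cs k) j (Q j • v + (-hm σ H (ys j) v) • cs j) := by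
    funext k
    rcases eq_or_ne k j with rfl | hk
    · rw [Function.update_self, Function.update_self, TensorUnitary.rMat_mulVec hH.isUnitary, neg_smul,
        sub_eq_add_neg]
    · rw [Function.update_of_ne hk, Function.update_of_ne hk, cen_mulVec]
  have e2 : ∀ y, pten (Function.update (fun k => Q k • cs k) j y) =
      (∏ k ∈ Finset.univ.erase j, Q k) • pten (Function.update cs j y) := fun y => by
    have e3 : Function.update (fun k => Q k • cs k) j y =
        fun k => Function.update Q j 1 k • Function.update cs j y k := by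
      funext k
      rcases eq_or_ne k j with rfl | hk <;> simp [*]
    rw [e3, pten_smul, prod_update_mul_erase, one_mul]
  rw [e1, pten_update_add, pten_update_smul, pten_update_smul, e2, e2, Function.update_eq_self, hm_pten, hm_pten,
    ← Finset.mul_prod_erase _ _ (Finset.mem_univ j), ← Finset.mul_prod_erase _ _ (Finset.mem_univ j),
    Function.update_self, smul_smul, smul_smul,
    Finset.prod_congr rfl (fun k hk => show hm σ H (ys k) (Function.update cs j v k) = Q k by
      rw [Function.update_of_ne (Finset.ne_of_mem_erase hk)]), neg_mul, neg_smul, sub_eq_add_neg]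

/-- The matrices `B` with `1 + Pt (update cens j B)` in `M`. -/
def slot [Nontrivial ι] (hH : UForm σ H) (M : Subgroup (GL (ι → Fin m) F)) (cs : ι → Fin m → F)
    (hcs : ∀ k, hm σ H (cs k) (cs k) = 0) (j : ι) : AddSubgroup (Matrix (Fin m) (Fin m) F) where
  carrier := {B | ∃ g ∈ M, (g : Matrix (ι → Fin m) (ι → Fin m) F) =
    1 + Pt (Function.update (fun k => cen σ H (cs k)) j B)}
  add_mem' {A B} hA hB := by
    obtain ⟨g, hg, hgA⟩ := hA
    obtain ⟨h, hh, hhB⟩ := hB
    obtain ⟨l, hl⟩ := exists_ne j
    refine ⟨g * h, M.mul_mem hg hh, ?_⟩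
    have h0 : Pt (Function.update (fun k => cen σ H (cs k)) j A * Function.update (fun k => cen σ H (cs k)) j B) = 0 :=
      Pt_eq_zero (k := l) (by simp [hl, cen_sq (hcs l)])
    rw [Units.val_mul, hgA, hhB, mul_add, mul_one, add_mul, one_mul, Pt_mul, h0, add_zero, add_assoc,
      ← Pt_update_add]
  zero_mem' := ⟨1, M.one_mem, by rw [Pt_eq_zero (k := j) (by simp), add_zero, Units.val_one]⟩
  neg_mem' {A} hA := by
    obtain ⟨g, hg, hgA⟩ := hA
    obtain ⟨l, hl⟩ := exists_ne j
    refine ⟨g⁻¹, M.inv_mem hg, Units.inv_eq_of_mul_eq_one_right ?_⟩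
    have h0 : Pt (Function.update (fun k => cen σ H (cs k)) j A * Function.update (fun k => cen σ H (cs k)) j (-A)) = 0 :=
      Pt_eq_zero (k := l) (by simp [hl, cen_sq (hcs l)])
    rw [hgA, mul_add, mul_one, add_mul, one_mul, Pt_mul, h0, add_zero, add_assoc, ← Pt_update_add, add_neg_cancel,
      Pt_eq_zero (k := j) (by simp), add_zero]

variable {M : Subgroup (GL (ι → Fin m) F)}

/-- A seed: one component of the centre changed inside its orthogonal. -/
theorem isSieg_seed [Nontrivial ι] (hC : Ctx σ H M) (hU : El σ H M Finset.univ) {cs : ι → Fin m → F}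
    (hcs : IsoOn σ H Finset.univ cs) (j : ι) {v : Fin m → F} (hv : hm σ H v (cs j) = 0) :
    IsSieg (hm σ (gram ι H)) M (pten cs) (pten (Function.update cs j v)) := by
  have hH := hC.form
  have hf := hH.isUnitary
  have hs := hH.sesq
  have hc : ∀ k, hm σ H (cs k) (cs k) = 0 := fun k => (hcs k (Finset.mem_univ k)).2
  let ℬ := slot hH M cs hc j
  have hℬ : TensorUnitary.ConjInv (hm σ H) ℬ := by
    rintro h hh B ⟨g, hg, hgB⟩
    have hk := hC.factors j h hh
    refine ⟨embG j h * g * (embG j h)⁻¹, M.mul_mem (M.mul_mem hk hg) (M.inv_mem hk), ?_⟩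
    rw [← map_inv, Units.val_mul, Units.val_mul, hgB, mul_add, mul_one, add_mul, embG_val, embG_val, ← emb_mul,
      Units.mul_inv, emb_one, add_right_inj, emb, emb, Pt_mul, Pt_mul]
    congr 1
    funext k
    rcases eq_or_ne k j with rfl | hk <;> simp [*]
  have hP : ∀ y, hm σ H y y = 0 → ∀ s, σ s = -s → s • pMat (hm σ H) y ∈ ℬ := by
    intro y hy s hsk
    rcases eq_or_ne y 0 with rfl | hy0
    · have e : pMat (hm σ H) (0 : Fin m → F) = 0 := zero_vecMulVec _
      rw [e, smul_zero]
      exact ℬ.zero_mem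
    obtain ⟨g, hg, hgv⟩ := hU (Function.update cs j y) (fun k _ => by
      rcases eq_or_ne k j with rfl | hk
      · rw [Function.update_self]; exact ⟨hy0, hy⟩
      · rw [Function.update_of_ne hk]; exact hcs k (Finset.mem_univ k)) s hsk
    refine ⟨g, hg, ?_⟩
    rw [hgv, pMat_eq, Pt_update_smul, PP]
    congr 3
    funext k
    rcases eq_or_ne k j with rfl | hk <;> simp [*]
  obtain ⟨t, ht0, ht⟩ := exists_traceZero hf.ne_refl hf.involutive
  obtain ⟨c₂, hc₂, hc₂c, hcc₂⟩ := TensorUnitary.exists_partner hf (hcs j (Finset.mem_univ j)).1 (hc j)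
  have hi : hm σ H (c₂ + t • cs j) (c₂ + t • cs j) = 0 := by
    rw [hs.add_left, hs.add_right, hs.add_right, hs.smul_left, hs.smul_left, hs.smul_right,
      hs.smul_right, hc₂, hc, hc₂c, hcc₂, ht]
    ring
  have hD := ℬ.sub_mem (hP _ hi t ht) (hP _ hc₂ t ht)
  rw [TensorUnitary.pMat_shift hf (cs j) c₂ ht] at hD
  obtain ⟨r, -, g, hg, hgv⟩ := TensorUnitary.exists_rMat_mem hf hℬ (hc j) (by
    rw [hs.smul_left, hc₂c, mul_one]
    exact mul_ne_zero ht0 ((map_ne_zero_iff σ σ.injective).mpr ht0)) hD hv
  refine ⟨by rw [hm_pten]; exact Finset.prod_eq_zero (Finset.mem_univ j) (by simpa using hv), r, g, hg, ?_⟩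
  rw [hgv, TensorUnitary.siegMat, Pt_update_add, Pt_update_smul, rMat_pten hH, pMat_eq, pMat_pten hH]
  congr 4
  funext k
  rcases eq_or_ne k j with rfl | hk <;> simp [*]

/-- All directions orthogonal to a tensor of isotropic vectors. -/
theorem isSieg_all [Nontrivial ι] (hC : Ctx σ H M) (hMs : M ≤ su (hm σ (gram ι H))) (hU : El σ H M Finset.univ)
    {cs : ι → Fin m → F} (hcs : IsoOn σ H Finset.univ cs) {w : (ι → Fin m) → F}
    (hw : hm σ (gram ι H) w (pten cs) = 0) : IsSieg (hm σ (gram ι H)) M (pten cs) w := by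
  classical
  have hH := hC.form
  have hf := hH.isUnitary
  have hs := hH.sesq
  have hff := (uForm_gram (ι := ι) hH).isUnitary
  have hsf := (uForm_gram (ι := ι) hH).sesq
  have hm3 := hC.par.1
  have hcard : 2 ≤ Fintype.card (Fin m) := by rw [Fintype.card_fin]; omega
  have hc : ∀ k, hm σ H (cs k) (cs k) = 0 := fun k => (hcs k (Finset.mem_univ k)).2
  have hc0 : ∀ k, cs k ≠ 0 := fun k => (hcs k (Finset.mem_univ k)).1
  obtain ⟨j₀⟩ : Nonempty ι := inferInstance
  have hx₀ : hm σ (gram ι H) (pten cs) (pten cs) = 0 := by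
    rw [hm_pten]; exact Finset.prod_eq_zero (Finset.mem_univ j₀) (hc j₀)
  have hcen : ∀ ys : ι → Fin m → F, (∀ k, hm σ H (ys k) (ys k) = 0) →
      IsCentre σ (hm σ (gram ι H)) M (pten ys) := by
    intro ys hys s hsk
    by_cases h0 : ∀ k, ys k ≠ 0
    · obtain ⟨g, hg, hgv⟩ := hU ys (fun k _ => ⟨h0 k, hys k⟩) s hsk
      exact ⟨g, hg, by rw [hgv, pMat_pten hH, PP]; simp⟩
    · push Not at h0
      refine ⟨1, M.one_mem, ?_⟩
      have e : pMat (hm σ (gram ι H)) (0 : (ι → Fin m) → F) = 0 := zero_vecMulVec _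
      rw [pten_eq_zero.mpr h0, e, smul_zero, add_zero, Units.val_one]
  let S : Submodule F ((ι → Fin m) → F) :=
    { carrier := {w | ∀ s : F, IsSieg (hm σ (gram ι H)) M (pten cs) (s • w)}
      add_mem' := fun {p q} hp hq s => by
        rw [smul_add]; exact TensorUnitary.isSieg_add hff hx₀ (hp s) (hq s)
      zero_mem' := fun s => by rw [smul_zero]; exact TensorUnitary.isSieg_zero hff M _
      smul_mem' := fun k p hp s => by rw [smul_smul]; exact hp _ }
  -- commutators
  have hcomm : ∀ z w₀ : (ι → Fin m) → F, hm σ (gram ι H) z z = 0 → hm σ (gram ι H) z (pten cs) = 0 →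
      IsCentre σ (hm σ (gram ι H)) M z → (∀ s : F, IsSieg (hm σ (gram ι H)) M (pten cs) (s • w₀)) →
      hm σ (gram ι H) w₀ z ≠ 0 → z ∈ S := by
    intro z w₀ hz hzx hzc hw₀ hne s
    obtain ⟨t, ht0, ht⟩ := exists_traceZero hf.ne_refl hf.involutive
    have h := TensorUnitary.isSieg_comm hff hx₀ hMs (hw₀ (s / (t * hm σ (gram ι H) w₀ z))) hz hzx hzc ht
    rw [hsf.smul_left] at h
    convert h using 2
    field_simp
  obtain ⟨d, hd⟩ := exists_moved hH.ne_refl
  have hd1 : d - 1 ≠ 0 := sub_ne_zero.mpr fun h => hd (by rw [h, map_one])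
  -- one position orthogonal to the centre, the others isotropic and not orthogonal
  have hone : ∀ (j : ι) (ys : ι → Fin m → F), hm σ H (ys j) (cs j) = 0 →
      (∀ k, k ≠ j → hm σ H (ys k) (ys k) = 0 ∧ hm σ H (ys k) (cs k) ≠ 0) → pten ys ∈ S := by
    intro j ys hj hys
    obtain ⟨l, hl⟩ := exists_ne j
    obtain ⟨c', hc', hc'c, hcc'⟩ := TensorUnitary.exists_partner hf (hc0 j) (hc j)
    obtain ⟨e₀, he₀c, he₀c', he₀⟩ :=
      TensorUnitary.exists_noniso_orth hf (by rw [Fintype.card_fin]; exact hm3) (hc j) hc' hc'c hcc'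
    have hy0 : ∀ k, k ≠ j → ys k ≠ 0 := fun k hk h => (hys k hk).2 (by rw [h, hs.zero_left])
    choose p hp hpy hyp using fun (k : {k // k ≠ j}) =>
      TensorUnitary.exists_partner hf (hy0 k k.2) (hys k k.2).1
    set xl := (hm σ H (ys l) (cs l))⁻¹ • ys l with hxl
    have hxliso : hm σ H xl xl = 0 := by rw [hxl, hs.smul_left, hs.smul_right, (hys l hl).1]; ring
    have hxlc : hm σ H xl (cs l) = 1 := by rw [hxl, hs.smul_left, inv_mul_cancel₀ (hys l hl).2]
    have hcxl : hm σ H (cs l) xl = 1 := by rw [hf.herm, hxlc, map_one]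
    -- the two families
    set A : ι → Fin m → F := fun k => if k = l then cs l else if h : k ≠ j then p ⟨k, h⟩ else c' with hA
    set B : (Fin m → F) → ι → Fin m → F := fun e => Function.update (Function.update ys l xl) j e with hB
    have hAl : A l = cs l := by simp [hA]
    have hAj : A j = c' := by simp [hA, hl.symm]
    have hBj : ∀ e, B e j = e := fun e => by simp [hB]
    have hBl : ∀ e, B e l = xl := fun e => by simp [hB, hl]
    have hBo : ∀ e k, k ≠ j → k ≠ l → B e k = ys k := fun e k h h' => by simp [hB, h, h']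
    have hAB : ∀ e k, k ≠ j → hm σ H (A k) (B e k) = 1 ∧ hm σ H (B e k) (A k) = 1 := fun e k hk => by
      rcases eq_or_ne k l with rfl | hkl
      · rw [hAl, hBl]; exact ⟨hcxl, hxlc⟩
      · rw [hBo e k hk hkl]; simp [hA, hkl, hk, hpy ⟨k, hk⟩, hyp ⟨k, hk⟩]
    have hAiso : ∀ k, hm σ H (A k) (A k) = 0 := fun k => by
      rcases eq_or_ne k j with rfl | hk
      · rw [hAj]; exact hc'
      rcases eq_or_ne k l with rfl | hkl
      · rw [hAl]; exact hc _
      · simp [hA, hkl, hk, hp ⟨k, hk⟩]
    have hBiso : ∀ e k, k ≠ j → hm σ H (B e k) (B e k) = 0 := fun e k hk => by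
      rcases eq_or_ne k l with rfl | hkl
      · rw [hBl]; exact hxliso
      · rw [hBo e k hk hkl]; exact (hys k hk).1
    have fAB : ∀ e, hm σ (gram ι H) (pten A) (pten (B e)) = hm σ H c' e ∧
        hm σ (gram ι H) (pten (B e)) (pten A) = hm σ H e c' := fun e => by
      rw [hm_pten, hm_pten, ← Finset.mul_prod_erase _ _ (Finset.mem_univ j),
        ← Finset.mul_prod_erase _ _ (Finset.mem_univ j), Finset.prod_eq_one (fun k hk => (hAB e k (Finset.ne_of_mem_erase hk)).1),
        Finset.prod_eq_one (fun k hk => (hAB e k (Finset.ne_of_mem_erase hk)).2), mul_one, mul_one, hAj, hBj]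
      exact ⟨rfl, rfl⟩
    have fBB : ∀ e e', hm σ (gram ι H) (pten (B e)) (pten (B e')) = 0 := fun e e' => by
      rw [hm_pten]; exact Finset.prod_eq_zero (Finset.mem_univ l) (by rw [hBl, hBl, hxliso])
    have fAA : hm σ (gram ι H) (pten A) (pten A) = 0 := by
      rw [hm_pten]; exact Finset.prod_eq_zero (Finset.mem_univ j) (hAiso j)
    have fAx : hm σ (gram ι H) (pten A) (pten cs) = 0 := by
      rw [hm_pten]; exact Finset.prod_eq_zero (Finset.mem_univ l) (by rw [hAl, hc])
    have fBx : ∀ e, hm σ H e (cs j) = 0 → hm σ (gram ι H) (pten (B e)) (pten cs) = 0 := fun e he => by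
      rw [hm_pten]; exact Finset.prod_eq_zero (Finset.mem_univ j) (by rw [hBj, he])
    -- the centres
    have hZ : ∀ e, hm σ H e (cs j) = 0 → hm σ H e c' = 0 →
        IsCentre σ (hm σ (gram ι H)) M (pten A + pten (B e)) := by
      intro e hec hec'
      have hc'e : hm σ H c' e = 0 := unitary_orth_symm hf hec'
      have hBi : IsoOn σ H Finset.univ (B (cs j)) := fun k _ => by
        rcases eq_or_ne k j with rfl | hk
        · rw [hBj]; exact hcs _ (Finset.mem_univ _)
        · exact ⟨fun h => zero_ne_one (by rw [← (hAB (cs j) k hk).2, h, hs.zero_left]), hBiso _ k hk⟩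
      have hseed := isSieg_seed hC hU hBi j (v := e) (by rw [hBj]; exact hec)
      rw [show Function.update (B (cs j)) j e = B e by simp [hB]] at hseed
      obtain ⟨-, k, g, hgM, hgv⟩ := hseed
      have hgz := TensorUnitary.isCentre_map hff (hcen A hAiso) (hMs hgM).1 hgM
      have h1 : hm σ (gram ι H) (pten A) (pten (B (cs j))) = 1 := by rw [(fAB _).1, hc'c]
      have h2 : hm σ (gram ι H) (pten A) (pten (B e)) = 0 := by rw [(fAB _).1, hc'e]
      have hval : (g : Matrix (ι → Fin m) (ι → Fin m) F) *ᵥ pten A = pten A + pten (B e) + k • pten (B (cs j)) := by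
        rw [hgv, add_mulVec, one_mulVec, TensorUnitary.siegMat_mulVec hff, h1, h2]
        module
      rw [hval] at hgz
      have hk : σ k = -k := by
        have h3 := (hMs hgM).1 (pten A) (pten A)
        rw [hval] at h3
        simp only [hsf.add_left, hsf.add_right, hsf.smul_left, hsf.smul_right, fAA, fBB, (fAB _).1, (fAB _).2,
          hc'c, hcc', hec', hc'e] at h3
        linear_combination h3
      obtain ⟨g', hg', hg'v⟩ := hcen (B (cs j)) (fun k => (hBi k (Finset.mem_univ k)).2) (-k) (by rw [map_neg, hk])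
      have := TensorUnitary.isCentre_map hff hgz (hMs hg').1 hg'
      rwa [hg'v, add_mulVec, one_mulVec, smul_mulVec, TensorUnitary.pMat_mulVec hff,
        show hm σ (gram ι H) (pten A + pten (B e) + k • pten (B (cs j))) (pten (B (cs j))) = 1 by
          simp [hsf.add_left, hsf.smul_left, h1, fBB],
        one_smul, neg_smul, add_neg_cancel_right] at this
    -- the seed
    have hne0 : ∀ k, k ≠ j → hm σ H (cs k) (B e₀ k) ≠ 0 := fun k hk => by
      rcases eq_or_ne k l with rfl | hkl
      · rw [hBl, hcxl]; exact one_ne_zero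
      · rw [hBo _ k hk hkl]; exact unitary_ne_symm hf (hys k hk).2
    have hseedw : ∀ s : F, IsSieg (hm σ (gram ι H)) M (pten cs) (s • pten (Function.update cs j e₀)) := fun s => by
      rw [← pten_update_smul]
      exact isSieg_seed hC hU hcs j (by rw [hs.smul_left, he₀c, mul_zero])
    have hzS : ∀ e, hm σ H e (cs j) = 0 → hm σ H e c' = 0 → hm σ H e₀ e ≠ 0 → pten A + pten (B e) ∈ S := by
      intro e hec hec' hne
      refine hcomm _ _ ?_ ?_ (hZ e hec hec') hseedw ?_
      · rw [hsf.add_left, hsf.add_right, hsf.add_right, fAA, fBB, (fAB e).1, (fAB e).2, hec',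
          unitary_orth_symm hf hec']
        ring
      · rw [hsf.add_left, fAx, fBx e hec, add_zero]
      · rw [hsf.add_right, hm_pten, Finset.prod_eq_zero (Finset.mem_univ l) (by rw [Function.update_of_ne hl, hAl, hc]),
          zero_add, hm_pten]
        refine Finset.prod_ne_zero_iff.mpr fun k _ => ?_
        rcases eq_or_ne k j with rfl | hk
        · rw [Function.update_self, hBj]; exact hne
        · rw [Function.update_of_ne hk]
          have : B e k = B e₀ k := by simp [hB, hk]
          rw [this]; exact hne0 k hk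
    have hBadd : ∀ e e', pten (B (e + e')) = pten (B e) + pten (B e') := fun e e' => by
      simp only [hB, pten_update_add]
    have hBsmul : ∀ (k : F) e, pten (B (k • e)) = k • pten (B e) := fun k e => by
      simp only [hB, pten_update_smul]
    have hB₀ : pten (B e₀) ∈ S := by
      have h1 := hzS e₀ he₀c he₀c' he₀
      have h2 := hzS (d • e₀) (by rw [hs.smul_left, he₀c, mul_zero]) (by rw [hs.smul_left, he₀c', mul_zero])
        (by rw [hs.smul_right]; exact mul_ne_zero ((map_ne_zero_iff σ σ.injective).mpr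
          fun h => hd (by rw [h, map_zero])) he₀)
      have h3 := S.smul_mem (d - 1)⁻¹ (S.sub_mem h2 h1)
      rw [hBsmul, add_sub_add_left_eq_sub, show d • pten (B e₀) - pten (B e₀) = (d - 1) • pten (B e₀) by
        rw [sub_smul, one_smul], smul_smul, inv_mul_cancel₀ hd1, one_smul] at h3
      exact h3
    have hA₀ : pten A ∈ S := by simpa using S.sub_mem (hzS e₀ he₀c he₀c' he₀) hB₀
    have hBc : pten (B (cs j)) ∈ S := by
      refine hcomm _ (pten A) (fBB _ _) (fBx _ (hc j)) (hcen _ fun k => ?_) hA₀ ?_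
      · rcases eq_or_ne k j with rfl | hk
        · rw [hBj]; exact hc _
        · exact hBiso _ k hk
      · rw [(fAB _).1, hc'c]; exact one_ne_zero
    have hBe : ∀ e, hm σ H e (cs j) = 0 → hm σ H e c' = 0 → pten (B e) ∈ S := by
      intro e hec hec'
      by_cases hne : hm σ H e₀ e = 0
      · have h := S.sub_mem (S.sub_mem (hzS (e + e₀) (by rw [hs.add_left, hec, he₀c, add_zero])
          (by rw [hs.add_left, hec', he₀c', add_zero]) (by rw [hs.add_right, hne, zero_add]; exact he₀)) hA₀) hB₀
        rw [hBadd] at h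
        simpa [add_sub_cancel_left] using h
      · simpa using S.sub_mem (hzS e hec hec' hne) hA₀
    have hall : pten (B (ys j)) ∈ S := by
      set r := hm σ H (ys j) c' with hr
      have h := S.add_mem (hBe (ys j - r • cs j) (by rw [hs.sub_left, hs.smul_left, hj, hc, mul_zero, sub_zero])
        (by rw [hs.sub_left, hs.smul_left, hcc', mul_one, sub_self])) (S.smul_mem r hBc)
      rwa [← hBsmul, ← hBadd, sub_add_cancel] at h
    have e : ys = Function.update (Function.update ys l xl) l ((hm σ H (ys l) (cs l)) • xl) := by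
      rw [Function.update_idem, hxl, smul_smul, mul_inv_cancel₀ (hys l hl).2, one_smul, Function.update_eq_self]
    rw [e, pten_update_smul, Function.update_idem]
    refine S.smul_mem _ ?_
    simpa [hB, Function.update_comm hl, Function.update_of_ne hl.symm] using hall
  have hspan : ∀ (j : ι) (ys : ι → Fin m → F), hm σ H (ys j) (cs j) = 0 → pten ys ∈ S := fun j ys hj => by
    refine pten_mem_span (S := S) (Finset.univ.erase j) (fun k y => hm σ H y y = 0 ∧ hm σ H y (cs k) ≠ 0)
      (fun k _ U hU' => TensorUnitary.top_of_iso_not_orth hf hcard (hc0 k) (hc k) fun x h h' => hU' x ⟨h, h'⟩)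
      fun zs hz hz' => hone j zs (by rw [hz' j (by simp)]; exact hj)
        fun k hk => hz k (Finset.mem_erase.mpr ⟨hk, Finset.mem_univ k⟩)
  choose cp hcp hcpc hccp using fun k => TensorUnitary.exists_partner hf (hc0 k) (hc k)
  have hred : ∀ (T : Finset ι) (ys : ι → Fin m → F), pten ys -
      pten (fun k => if k ∈ T then hm σ H (ys k) (cs k) • cp k else ys k) ∈ S := by
    intro T
    induction T using Finset.induction with
    | empty => intro ys; simp
    | insert k T hk ih =>
      intro ys
      set zs := fun i => if i ∈ T then hm σ H (ys i) (cs i) • cp i else ys i with hzs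
      have e : (fun i => if i ∈ insert k T then hm σ H (ys i) (cs i) • cp i else ys i) =
          Function.update zs k (hm σ H (ys k) (cs k) • cp k) := by
        funext i
        rcases eq_or_ne i k with rfl | hi <;> simp [hzs, *]
      have hzk : zs k = ys k := by simp [hzs, hk]
      have h2 : pten zs - pten (Function.update zs k (hm σ H (ys k) (cs k) • cp k)) ∈ S := by
        have h3 := hspan k (Function.update zs k (ys k - hm σ H (ys k) (cs k) • cp k)) (by
          rw [Function.update_self, hs.sub_left, hs.smul_left, hcpc, mul_one, sub_self])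
        rw [sub_eq_add_neg, pten_update_add, ← hzk, Function.update_eq_self, ← neg_smul,
          pten_update_smul, neg_smul] at h3
        rw [sub_eq_add_neg, ← hzk, pten_update_smul]
        exact h3
      rw [e]
      have := S.add_mem (show pten ys - pten zs ∈ S from ih ys) h2
      simpa using this
  have hdec : ∀ w : (ι → Fin m) → F, w - hm σ (gram ι H) w (pten cs) • pten cp ∈ S := by
    intro w
    have hb : ∀ ys, pten ys - hm σ (gram ι H) (pten ys) (pten cs) • pten cp ∈ S := fun ys => by
      have := hred Finset.univ ys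
      simp only [Finset.mem_univ, if_true] at this
      rwa [pten_smul, ← hm_pten] at this
    rw [eq_sum_pten w]
    induction (Finset.univ : Finset (ι → Fin m)) using Finset.induction with
    | empty => simp [hsf.zero_left]
    | insert a s ha ih =>
      rw [Finset.sum_insert ha, hsf.add_left, add_smul, add_sub_add_comm]
      refine S.add_mem ?_ ih
      rw [hsf.smul_left, ← smul_smul, ← smul_sub]
      exact S.smul_mem _ (hb _)
  have := hdec w
  rw [hw, zero_smul, sub_zero] at this
  simpa using this 1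

/-- Every isotropic vector is a centre. -/
theorem isCentre_all [Nontrivial ι] (hC : Ctx σ H M) (hMs : M ≤ su (hm σ (gram ι H))) (hU : El σ H M Finset.univ)
    {v : (ι → Fin m) → F} (hv : hm σ (gram ι H) v v = 0) : IsCentre σ (hm σ (gram ι H)) M v := by
  classical
  have hH := hC.form
  have hf := hH.isUnitary
  have hff := (uForm_gram (ι := ι) hH).isUnitary
  have hsf := (uForm_gram (ι := ι) hH).sesq
  have hcard : 2 ≤ Fintype.card (Fin m) := by rw [Fintype.card_fin]; have := hC.par.1; omega
  have hcen : ∀ ys : ι → Fin m → F, (∀ k, ys k ≠ 0 ∧ hm σ H (ys k) (ys k) = 0) →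
      IsCentre σ (hm σ (gram ι H)) M (pten ys) := fun ys hys s hsk => by
    obtain ⟨g, hg, hgv⟩ := hU ys (fun k _ => hys k) s hsk
    exact ⟨g, hg, by rw [hgv, pMat_pten hH, PP]; simp⟩
  rcases eq_or_ne v 0 with rfl | hv0
  · intro s _
    refine ⟨1, M.one_mem, ?_⟩
    have e : pMat (hm σ (gram ι H)) (0 : (ι → Fin m) → F) = 0 := zero_vecMulVec _
    rw [e, smul_zero, add_zero, Units.val_one]
  obtain ⟨cs, hcs, hne⟩ : ∃ cs : ι → Fin m → F, (∀ k, hm σ H (cs k) (cs k) = 0) ∧
      hm σ (gram ι H) v (pten cs) ≠ 0 := by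
    by_contra hcon
    push Not at hcon
    let U : Submodule F ((ι → Fin m) → F) :=
      { carrier := {y | hm σ (gram ι H) v y = 0}
        add_mem' := fun {p q} hp hq => by show hm σ _ v (p + q) = 0; rw [hsf.add_right, hp, hq, add_zero]
        zero_mem' := hsf.zero_right v
        smul_mem' := fun k p hp => by show hm σ _ v (k • p) = 0; rw [hsf.smul_right, hp, mul_zero] }
    have hp : ∀ ys, pten ys ∈ U := fun ys =>
      pten_mem_span (S := U) Finset.univ (fun _ y => hm σ H y y = 0)
        (fun k _ V hV => TensorUnitary.eq_top_of_iso_mem hf hcard hV)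
        fun zs hz _ => hcon zs fun k => hz k (Finset.mem_univ k)
    obtain ⟨y, hy⟩ := (hff.nondegenerate v hv0).2
    refine hy (show y ∈ U from ?_)
    rw [eq_sum_pten y]
    exact U.sum_mem fun a _ => U.smul_mem _ (hp _)
  have hc0 : ∀ k, cs k ≠ 0 := fun k h => hne (by rw [pten_eq_zero.mpr ⟨k, h⟩, hsf.zero_right])
  have hx : hm σ (gram ι H) (pten cs) (pten cs) = 0 := by
    obtain ⟨j⟩ : Nonempty ι := inferInstance
    rw [hm_pten]; exact Finset.prod_eq_zero (Finset.mem_univ j) (hcs j)
  choose cp hcp hcpc hccp using fun k => TensorUnitary.exists_partner hf (hc0 k) (hcs k)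
  have hcp0 : ∀ k, cp k ≠ 0 := fun k h => zero_ne_one (by rw [← hcpc k, h, hH.sesq.zero_left])
  set x₀ := pten cs with hx₀
  set z₀ := pten cp with hz₀
  have hzz : hm σ (gram ι H) z₀ z₀ = 0 := by
    obtain ⟨j⟩ : Nonempty ι := inferInstance
    rw [hz₀, hm_pten]; exact Finset.prod_eq_zero (Finset.mem_univ j) (hcp j)
  have hzx : hm σ (gram ι H) z₀ x₀ = 1 := by
    rw [hz₀, hx₀, hm_pten]; exact Finset.prod_eq_one fun k _ => hcpc k
  set d := hm σ (gram ι H) v x₀ with hd
  set v' := d⁻¹ • v with hv'def
  have hv'x : hm σ (gram ι H) v' x₀ = 1 := by rw [hv'def, hsf.smul_left, ← hd, inv_mul_cancel₀ hne]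
  have hv' : hm σ (gram ι H) v' v' = 0 := by rw [hv'def, hsf.smul_left, hsf.smul_right, hv, mul_zero, mul_zero]
  clear_value v'
  suffices h : IsCentre σ (hm σ (gram ι H)) M v' by
    have := TensorUnitary.isCentre_smul hff h d
    rwa [hv'def, smul_smul, mul_inv_cancel₀ hne, one_smul] at this
  obtain ⟨-, k, g, hgM, hgv⟩ := isSieg_all hC hMs hU (cs := cs) (fun k _ => ⟨hc0 k, hcs k⟩) (w := v' - z₀)
    (by rw [hsf.sub_left, ← hx₀, hv'x, hzx, sub_self])
  have hgz := TensorUnitary.isCentre_map hff (hcen cp fun k => ⟨hcp0 k, hcp k⟩) (hMs hgM).1 hgM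
  set r := k - hm σ (gram ι H) z₀ (v' - z₀) with hr
  have hval : (g : Matrix (ι → Fin m) (ι → Fin m) F) *ᵥ z₀ = v' + r • x₀ := by
    rw [hgv, ← hx₀, add_mulVec, one_mulVec, TensorUnitary.siegMat_mulVec hff, hzx, hr]
    module
  rw [← hz₀, hval] at hgz
  have hiso : hm σ (gram ι H) (v' + r • x₀) (v' + r • x₀) = 0 := by rw [← hval, (hMs hgM).1, hzz]
  rw [hsf.add_left, hsf.add_right, hsf.add_right, hsf.smul_left, hsf.smul_left, hsf.smul_right,
    hsf.smul_right, hv', hx, hff.herm x₀ v', hv'x, map_one, mul_one, mul_one] at hiso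
  obtain ⟨t, ht, htv⟩ := hcen cs (fun k => ⟨hc0 k, hcs k⟩) (-r) (by rw [map_neg]; linear_combination -hiso)
  have := TensorUnitary.isCentre_map hff hgz (hMs ht).1 ht
  rwa [htv, ← hx₀, add_mulVec, one_mulVec, smul_mulVec, TensorUnitary.pMat_mulVec hff, hsf.add_left, hv'x,
    hsf.smul_left, hx, mul_zero, add_zero, one_smul, neg_smul, add_neg_cancel_right] at this

end CfsgLib.TWU
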