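import Cfsg.Agent.TensorWreathUni.Control

/-!
# No rigid overgroup of unitary factors in characteristic two
-/

set_option autoImplicit false
set_option linter.unusedSectionVars false
set_option linter.unusedSimpArgs false

namespace CfsgLib.TWU

open Matrix Cfsg.Geo CfsgLib.MaxSub CfsgLib.TWreath
open CfsgLib.TWSp (kr gram)

variable {F : Type*} [Field F] [Finite F] [CharP F 2] {σ : F ≃+* F} {m : ℕ} {H : Matrix (Fin m) (Fin m) F}
variable {ι : Type} [Fintype ι] [DecidableEq ι]

/-- An isotropic vector orthogonal to an isotropic one and independent of it. -/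
theorem exists_iso_orth_indep (hH : UForm σ H) (hm4 : 4 ≤ m) {c : Fin m → F} (hc0 : c ≠ 0)
    (hc : hm σ H c c = 0) :
    ∃ w, hm σ H w w = 0 ∧ hm σ H w c = 0 ∧ hm σ H c w = 0 ∧ ∀ k : F, k • c ≠ w := by
  obtain ⟨c', w, hc', hc'c, hcc', hw0, hw, hwc, hwc'⟩ :=
    TensorUnitary.exists_frame hH.isUnitary (by rw [Fintype.card_fin]; exact hm4) hc0 hc
  refine ⟨w, hw, hwc, unitary_orth_symm hH.isUnitary hwc, fun k hk => hw0 ?_⟩
  rw [← hk, hH.sesq.smul_left, hcc', mul_one] at hwc'
  rw [← hk, hwc', zero_smul]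

variable {M : Subgroup (GL (ι → Fin m) F)}

namespace Rigid

variable (hM : Rigid σ H M)

include hM

/-- An element outside commuting with a factorwise involution with a transvection component gives one
commuting with the product of that root and another root. -/
theorem exists_two_root_of_comm {gs : ι → GL (Fin m) F} (hsq : ∀ k, gs k * gs k = 1) {i : ι}
    {c φ : Fin m → F} (h : φ ⬝ᵥ c = 0) (hc : c ≠ 0) (hφ : φ ≠ 0) (hgi : gs i = tv c φ)
    (hrM : root i c φ ∈ M)
    {k : GL (ι → Fin m) F} (hk : k ∈ M) (hkW : k ∉ wreath ι m F) (hcomm : Commute k (PtG gs)) :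
    ∃ g ∈ M, g ∉ wreath ι m F ∧ Commute g (PtG gs) ∧ ∃ (j : ι) (c' φ' : Fin m → F), j ≠ i ∧ c' ≠ 0 ∧
      φ' ≠ 0 ∧ φ' ⬝ᵥ c' = 0 ∧ root j c' φ' ∈ M ∧ Commute g (root i c φ * root j c' φ') ∧
      Commute (root j c' φ') (PtG gs) ∧ tv c' φ' ≠ gs j ∧ gs j ≠ 1 := by
  have := hM.neZero
  have hm2 := hM.two_le
  set z := PtG gs with hz
  obtain ⟨hcc, k₁, hk₁0, hk₁, hφe⟩ := root_data hM.ctx h hc hφ hrM
  have hH := hM.ctx.form
  obtain ⟨c₂, φ₂, hφ₂, hc₂0, hφ₂0, hsM', hφ₂c, hφc₂, hne₂⟩ : ∃ c₂ φ₂ : Fin m → F, φ₂ ⬝ᵥ c₂ = 0 ∧ c₂ ≠ 0 ∧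
      φ₂ ≠ 0 ∧ root i c₂ φ₂ ∈ M ∧ φ₂ ⬝ᵥ c = 0 ∧ φ ⬝ᵥ c₂ = 0 ∧ vecMulVec c₂ φ₂ ≠ vecMulVec c φ := by
    by_cases hex : ∃ κ : F, σ κ = κ ∧ κ ≠ 0 ∧ κ ≠ 1
    · obtain ⟨κ, hκ, hκ0, hκ1⟩ := hex
      refine ⟨c, κ • φ, by rw [smul_dotProduct, h, smul_zero], hc, smul_ne_zero hκ0 hφ, ?_,
        by rw [smul_dotProduct, h, smul_zero], h, fun e => ?_⟩
      · rw [hφe, smul_smul, root_eq_urt i c _ (hH.axis_self hcc)]
        exact hM.urt_mem i hcc (by rw [map_mul, hκ, hk₁, mul_neg])
      · obtain ⟨d, hd⟩ := exists_dot_eq_one hφ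
        rw [dotProduct_comm] at hd
        have := congrArg (· *ᵥ d) e
        simp only [vecMulVec_smul, smul_mulVec, vecMulVec_mulVec', hd, one_smul] at this
        refine hκ1 ?_
        by_contra hne
        refine hc ((smul_eq_zero.mp (show (κ - 1) • c = 0 by rw [sub_smul, this, one_smul, sub_self])
          ).resolve_left (sub_ne_zero.mpr hne))
    · have hm4 : 4 ≤ m := by
        by_contra hlt
        exact hex (hM.ctx.par.2 (by have := hM.ctx.par.1; omega))
      obtain ⟨w, hw, hwc, hcw, hind⟩ := exists_iso_orth_indep hH hm4 hc hcc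
      obtain ⟨t, ht0, ht⟩ := exists_traceZero hH.ne_refl hH.invol
      have hw0 : w ≠ 0 := fun e => hind 0 (by rw [zero_smul, e])
      refine ⟨w, t • axis σ H w, by rw [smul_dotProduct, hH.axis_self hw, smul_zero], hw0,
        smul_ne_zero ht0 (hH.axis_ne hw0), ?_, by rw [smul_dotProduct, axis_dot, hcw, smul_zero],
        by rw [hφe, smul_dotProduct, axis_dot, hwc, smul_zero], fun e => ?_⟩
      · rw [root_eq_urt i w _ (hH.axis_self hw)]
        exact hM.urt_mem i hw ht
      · obtain ⟨d, hd⟩ := exists_dot_eq_one (smul_ne_zero ht0 (hH.axis_ne hw0))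
        rw [dotProduct_comm] at hd
        have := congrArg (· *ᵥ d) e
        simp only [vecMulVec_mulVec', hd, one_smul] at this
        exact hind _ this.symm
  set r := root i c φ with hr
  set s := root i c₂ φ₂ with hs
  have hsM : s ∈ M := hsM'
  have htt : tv c₂ φ₂ * tv c φ = tv c φ * tv c₂ φ₂ := by
    apply Units.ext
    rw [Units.val_mul, Units.val_mul, tv_coe h, tv_coe hφ₂]
    simp only [mul_add, add_mul, one_mul, mul_one, vecMulVec_mul_vecMulVec, hφ₂c, hφc₂, zero_smul,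
      vecMulVec_zero]
    abel
  have hsz : Commute s z := by
    show s * z = z * s
    rw [hs, hz, root, embG_eq_PtG, ← map_mul, ← map_mul]
    congr 1
    funext l
    rcases eq_or_ne l i with rfl | hl
    · simp [hgi, htt]
    · simp [hl]
  have hrz : Commute r z := by
    show r * z = z * r
    rw [hr, hz, root, embG_eq_PtG, ← map_mul, ← map_mul]
    congr 1
    funext l
    rcases eq_or_ne l i with rfl | hl
    · simp [hgi]
    · simp [hl]
  have hkiz : Commute k⁻¹ z := hcomm.inv_left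
  set s' := k * s * k⁻¹ with hs'
  have hs'M : s' ∈ M := M.mul_mem (M.mul_mem hk hsM) (M.inv_mem hk)
  have hs'z : Commute s' z := (hcomm.mul_left hsz).mul_left hkiz
  have hsub : Subgroup.closure ({r, s'} : Set (GL (ι → Fin m) F)) ≤ M ⊓ Subgroup.centralizer {z} := by
    rw [Subgroup.closure_le]
    rintro x (rfl | rfl)
    · exact ⟨hrM, Subgroup.mem_centralizer_singleton_iff.mpr hrz⟩
    · exact ⟨hs'M, Subgroup.mem_centralizer_singleton_iff.mpr hs'z⟩
  have hs2 : s * s = 1 := root_mul_self hφ₂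
  have hs'2 : s' * s' = 1 := by
    rw [hs', show k * s * k⁻¹ * (k * s * k⁻¹) = k * (s * s) * k⁻¹ by group, hs2, mul_one, mul_inv_cancel]
  rcases invol_pair (root_mul_self (i := i) h) hs'2 with ⟨q, hq, hqe⟩ | ⟨g, hg, n, hord, hgc⟩
  · -- the two roots are not conjugate in the centraliser
    exfalso
    obtain ⟨hqM, hqz⟩ := hsub hq
    replace hqz : Commute q z := Subgroup.mem_centralizer_singleton_iff.mp hqz
    set y := k⁻¹ * q with hy
    have hyr : y * r * y⁻¹ = s := by
      rw [hy, show k⁻¹ * q * r * (k⁻¹ * q)⁻¹ = k⁻¹ * (q * r * q⁻¹) * k by group, hqe, hs']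
      group
    have hyM : y ∈ M := M.mul_mem (M.inv_mem hk) hqM
    obtain ⟨τ, ys, hys⟩ := hM.mem_of_conj_root hyM h hc hφ hrM (by rw [← hr, hyr]; exact root_mem_wreath i c₂ φ₂)
    have hyz : y * z = z * y := (hkiz.mul_left hqz).eq
    set hs₁ : ι → GL (Fin m) F := ys * (fun l => gs (τ.symm l)) * ys⁻¹ with hhs
    have hyzy : PtG hs₁ = z := by
      have : y * z * y⁻¹ = z := by rw [hyz, mul_inv_cancel_right]
      rw [← this, hys, hz, _root_.mul_inv_rev, hhs, map_mul, map_mul, map_inv, ← mul_assoc (PtG ys * pmG τ * PtG gs),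
        mul_assoc (PtG ys) (pmG τ) (PtG gs), pmG_mul_PtG]
      group
    have hfac : ∀ l, hs₁ l = gs l := fun l => by
      obtain ⟨e, he⟩ := PtG_eq_smul hyzy l
      have h2 : hs₁ l * hs₁ l = 1 := by
        simp only [hhs, Pi.mul_apply, Pi.inv_apply]
        rw [show ys l * gs (τ.symm l) * (ys l)⁻¹ * (ys l * gs (τ.symm l) * (ys l)⁻¹) =
          ys l * (gs (τ.symm l) * gs (τ.symm l)) * (ys l)⁻¹ by group, hsq, mul_one, mul_inv_cancel]
      have h2' := congrArg Units.val h2
      have h3' := congrArg Units.val (hsq l)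
      rw [Units.val_mul, Units.val_one] at h2' h3'
      rw [he] at h3'
      have := smul_eq_one_of_sq h2' h3'
      rw [this, one_smul] at he
      exact Units.ext he.symm
    have hyr' : y * r * y⁻¹ = embG (τ i) (hs₁ (τ i)) := by
      rw [hhs, hys, hr, root, embG_eq_PtG, embG_eq_PtG, _root_.mul_inv_rev,
        ← mul_assoc (PtG ys * pmG τ * PtG (Function.update 1 i (tv c φ))), mul_assoc (PtG ys) (pmG τ), pmG_mul_PtG]
      rw [show PtG ys * ((PtG fun l => Function.update (1 : ι → GL (Fin m) F) i (tv c φ) (τ.symm l)) * pmG τ) *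
        (pmG τ)⁻¹ * (PtG ys)⁻¹ = PtG ys * (PtG fun l => Function.update (1 : ι → GL (Fin m) F) i (tv c φ) (τ.symm l)) *
          (PtG ys)⁻¹ by group, ← map_inv, ← map_mul, ← map_mul]
      congr 1
      funext l
      rcases eq_or_ne l (τ i) with rfl | hl
      · simp [hgi]
      · have : τ.symm l ≠ i := fun e => hl (by rw [← e, Equiv.apply_symm_apply])
        simp [hl, this]
    rw [hyr, hfac, hs, root] at hyr'
    by_cases hτi : τ i = i
    · rw [hτi, hgi] at hyr'
      have h' := congrArg Units.val (embG_injective i hyr')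
      rw [tv_coe hφ₂, tv_coe h, add_right_inj] at h'
      exact hne₂ h'
    · rw [embG_eq_PtG] at hyr'
      obtain ⟨e, he⟩ := exists_scalar_of_PtG_eq_embG hyr' (Ne.symm hτi)
      rw [Function.update_self] at he
      exact tv_ne_smul_one hφ₂ hc₂0 hφ₂0 e he
  · obtain ⟨hgM, hgz⟩ := hsub hg
    replace hgz : Commute g z := Subgroup.mem_centralizer_singleton_iff.mp hgz
    set s'' := g * s' * g⁻¹ with hs''
    have hs''M : s'' ∈ M := M.mul_mem (M.mul_mem hgM hs'M) (M.inv_mem hgM)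
    have hs''2 : s'' * s'' = 1 := by
      rw [hs'', show g * s' * g⁻¹ * (g * s' * g⁻¹) = g * (s' * s') * g⁻¹ by group, hs'2, mul_one, mul_inv_cancel]
    obtain ⟨X, hX2, hrX, hsX, hXle⟩ := exists_two_group (root_mul_self (i := i) h) hs''2
      (n := n + 1) (by rw [← hord, pow_orderOf_eq_one])
    have hXW := hM.le_of_root_mem (hXle.trans ((Subgroup.closure_le _).mpr (by
      rintro x (rfl | rfl)
      · exact hrM
      · exact hs''M))) hX2 h hc hφ hrX
    set y := g * k with hy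
    have hys : y * s * y⁻¹ = s'' := by rw [hy, hs'', hs']; group
    have hyM : y ∈ M := M.mul_mem hgM hk
    have hyW := hM.mem_of_conj_root hyM hφ₂ hc₂0 hφ₂0 hsM (hys ▸ hXW hsX)
    have hgW : g ∉ wreath ι m F := fun hgW => hkW (by
      have := (wreath ι m F).mul_mem ((wreath ι m F).inv_mem hgW) hyW
      rwa [hy, inv_mul_cancel_left] at this)
    have hs''z : Commute s'' z := ((Commute.mul_left hgz hs'z)).mul_left (Commute.inv_left hgz)
    obtain ⟨τ, hτ⟩ := hyW
    obtain ⟨c', φ', hc', hφ', h', he⟩ := hτ.conj_root (i := i) hφ₂ hc₂0 hφ₂0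
    rw [← hs, hys] at he
    have hord' : orderOf (r * s'') = 2 ^ (n + 1) := hord
    by_cases hj : τ i = i
    · exfalso
      rw [hj] at he
      set A := (tv c φ * tv c' φ') ^ 2 ^ n with hA
      have hz' : (r * s'') ^ 2 ^ n = embG i A := by rw [hA, map_pow, map_mul, he]; rfl
      have h1 : (r * s'') ^ 2 ^ n ≠ 1 := pow_ne_one_of_lt_orderOf (by positivity) (by
        rw [hord']; exact Nat.pow_lt_pow_right (by norm_num) (by omega))
      refine hgW (hM.mem_of_comm_embG hgM (i := i) (A := A) ?_ (fun e => h1 (by rw [hz', e, map_one]))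
        (hz' ▸ M.pow_mem (M.mul_mem hrM hs''M) _) ?_)
      · refine embG_injective i ?_
        rw [map_mul, ← hz', ← pow_add, map_one, ← two_mul, ← pow_succ', ← hord', pow_orderOf_eq_one]
      · rw [← hz']; exact hgc.symm
    · have hcm : Commute r s'' := by
        rw [he]; exact embG_comm (Ne.symm hj) _ _
      have hn : n = 0 := by
        by_contra hn
        have h1 : (r * s'') ^ 2 = 1 := by
          rw [hcm.mul_pow, pow_two, pow_two, hs''2, root_mul_self h, one_mul]
        have h2 := orderOf_dvd_of_pow_eq_one h1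
        rw [hord'] at h2
        have := Nat.le_of_dvd (by norm_num) h2
        have : 2 ^ 2 ≤ 2 ^ (n + 1) := Nat.pow_le_pow_right (by norm_num) (by omega)
        omega
      subst hn
      replace hgc : Commute (r * s'') g := by simpa [hs''] using hgc
      refine ⟨g, hgM, hgW, hgz, τ i, c', φ', hj, hc', hφ', h', he ▸ hs''M, he ▸ hgc.symm, he ▸ hs''z, ?_⟩
      -- the new root is not a component
      obtain ⟨ys, hys'⟩ := hτ
      have hyz : Commute y z := Commute.mul_left hgz hcomm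
      set hs₁ : ι → GL (Fin m) F := ys * (fun l => gs (τ.symm l)) * ys⁻¹ with hhs
      have hyzy : PtG hs₁ = z := by
        have : y * z * y⁻¹ = z := by rw [hyz.eq, mul_inv_cancel_right]
        rw [← this, hys', hz, _root_.mul_inv_rev, hhs, map_mul, map_mul, map_inv, ← mul_assoc (PtG ys * pmG τ * PtG gs),
          mul_assoc (PtG ys) (pmG τ) (PtG gs), pmG_mul_PtG]
        group
      obtain ⟨e, he2⟩ := PtG_eq_smul hyzy (τ i)
      have hyr : y * r * y⁻¹ = embG (τ i) (hs₁ (τ i)) := by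
        rw [hhs, hys', hr, root, embG_eq_PtG, embG_eq_PtG, _root_.mul_inv_rev,
          ← mul_assoc (PtG ys * pmG τ * PtG (Function.update 1 i (tv c φ))), mul_assoc (PtG ys) (pmG τ), pmG_mul_PtG]
        rw [show PtG ys * ((PtG fun l => Function.update (1 : ι → GL (Fin m) F) i (tv c φ) (τ.symm l)) * pmG τ) *
          (pmG τ)⁻¹ * (PtG ys)⁻¹ = PtG ys * (PtG fun l => Function.update (1 : ι → GL (Fin m) F) i (tv c φ) (τ.symm l)) *
            (PtG ys)⁻¹ by group, ← map_inv, ← map_mul, ← map_mul]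
        congr 1
        funext l
        rcases eq_or_ne l (τ i) with rfl | hl
        · simp [hgi]
        · have : τ.symm l ≠ i := fun e => hl (by rw [← e, Equiv.apply_symm_apply])
          simp [hl, this]
      have h2' : hs₁ (τ i) * hs₁ (τ i) = 1 := by
        refine embG_injective (τ i) ?_
        rw [map_mul, ← hyr, map_one, show y * r * y⁻¹ * (y * r * y⁻¹) = y * (r * r) * y⁻¹ by group,
          root_mul_self h, mul_one, mul_inv_cancel]
      have h3' := congrArg Units.val (hsq (τ i))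
      have h2'' := congrArg Units.val h2'
      rw [Units.val_mul, Units.val_one] at h2'' h3'
      rw [he2] at h3'
      have hs1 := smul_eq_one_of_sq h2'' h3'
      rw [hs1, one_smul] at he2
      refine ⟨fun hcomp => ?_, fun hone => ?_⟩
      rotate_left
      · rw [Units.ext he2.symm, hone] at hyr
        rw [map_one] at hyr
        have hr1 : r = 1 := by
          have := congrArg (fun u => y⁻¹ * u * y) hyr
          simpa [mul_assoc] using this
        exact tv_ne_one h hc hφ (embG_injective i (by rw [← root, ← hr, hr1, map_one]))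
      have heq : y * s * y⁻¹ = y * r * y⁻¹ := by
        rw [hyr, hys, he, root, hcomp, Units.ext he2]
      have hsr : s = r := mul_left_cancel (mul_right_cancel heq)
      rw [hs, hr, root, root] at hsr
      have h' := congrArg Units.val (embG_injective i hsr)
      rw [tv_coe hφ₂, tv_coe h, add_right_inj] at h'
      exact hne₂ h'

/-- An element commuting with a product of two roots of distinct factors lies in the wreath group. -/
theorem mem_of_comm_two_root {i j : ι} (hij : i ≠ j) {c φ c' φ' : Fin m → F} (h : φ ⬝ᵥ c = 0) (hc : c ≠ 0)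
    (hφ : φ ≠ 0) (h' : φ' ⬝ᵥ c' = 0) (hrM : root i c φ ∈ M) (hcM : root j c' φ' ∈ M) {k : GL (ι → Fin m) F} (hk : k ∈ M)
    (hcomm : Commute k (root i c φ * root j c' φ')) : k ∈ wreath ι m F := by
  have := hM.neZero
  by_contra hkW
  set gs : ι → GL (Fin m) F := Function.update (Function.update 1 i (tv c φ)) j (tv c' φ') with hgs
  have hz : root i c φ * root j c' φ' = PtG gs := by
    rw [root, root, embG_eq_PtG, embG_eq_PtG, ← map_mul]
    congr 1
    funext l
    simp only [hgs, Pi.mul_apply]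
    rcases eq_or_ne l j with rfl | hl
    · simp [hij.symm]
    · simp [hl]
  rw [hz] at hcomm
  have htt : ∀ {d ψ : Fin m → F}, ψ ⬝ᵥ d = 0 → tv d ψ * tv d ψ = 1 := fun {d ψ} hd => by
    rw [tv_mul_left hd hd, show d + d = 0 by funext q; exact CharTwo.add_self_eq_zero _, tv_zero_left]
  have hsq : ∀ l, gs l * gs l = 1 := fun l => by
    simp only [hgs]
    rcases eq_or_ne l j with rfl | hl
    · simp [htt h']
    rcases eq_or_ne l i with rfl | hl'
    · simp [hl, htt h]
    · simp [hl, hl']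
  obtain ⟨g, hg, hgW, hgz, j', d, ψ, hj', hd, hψ, hdψ, hdM, hgc, hcz, hne, hone⟩ :=
    hM.exists_two_root_of_comm (i := i) hsq h hc hφ (by simp [hgs, hij]) hrM hk hkW hcomm
  rcases eq_or_ne j' j with rfl | hj
  · -- the product of the two is an involution of one factor
    have hzz : PtG gs * (root i c φ * root j' d ψ) = embG j' (tv c' φ' * tv d ψ) := by
      rw [← hz, map_mul]
      rw [show root i c φ * root j' c' φ' * (root i c φ * root j' d ψ) =
        root i c φ * (root j' c' φ' * root i c φ) * root j' d ψ by group,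
        show root j' c' φ' * root i c φ = root i c φ * root j' c' φ' from (embG_comm hij _ _).symm,
        ← mul_assoc, root_mul_self h, one_mul]
      rfl
    have hct : tv c' φ' * tv d ψ = tv d ψ * tv c' φ' := by
      refine embG_injective j' ?_
      rw [map_mul, map_mul]
      have e := hcz.eq
      rw [← hz] at e
      simp only [root] at e
      refine mul_left_cancel (a := embG i (tv c φ)) ?_
      rw [← mul_assoc, ← e, ← mul_assoc, ← mul_assoc, embG_comm hij]
    refine hgW (hM.mem_of_comm_embG hg (i := j') ?_ (fun e => ?_) (hzz ▸ hz ▸ M.mul_mem (M.mul_mem hrM hcM) (M.mul_mem hrM hdM)) (hzz ▸ hgz.mul_right hgc))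
    · rw [show tv c' φ' * tv d ψ * (tv c' φ' * tv d ψ) = tv c' φ' * (tv d ψ * tv c' φ') * tv d ψ by group,
        ← hct, show tv c' φ' * (tv c' φ' * tv d ψ) * tv d ψ = (tv c' φ' * tv c' φ') * (tv d ψ * tv d ψ) by group,
        htt h', htt hdψ, one_mul]
    · apply hne
      rw [hgs, Function.update_self]
      calc tv d ψ = (tv c' φ' * tv c' φ') * tv d ψ := by rw [htt h', one_mul]
        _ = tv c' φ' := by rw [mul_assoc, e, mul_one]
  · -- otherwise the component is trivial
    exact hone (by simp [hgs, hj, hj'])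

/-- An element commuting with a product of three roots, two in distinct factors, lies in the wreath group. -/
theorem mem_of_comm_three {i a b : ι} {c φ c₁ φ₁ c₃ φ₃ : Fin m → F} (h : φ ⬝ᵥ c = 0) (hc : c ≠ 0) (hφ : φ ≠ 0)
    (h₁ : φ₁ ⬝ᵥ c₁ = 0) (hc₁ : c₁ ≠ 0) (hφ₁ : φ₁ ≠ 0) (h₃ : φ₃ ⬝ᵥ c₃ = 0) (hc₃ : c₃ ≠ 0) (hφ₃ : φ₃ ≠ 0)
    (hab : a ≠ b) (hM₁ : root a c₁ φ₁ ∈ M) (hM₃ : root b c₃ φ₃ ∈ M) {k : GL (ι → Fin m) F} (hk : k ∈ M)
    (hcomm : Commute k (root i c φ * (root a c₁ φ₁ * root b c₃ φ₃)))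
    (hz2 : root i c φ * (root a c₁ φ₁ * root b c₃ φ₃) * (root i c φ * (root a c₁ φ₁ * root b c₃ φ₃)) = 1) :
    k ∈ wreath ι m F := by
  have := hM.neZero
  by_contra hkW
  set gs : ι → GL (Fin m) F := Function.update (1 : ι → GL (Fin m) F) i (tv c φ) *
    (Function.update (1 : ι → GL (Fin m) F) a (tv c₁ φ₁) * Function.update (1 : ι → GL (Fin m) F) b (tv c₃ φ₃)) with hgs
  have hz : root i c φ * (root a c₁ φ₁ * root b c₃ φ₃) = PtG gs := by
    rw [root, root, root, embG_eq_PtG, embG_eq_PtG, embG_eq_PtG, ← map_mul, ← map_mul]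
  rw [hz] at hcomm hz2
  have htt : ∀ {d ψ : Fin m → F}, ψ ⬝ᵥ d = 0 → tv d ψ * tv d ψ = 1 := fun {d ψ} hd => by
    rw [tv_mul_left hd hd, show d + d = 0 by funext q; exact CharTwo.add_self_eq_zero _, tv_zero_left]
  have hsqne : ∀ l, l ≠ i → gs l * gs l = 1 := fun l hl => by
    simp only [hgs, Pi.mul_apply, Function.update_of_ne hl, Pi.one_apply, one_mul]
    rcases eq_or_ne l a with rfl | hla
    · simp [hab, htt h₁]
    rcases eq_or_ne l b with rfl | hlb
    · simp [hla, htt h₃]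
    · simp [hla, hlb]
  have hsq : ∀ l, gs l * gs l = 1 := fun l => by
    by_cases hl : l = i
    · subst hl
      refine embG_injective l ?_
      rw [map_one, ← hz2, embG_eq_PtG, ← map_mul]
      congr 1
      funext q
      rcases eq_or_ne q l with rfl | hq
      · simp
      · simp [hq, hsqne q hq]
    · exact hsqne l hl
  obtain ⟨l, d, ψ, hdψ, hd, hψ, hl, hlM⟩ :
      ∃ l d ψ, ψ ⬝ᵥ d = 0 ∧ d ≠ 0 ∧ ψ ≠ 0 ∧ gs l = tv d ψ ∧ root l d ψ ∈ M := by
    rcases eq_or_ne i a with rfl | hia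
    · exact ⟨b, c₃, φ₃, h₃, hc₃, hφ₃, by simp [hgs, hab.symm], hM₃⟩
    · exact ⟨a, c₁, φ₁, h₁, hc₁, hφ₁, by simp [hgs, hia.symm, hab], hM₁⟩
  obtain ⟨g, hg, hgW, -, j, c', φ', hj, hc', hφ', h', hjM, hgc, -⟩ :=
    hM.exists_two_root_of_comm hsq hdψ hd hψ hl hlM hk hkW hcomm
  exact hgW (hM.mem_of_comm_two_root (Ne.symm hj) hdψ hd hψ h' hlM hjM hg hgc)

/-- There is no rigid overgroup outside the wreath group. -/
theorem le_wreath_of_char_two [Nontrivial ι] : M ≤ wreath ι m F := by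
  have := hM.neZero
  have hH := hM.ctx.form
  have hs := hH.sesq
  intro k₀ hk₀
  by_contra hk₀W
  obtain ⟨i, j, hij⟩ := exists_pair_ne ι
  have hcom : ∀ (u v x y : Fin m → F), Commute (root i u x) (root j v y) := fun u v x y => embG_comm hij _ _
  obtain ⟨d, φd, c, φ, hd, hc, hd0, hc0, hφd, hφ, hdM, hcM, hcM', hdk⟩ : ∃ d φd c φ : Fin m → F,
      φd ⬝ᵥ d = 0 ∧ φ ⬝ᵥ c = 0 ∧ d ≠ 0 ∧ c ≠ 0 ∧ φd ≠ 0 ∧ φ ≠ 0 ∧ root i d φd ∈ M ∧ root j c φ ∈ M ∧
      root i c φ ∈ M ∧ k₀ * (root i d φd * root j c φ) * k₀⁻¹ ∉ wreath ι m F := by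
    by_contra hcon
    push Not at hcon
    set L := (wreath ι m F).comap (MulAut.conj k₀).toMonoidHom with hL
    obtain ⟨u, -, hu0, hu⟩ := exists_iso_mem hH.isUnitary ⊤
      (by rw [finrank_top, Module.finrank_fin_fun]; exact hM.two_le)
    obtain ⟨t, ht0, ht⟩ := exists_traceZero hH.ne_refl hH.invol
    have hpair : ∀ (s₁ s₂ : F) (x y : Fin m → F), σ s₁ = -s₁ → s₁ ≠ 0 → hm σ H x x = 0 → x ≠ 0 →
        σ s₂ = -s₂ → s₂ ≠ 0 → hm σ H y y = 0 → y ≠ 0 → urt σ H i s₁ x * urt σ H i s₂ y ∈ L := by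
      intro s₁ s₂ x y hs₁ hs₁0 hx hx0 hs₂ hs₂0 hy hy0
      have hL1 : ∀ (s : F) (z : Fin m → F), σ s = -s → s ≠ 0 → hm σ H z z = 0 → z ≠ 0 →
          urt σ H i s z * urt σ H j t u ∈ L := fun s z hsk hs0 hz hz0 =>
        hcon _ _ _ _ (root_orth hH hz s) (root_orth hH hu t) (smul_ne_zero hs0 hz0) (smul_ne_zero ht0 hu0)
          (hH.axis_ne hz0) (hH.axis_ne hu0) (hM.urt_mem i hz hsk) (hM.urt_mem j hu ht) (hM.urt_mem i hu ht)
      have e := L.mul_mem (hL1 s₁ x hs₁ hs₁0 hx hx0) (hL1 s₂ y hs₂ hs₂0 hy hy0)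
      rwa [Commute.mul_mul_mul_comm (show Commute (urt σ H j t u) (urt σ H i s₂ y) from (hcom _ _ _ _).symm),
        show urt σ H j t u * urt σ H j t u = 1 from root_mul_self (root_orth hH hu t), mul_one] at e
    obtain ⟨s₀, hs₀, hs₀0, hroot⟩ : ∃ s₀, σ s₀ = -s₀ ∧ s₀ ≠ 0 ∧ urt σ H i s₀ u ∈ L := by
      by_cases hex : ∃ κ : F, σ κ = κ ∧ κ ≠ 0 ∧ κ ≠ 1
      · obtain ⟨κ, hκ, hκ0, hκ1⟩ := hex
        have hkt : σ (κ * t) = -(κ * t) := by rw [map_mul, hκ, ht, mul_neg]
        refine ⟨t + κ * t, by rw [map_add, ht, hkt, neg_add], ?_, ?_⟩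
        · rw [show t + κ * t = (1 + κ) * t by ring]
          refine mul_ne_zero (fun e => hκ1 ?_) ht0
          rw [eq_neg_of_add_eq_zero_right e, CharTwo.neg_eq]
        · rw [urt_mul hH i hu]
          exact hpair t (κ * t) u u ht ht0 hu hu0 hkt (mul_ne_zero hκ0 ht0) hu hu0
      · have hm4 : 4 ≤ m := by
          by_contra hlt
          exact hex (hM.ctx.par.2 (by have := hM.ctx.par.1; omega))
        obtain ⟨w, hw, hwu, huw, hind⟩ := exists_iso_orth_indep hH hm4 hu0 hu
        obtain ⟨ω, hω⟩ := trace_surjective hH.ne_refl hH.invol (a := (1 : F)) (map_one σ)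
        refine ⟨t, ht, ht0, ?_⟩
        have hw0 : w ≠ 0 := fun e => hind 0 (by rw [zero_smul, e])
        have hiso : ∀ a b : F, hm σ H (u + a • w) (u + b • w) = 0 ∧ hm σ H (u + a • w) w = 0 := fun a b => by
          simp [hs.add_left, hs.add_right, hs.smul_left, hs.smul_right, hu, hw, huw, hwu]
        have hne : ∀ a : F, u + a • w ≠ 0 := fun a e => by
          rcases eq_or_ne a 0 with rfl | ha
          · rw [zero_smul, add_zero] at e; exact hu0 e
          · refine hind (-a⁻¹) ?_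
            have e' := congrArg (a⁻¹ • ·) (eq_neg_of_add_eq_zero_left e)
            simp only [smul_neg, smul_smul, inv_mul_cancel₀ ha, one_smul] at e'
            rw [neg_smul, e', neg_neg]
        have e4 := L.mul_mem (hpair t t _ _ ht ht0 (hiso 1 1).1 (hne 1) ht ht0 (hiso ω ω).1 (hne ω))
          (hpair t t _ _ ht ht0 (hiso (σ ω) (σ ω)).1 (hne (σ ω)) ht ht0 hw hw0)
        convert e4 using 1
        apply Units.ext
        simp only [Units.val_mul, urt_val hH i (hiso 1 1).1, urt_val hH i (hiso ω ω).1,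
          urt_val hH i (hiso (σ ω) (σ ω)).1, urt_val hH i hw, urt_val hH i hu, ← emb_smul]
        have hz : ∀ {x y : Fin m → F}, hm σ H y x = 0 →
            (t • cen σ H x) * (t • cen σ H y) = (0 : Matrix (Fin m) (Fin m) F) := fun {x y} hxy => by
          rw [smul_mul_smul_comm, cen_mul_cen, hxy, zero_smul, smul_zero]
        have e : ∀ (A B : Matrix (Fin m) (Fin m) F), A * B = 0 →
            (1 + emb (ι := ι) i A) * (1 + emb i B) = 1 + emb i (A + B) := fun A B h => by
          rw [mul_add, mul_one, add_mul, one_mul, ← emb_mul, h, emb_zero, emb_add]; abel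
        have hwx : ∀ a : F, hm σ H w (u + a • w) = 0 := fun a => unitary_orth_symm hH.isUnitary (hiso a a).2
        rw [e _ _ (hz (hiso ω 1).1), e _ _ (hz (hwx _)), e _ _ (by
          simp only [add_mul, mul_add, hz (hiso _ _).1, hz (hwx _), add_zero])]
        congr 2
        rw [← smul_add, ← smul_add, ← smul_add]
        congr 1
        have h2 : (2 : F) = 0 := CharTwo.two_eq_zero
        ext p q
        simp only [cen, ← leftVec_eq, hs.leftVec_add, hs.leftVec_smul, vecMulVec_apply, Matrix.add_apply,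
          Pi.add_apply, Pi.smul_apply, smul_eq_mul, map_one, one_mul]
        linear_combination
          (-(u p * leftVec (hm σ H) u q) - u p * leftVec (hm σ H) w q - w p * leftVec (hm σ H) u q
            - (1 + ω * σ ω) * (w p * leftVec (hm σ H) w q)) * h2
          - (u p * leftVec (hm σ H) w q + w p * leftVec (hm σ H) u q) * hω
          + (0 : F) * hH.invol ω - (w p * σ ω * leftVec (hm σ H) w q + u p * leftVec (hm σ H) w q) * hH.invol ω
    exact hk₀W (hM.mem_of_conj_root hk₀ (root_orth hH hu s₀) (smul_ne_zero hs₀0 hu0) (hH.axis_ne hu0)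
      (hM.urt_mem i hu hs₀) hroot)
  set a := root i d φd * root j c φ with ha
  have haM : a ∈ M := M.mul_mem hdM hcM
  have ha2 : a * a = 1 := by
    rw [ha, Commute.mul_mul_mul_comm (hcom d c φd φ).symm, root_mul_self hd, root_mul_self hc, one_mul]
  set r := root i c φ with hr
  have hrM : r ∈ M := hcM'
  set a' := k₀ * a * k₀⁻¹ with ha'
  have ha'M : a' ∈ M := M.mul_mem (M.mul_mem hk₀ haM) (M.inv_mem hk₀)
  have ha'2 : a' * a' = 1 := by
    rw [ha', show k₀ * a * k₀⁻¹ * (k₀ * a * k₀⁻¹) = k₀ * (a * a) * k₀⁻¹ by group, ha2, mul_one, mul_inv_cancel]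
  have hcl : Subgroup.closure ({r, a'} : Set (GL (ι → Fin m) F)) ≤ M := by
    rw [Subgroup.closure_le]; rintro x (rfl | rfl) <;> assumption
  rcases invol_pair (root_mul_self (i := i) hc) ha'2 with ⟨q, hq, hqe⟩ | ⟨g, hg, n, hord, hgc⟩
  · have hqM := hcl hq
    have hyr : (k₀⁻¹ * q) * r * (k₀⁻¹ * q)⁻¹ = a := by
      rw [show k₀⁻¹ * q * r * (k₀⁻¹ * q)⁻¹ = k₀⁻¹ * (q * r * q⁻¹) * k₀ by group, hqe, ha']; group
    obtain ⟨τ, hτ⟩ := hM.mem_of_conj_root (M.mul_mem (M.inv_mem hk₀) hqM) hc hc0 hφ hrM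
      (by rw [← hr, hyr]; exact (wreath ι m F).mul_mem (root_mem_wreath i d φd) (root_mem_wreath j c φ))
    obtain ⟨e, ψ, he, hψ, heψ, hce⟩ := hτ.conj_root (i := i) hc hc0 hφ
    rw [← hr, hyr, ha, root, root, root, embG_eq_PtG, embG_eq_PtG, ← map_mul] at hce
    rcases eq_or_ne (τ i) i with hti | hti
    · rw [hti] at hce
      obtain ⟨l, hl⟩ := exists_scalar_of_PtG_eq_embG hce (k := j) hij.symm
      simp [hij.symm] at hl
      exact tv_ne_smul_one hc hc0 hφ l hl
    · obtain ⟨l, hl⟩ := exists_scalar_of_PtG_eq_embG hce (k := i) (Ne.symm hti)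
      simp [hij] at hl
      exact tv_ne_smul_one hd hd0 hφd l hl
  set a'' := g * a' * g⁻¹ with ha''
  have hgM := hcl hg
  have ha''M : a'' ∈ M := M.mul_mem (M.mul_mem hgM ha'M) (M.inv_mem hgM)
  have ha''2 : a'' * a'' = 1 := by
    rw [ha'', show g * a' * g⁻¹ * (g * a' * g⁻¹) = g * (a' * a') * g⁻¹ by group, ha'2, mul_one, mul_inv_cancel]
  obtain ⟨X, hX2, hrX, haX, hXle⟩ := exists_two_group (root_mul_self (i := i) hc) ha''2
    (n := n + 1) (by rw [← hord, pow_orderOf_eq_one])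
  have hXW := hM.le_of_root_mem (hXle.trans ((Subgroup.closure_le _).mpr (by
    rintro x (rfl | rfl)
    · exact hrM
    · exact ha''M))) hX2 hc hc0 hφ hrX
  have hgW : g ∉ wreath ι m F := fun hgW => hdk (by
    have := (wreath ι m F).mul_mem ((wreath ι m F).mul_mem ((wreath ι m F).inv_mem hgW) (hXW haX)) hgW
    rwa [ha'', show g⁻¹ * (g * a' * g⁻¹) * g = a' by group] at this)
  have hord' : orderOf (r * a'') = 2 ^ (n + 1) := hord
  rcases Nat.eq_zero_or_pos n with hn | hn
  · subst hn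
    replace hgc : Commute (r * a'') g := by simpa [ha''] using hgc
    have hcm : Commute r a'' := by
      have h1 : (r * a'') ^ 2 = 1 := by rw [show 2 = 2 ^ (0 + 1) from rfl, ← hord', pow_orderOf_eq_one]
      rw [pow_two] at h1
      show r * a'' = a'' * r
      have h2 := eq_inv_of_mul_eq_one_left h1
      rw [_root_.mul_inv_rev, inv_eq_of_mul_eq_one_right (root_mul_self (i := i) hc),
        inv_eq_of_mul_eq_one_right ha''2] at h2
      exact h2
    set y := g * k₀ with hy
    have hya : a'' = y * a * y⁻¹ := by rw [hy, ha'', ha']; group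
    have hyM : y ∈ M := M.mul_mem hgM hk₀
    have hcy : Commute (y⁻¹ * r * y) a := by
      show y⁻¹ * r * y * a = a * (y⁻¹ * r * y)
      have := congrArg (fun u => y⁻¹ * u * y) hcm.eq
      rw [hya] at this
      convert this using 1 <;> group
    have h1W := hM.mem_of_comm_two_root hij hd hd0 hφd hc hdM hcM (M.mul_mem (M.mul_mem (M.inv_mem hyM) hrM) hyM) hcy
    obtain ⟨τ, hτ⟩ : y ∈ wreath ι m F := by
      have := hM.mem_of_conj_root (M.inv_mem hyM) hc hc0 hφ hrM (by rwa [inv_inv])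
      rwa [inv_mem_iff] at this
    obtain ⟨c₁, φ₁, hc₁, hφ₁, h₁, he₁⟩ := hτ.conj_root (i := i) hd hd0 hφd
    obtain ⟨c₃, φ₃, hc₃, hφ₃, h₃, he₃⟩ := hτ.conj_root (i := j) hc hc0 hφ
    have hae : a'' = root (τ i) c₁ φ₁ * root (τ j) c₃ φ₃ := by rw [hya, ha, ← he₁, ← he₃]; group
    have hne : τ i ≠ τ j := fun e => hij (τ.injective e)
    have hz2 : (r * a'') * (r * a'') = 1 := by
      rw [← pow_two, show 2 = 2 ^ (0 + 1) from rfl, ← hord', pow_orderOf_eq_one]
    rw [hae] at hgc hz2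
    exact hgW (hM.mem_of_comm_three hc hc0 hφ h₁ hc₁ hφ₁ h₃ hc₃ hφ₃ hne
      (he₁ ▸ M.mul_mem (M.mul_mem hyM hdM) (M.inv_mem hyM))
      (he₃ ▸ M.mul_mem (M.mul_mem hyM hcM) (M.inv_mem hyM)) hgM hgc.symm hz2)
  · obtain ⟨τ, hτ⟩ := hXW haX
    obtain ⟨c₂', φ₂', hc₂', hφ₂', h₂', he⟩ := hτ.conj_root (i := i) hc hc0 hφ
    have hsq : (r * a'') ^ 2 = r * root (τ i) c₂' φ₂' := by
      rw [← he, inv_eq_of_mul_eq_one_right ha''2, pow_two, hr]; group
    have hz : (r * a'') ^ 2 ^ n = (r * root (τ i) c₂' φ₂') ^ 2 ^ (n - 1) := by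
      rw [← hsq, ← pow_mul, ← pow_succ', show n - 1 + 1 = n by omega]
    have hne1 : (r * a'') ^ 2 ^ n ≠ 1 := pow_ne_one_of_lt_orderOf (by positivity) (by
      rw [hord']; exact Nat.pow_lt_pow_right (by norm_num) (by omega))
    have hzz : (r * a'') ^ 2 ^ n * (r * a'') ^ 2 ^ n = 1 := by
      rw [← pow_add, ← two_mul, ← pow_succ', ← hord', pow_orderOf_eq_one]
    have hgc' : Commute g ((r * a'') ^ 2 ^ n) := hgc.symm
    rw [hz] at hne1 hzz hgc'
    rcases eq_or_ne (τ i) i with hti | hti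
    · rw [hti, hr, root, root, ← map_mul, ← map_pow] at hne1 hzz hgc'
      refine hgW (hM.mem_of_comm_embG hgM (i := i) (A := (tv c φ * tv c₂' φ₂') ^ 2 ^ (n - 1)) ?_ (fun e => hne1 ?_) ?_ hgc')
      · refine embG_injective i ?_; rwa [map_mul, map_one]
      · rw [e, map_one]
      · rw [map_pow, map_mul]
        refine M.pow_mem (M.mul_mem hrM ?_) _
        have := M.mul_mem (M.mul_mem ha''M hrM) (M.inv_mem ha''M)
        rwa [hr, he, hti] at this
    · have hcm : Commute r (root (τ i) c₂' φ₂') := embG_comm (Ne.symm hti) _ _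
      have hn1 : n - 1 = 0 := by
        by_contra hh
        apply hne1
        obtain ⟨l, hl⟩ : ∃ l, n - 1 = l + 1 := ⟨n - 2, by omega⟩
        rw [hl, pow_succ', pow_mul, hcm.mul_pow, pow_two, pow_two, root_mul_self hc, root_mul_self h₂',
          one_mul, one_pow]
      rw [hn1, pow_zero, pow_one] at hgc'
      exact hgW (hM.mem_of_comm_two_root (Ne.symm hti) hc hc0 hφ h₂' hrM (he ▸ M.mul_mem (M.mul_mem ha''M hrM) (M.inv_mem ha''M)) hgM hgc')

end Rigid

end CfsgLib.TWU
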