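import Cfsg.Agent.TensorWreathUni.Stab
import Cfsg.Agent.TensorWreathUni.Odd
import Cfsg.Agent.TensorWreathUni.Two
import Cfsg.Agent.TensorWreathUni.Generate
import Cfsg.Agent.TensorWreathSp.Recursion
import Cfsg.Agent.TensorWreath.Main
import Cfsg.Agent.TensorUnitary.Main

/-!
# Maximality of tensor wreath stabilisers in special unitary groups
-/

set_option autoImplicit false
set_option linter.unusedSectionVars false
set_option linter.unusedSimpArgs false

namespace CfsgLib.TWU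

open Matrix Cfsg.Geo CfsgLib.MaxSub CfsgLib.TWreath
open CfsgLib.TWSp (kr gram proj)
open CfsgLib.TensorUnitary (isom su pMat IsCentre)

variable {F : Type*} [Field F] [Finite F] {σ : F ≃+* F} {m : ℕ} {H : Matrix (Fin m) (Fin m) F}
variable {ι : Type} [Fintype ι] [DecidableEq ι] {M : Subgroup (GL (ι → Fin m) F)}

theorem lift_eq_of_map {i j : ι} {c c' : Fin m → F} (hc : c ≠ 0) (hc' : c' ≠ 0) {y : GL (ι → Fin m) F}
    (hmap : (block i c).map (Matrix.mulVecLin (y : Matrix (ι → Fin m) (ι → Fin m) F)) ≤ block j c') :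
    (block i c).map (Matrix.mulVecLin (y : Matrix (ι → Fin m) (ι → Fin m) F)) = block j c' :=
  Submodule.eq_of_le_of_finrank_eq hmap (by
    rw [← (Submodule.equivMapOfInjective _ (mulVec_injective_iff_isUnit.mpr y.isUnit) _).finrank_eq,
      finrank_block hc, finrank_block hc'])

theorem Ctx.iso_of_map (hC : Ctx σ H M) {i j : ι} {c c' : Fin m → F} (hc : c ≠ 0) (hcc : hm σ H c c = 0)
    (hc' : c' ≠ 0) {y : GL (ι → Fin m) F} (hy : y ∈ M)
    (hmap : (block i c).map (Matrix.mulVecLin (y : Matrix (ι → Fin m) (ι → Fin m) F)) ≤ block j c') :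
    hm σ H c' c' = 0 := by
  have : NeZero m := ⟨by have := hC.par.1; omega⟩
  have hw0 : (fun _ => 1 : Rest j m → F) ≠ 0 := fun h => one_ne_zero (congrFun h fun _ => 0)
  obtain ⟨w, hw⟩ := ((uForm_gram (ι := {k // k ≠ j}) hC.form).isUnitary.nondegenerate _ hw0).2
  have hmem : ∀ u, ∃ x, (y : Matrix (ι → Fin m) (ι → Fin m) F) *ᵥ lift i c x = lift j c' u := fun u => by
    obtain ⟨v, hv, hvu⟩ := (lift_eq_of_map hc hc' hmap).ge (lift_mem_block j c' u)
    obtain ⟨x, rfl⟩ := exists_lift_of_mem_block hc hv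
    exact ⟨x, hvu⟩
  obtain ⟨x, hx⟩ := hmem fun _ => 1
  obtain ⟨x', hx'⟩ := hmem w
  have e := hC.iso hy (lift i c x) (lift i c x')
  rw [hx, hx', hm_lift, hm_lift, hcc, zero_mul] at e
  exact (mul_eq_zero.mp e).resolve_right hw

/-- The conjugates of the other factors by an element fusing blocks at isotropic points. -/
theorem Ctx.conj_mem_of_fusion (hC : Ctx σ H M)
    (hstab : ∀ (i : ι) (c : Fin m → F), c ≠ 0 → hm σ H c c = 0 → ∀ z ∈ M,
      (block i c).map (Matrix.mulVecLin (z : Matrix (ι → Fin m) (ι → Fin m) F)) ≤ block i c → z ∈ wreath ι m F)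
    {y : GL (ι → Fin m) F} (hy : y ∈ M) {i j : ι} {c c' : Fin m → F} (hc : c ≠ 0) (hcc : hm σ H c c = 0)
    (hc' : c' ≠ 0) (hmap : (block i c).map (Matrix.mulVecLin (y : Matrix (ι → Fin m) (ι → Fin m) F)) ≤ block j c')
    {l : ι} (hl : l ≠ i) {u : Fin m → F} (hu : hm σ H u u = 0) {s : F} (hs : σ s = -s) :
    y * urt σ H l s u * y⁻¹ ∈ wreath ι m F := by
  refine hstab j c' hc' (hC.iso_of_map hc hcc hc' hy hmap) _
    (M.mul_mem (M.mul_mem hy (hC.factors.urt_mem hC.form l hu hs)) (M.inv_mem hy)) ?_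
  rintro _ ⟨x, hx, rfl⟩
  obtain ⟨v, hv, rfl⟩ := (lift_eq_of_map hc hc' hmap).ge hx
  obtain ⟨w, rfl⟩ := exists_lift_of_mem_block hc hv
  rw [mulVecLin_apply, mulVecLin_apply, mulVec_mulVec, ← Units.val_mul, inv_mul_cancel_right, Units.val_mul,
    ← mulVec_mulVec]
  refine hmap ⟨_, ?_, rfl⟩
  have e : (urt σ H l s u : Matrix (ι → Fin m) (ι → Fin m) F) =
      oth i (urt σ H (⟨l, hl⟩ : {k // k ≠ i}) s u : Matrix (Rest i m) (Rest i m) F) := by
    rw [← othG_val, othG_urt]
  rw [e, oth_mulVec_lift]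
  exact lift_mem_block _ _ _

/-- An overgroup of the factors outside the wreath group contains elementary tensors on two factors. -/
theorem exists_el_aux : ∀ (n : ℕ) (ι : Type) [Fintype ι] [DecidableEq ι] [Nonempty ι], Fintype.card ι = n →
    ∀ M : Subgroup (GL (ι → Fin m) F), Ctx σ H M → ¬ M ≤ wreath ι m F →
      ∃ T : Finset ι, 2 ≤ T.card ∧ El σ H M T := by
  intro n
  induction n using Nat.strong_induction_on with
  | _ n ih =>
  intro ι _ _ _ hn M hC hMW
  classical
  by_contra hcon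
  push Not at hcon
  have hnt : Nontrivial ι := by
    rcases subsingleton_or_nontrivial ι with h | h
    · exact absurd (fun g _ => TWSp.wreath_eq_top (fun a b => Subsingleton.elim a b) g) hMW
    · exact h
  have hstab : ∀ (i : ι) (c : Fin m → F), c ≠ 0 → hm σ H c c = 0 → ∀ z ∈ M,
      (block i c).map (Matrix.mulVecLin (z : Matrix (ι → Fin m) (ι → Fin m) F)) ≤ block i c →
        z ∈ wreath ι m F := by
    intro i c hc hcc z hz hzb
    refine hC.stab_mem_wreath hcon hc hcc (fun N hN hNW => ?_) hz hzb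
    have : Nonempty {j // j ≠ i} := let ⟨l, hl⟩ := exists_ne i; ⟨⟨l, hl⟩⟩
    exact ih _ (by rw [← hn]; exact Fintype.card_subtype_lt (x := i) (by simp)) {j // j ≠ i} rfl N hN hNW
  have hH := hC.form
  have hf := hH.isUnitary
  obtain ⟨p, hp'⟩ := CharP.exists F
  have : Fact p.Prime := ⟨CharP.char_is_prime F p⟩
  have hR : Rigid σ H M := ⟨hC, fun y hy i j c c' hc hcc hc' hmap => by
    refine mem_wreath_of_conj_urt hH hC.par fun l u hu0 hu s hs => ?_
    rcases ne_or_eq l i with hl | rfl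
    · exact hC.conj_mem_of_fusion hstab hy hc hcc hc' hmap hl hu hs
    obtain ⟨l₁, hl₁⟩ := exists_ne l
    obtain ⟨s₁, j₁, c₁, φ₁, hs₁, -, hc₁, hφ₁, h₁, he⟩ := exists_root_of_conj_urt hH hC.par hc hcc
      (S := y) (i := l₁) fun s₂ hs₂ => hC.conj_mem_of_fusion hstab hy hc hcc hc' hmap hl₁ hcc hs₂
    refine hC.conj_mem_of_fusion hstab hy hc hcc hc₁ (i := l₁) (j := j₁) ?_ hl₁.symm hu hs
    have h0 := root_orth hH hcc s₁
    rw [← block_smul_eq (i := l₁) (c := c) hs₁, block_eq_range (hH.axis_ne hc), block_eq_range hφ₁,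
      ← root_sub_one h0, ← root_sub_one h₁]
    rintro _ ⟨_, ⟨w, rfl⟩, rfl⟩
    refine ⟨(y : Matrix (ι → Fin m) (ι → Fin m) F) *ᵥ w, ?_⟩
    simp only [mulVecLin_apply]
    rw [← he, conj_sub_one, mulVec_mulVec, mul_assoc, Units.inv_mul, mul_one, mulVec_mulVec]
    rfl⟩
  rcases eq_or_ne p 2 with rfl | hp2
  · exact hMW hR.le_wreath_of_char_two
  · exact hMW (hR.le_wreath_of_char_odd hp2)

/-- Factor permutations are isometries. -/
theorem pmG_mem_isom (π : Equiv.Perm ι) : (pmG π : GL (ι → Fin m) F) ∈ isom (hm σ (gram ι H)) := by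
  intro x y
  have e1 : (fun a => σ ((pm π *ᵥ y) a)) = pm π *ᵥ fun a => σ (y a) := by
    rw [pm_mulVec, pm_mulVec]
  rw [pmG_val, hm, hm, e1, mulVec_mulVec, show TWSp.gram ι H * pm π = pm π * TWSp.gram ι H from
    (pm_mul_Pt π fun _ => H).symm, ← mulVec_mulVec, pm_mulVec, pm_mulVec]
  exact Fintype.sum_bijective (fun a => a ∘ π)
    ((Equiv.arrowCongr π.symm (Equiv.refl (Fin m))).bijective) _ _ fun a => rfl

/-- An element of the special unitary group of the power outside the wreath group. -/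
theorem exists_not_mem_wreath [Nontrivial ι] (hH : UForm σ H) (hm3 : 3 ≤ m) :
    ∃ x ∈ su (hm σ (gram ι H)), x ∉ wreath ι m F := by
  classical
  have hf := hH.isUnitary
  have hs := hH.sesq
  have hG := uForm_gram (ι := ι) hH
  obtain ⟨c, -, hc, hcc⟩ := exists_iso_mem hf ⊤ (by rw [finrank_top, Module.finrank_fin_fun]; omega)
  obtain ⟨d, -, hdc, -⟩ := TensorUnitary.exists_partner hf hc hcc
  have hd : d ≠ 0 := fun h => zero_ne_one (by rw [← hdc, h, hs.zero_left])
  obtain ⟨l, l', hll⟩ := exists_pair_ne ι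
  obtain ⟨t, ht0, ht⟩ := exists_traceZero hH.ne_refl hH.invol
  set v := pten fun _ : ι => c with hv
  have hvv : hm σ (gram ι H) v v = 0 := by
    rw [hv, hm_pten]; exact Finset.prod_eq_zero (Finset.mem_univ l) hcc
  refine ⟨tv (t • v) (leftVec (hm σ (gram ι H)) v), TensorUnitary.tv_mem_su hG.isUnitary hvv ht, ?_⟩
  rintro ⟨π, hπ⟩
  obtain ⟨zs, -, hzs⟩ := hπ.map_pure ⟨fun _ => d, fun _ => hd, rfl⟩
  set ys : ι → Fin m → F := Function.update (fun _ : ι => c) l (t • c) with hys
  have hy0 : ∀ k, ys k ≠ 0 := fun k => by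
    rcases eq_or_ne k l with rfl | hk
    · rw [hys, Function.update_self]; exact smul_ne_zero ht0 hc
    · rw [hys, Function.update_of_ne hk]; exact hc
  have hye : pten ys = t • v := by
    rw [hys, pten_update_smul, Function.update_eq_self (f := fun _ : ι => c) l]
  rw [TensorUnitary.tv_eq_pMat hG.isUnitary hvv, add_mulVec, one_mulVec, smul_mulVec,
    TensorUnitary.pMat_mulVec hG.isUnitary, hv, hm_pten, Finset.prod_eq_one (fun k _ => hdc), one_smul,
    ← hv, ← hye] at hzs
  have hne : ∀ k (r : F), r • d ≠ ys k := fun k r h => by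
    have e := congrArg (fun z => hm σ H z c) h
    simp only [hs.smul_left, hdc, mul_one] at e
    have h0 : hm σ H (ys k) c = 0 := by
      rcases eq_or_ne k l with rfl | hk
      · rw [hys, Function.update_self, hs.smul_left, hcc, mul_zero]
      · rw [hys, Function.update_of_ne hk, hcc]
    exact hy0 k (by rw [← h, e, h0, zero_smul])
  obtain ⟨r, hr⟩ := prop_of_pure_add (fun _ => hd) hy0 hzs hll (hne l)
  exact hne l' r hr

/-- An overgroup of the factors and their permutations outside the wreath group has all centres. -/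
theorem isCentre_of_overgroup [Nontrivial ι] (hH : UForm σ H) (hpar : Par σ m)
    (hLM : wreath ι m F ⊓ su (hm σ (gram ι H)) ≤ M) (hMs : M ≤ su (hm σ (gram ι H)))
    (hMW : ¬ M ≤ wreath ι m F) {v : (ι → Fin m) → F} (hv : hm σ (gram ι H) v v = 0) :
    IsCentre σ (hm σ (gram ι H)) M v := by
  classical
  have hC : Ctx σ H M := ⟨hH, hpar, fun g hg => (hMs hg).1,
    fun i h hh => hLM ⟨embG_mem i h, embG_mem_su i hh hH⟩⟩
  obtain ⟨T₀, hT₀2, hT₀⟩ := exists_el_aux _ ι rfl M hC hMW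
  obtain ⟨T, hT, hmax⟩ := Finset.exists_max_image
    (Finset.univ.filter fun T : Finset ι => 2 ≤ T.card ∧ El σ H M T) Finset.card
    ⟨T₀, Finset.mem_filter.mpr ⟨Finset.mem_univ _, hT₀2, hT₀⟩⟩
  obtain ⟨-, hT2, hTE⟩ := Finset.mem_filter.mp hT
  suffices hu : T = Finset.univ from isCentre_all hC hMs (hu ▸ hTE) hv
  by_contra hne
  obtain ⟨b, hb⟩ : ∃ b, b ∉ T := by
    by_contra hc
    push Not at hc
    exact hne (Finset.eq_univ_iff_forall.mpr hc)
  obtain ⟨a, ha, a', ha', haa⟩ := Finset.one_lt_card.mp (show 1 < T.card by omega)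
  have hab : a ≠ b := fun h => hb (h ▸ ha)
  have ha'b : a' ≠ b := fun h => hb (h ▸ ha')
  set s₁ := Equiv.swap a a'
  set s₂ := Equiv.swap a' b
  set π : Equiv.Perm ι := s₁ * s₂ * s₁⁻¹ * s₂⁻¹ with hπ
  have hπa : π a = b := by
    simp [hπ, s₁, s₂, Equiv.Perm.mul_apply, Equiv.swap_apply_def, haa, hab, ha'b, haa.symm, hab.symm, ha'b.symm]
  have hπa' : π a' = a := by
    simp [hπ, s₁, s₂, Equiv.Perm.mul_apply, Equiv.swap_apply_def, haa, hab, ha'b, haa.symm, hab.symm, ha'b.symm]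
  have hdet : (pmG π : GL (ι → Fin m) F) ∈ specialLinear (ι → Fin m) F := by
    show Matrix.GeneralLinearGroup.det (pmG π) = 1
    rw [hπ, map_mul, map_mul, map_mul, map_mul, map_mul, map_mul, map_inv, map_inv, map_inv, map_inv,
      mul_right_comm (Matrix.GeneralLinearGroup.det (pmG s₁)), mul_inv_cancel, one_mul, mul_inv_cancel]
  have hgM : pmG π ∈ M := hLM ⟨pmG_mem π, pmG_mem_isom π, hdet⟩
  have hT' : El σ H M (T.map π.toEmbedding) :=
    El.map_perm (fun y hy => M.mul_mem (M.mul_mem hgM hy) (M.inv_mem hgM)) hTE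
  have hU : El σ H M (T ∪ T.map π.toEmbedding) := hTE.union hC hT' ha (by
    rw [← hπa']; exact Finset.mem_map_of_mem _ ha')
  have hbU : b ∈ T ∪ T.map π.toEmbedding :=
    Finset.mem_union_right _ (by rw [← hπa]; exact Finset.mem_map_of_mem _ ha)
  have hlt : T.card < (T ∪ T.map π.toEmbedding).card := Finset.card_lt_card
    ⟨Finset.subset_union_left, fun h => hb (h hbU)⟩
  have := hmax _ (Finset.mem_filter.mpr ⟨Finset.mem_univ _, by omega, hU⟩)
  omega

/-- The stabiliser of a decomposition of the standard form as a tensor power is maximal in the special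
unitary group. -/
theorem isMaximalIn_tensorWreath {F : Type*} [Field F] [Fintype F] {σ : F ≃+* F} {n q m t : ℕ}
    (hF : Fintype.card F = q ^ 2) (hσ : ∀ x, σ x = x ^ q) (hn : 4 ≤ n) (ht : 2 ≤ t)
    (hpar : Par σ m) (e : Fin n ≃ (Fin t → Fin m))
    (P : GL (Fin n) F) {f₁ : (Fin m → F) → (Fin m → F) → F} (hf₁ : IsUnitaryForm σ f₁)
    (hT : IsTensorPowerFormStructure (fun x : F => x ^ q) (Cfsg.hermForm n F q) f₁ e P) :
    IsMaximalIn (Cfsg.GU n F q ⊓ specialLinear (Fin n) F)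
      (tensorWreathSubgroup m t e P ⊓ (Cfsg.GU n F q ⊓ specialLinear (Fin n) F)) := by
  have : Nontrivial (Fin t) := Fin.nontrivial_iff_two_le.mpr ht
  set H : Matrix (Fin m) (Fin m) F := gramMatrix f₁ with hHdef
  have hHe : ∀ i j, H i j = f₁ (Pi.single i 1) (Pi.single j 1) := fun i j => rfl
  have hhm : ∀ x y, hm σ H x y = f₁ x y := fun x y => by
    rw [TensorUnitary.expand hf₁ x y, hm, dotProduct]
    refine Finset.sum_congr rfl fun i _ => ?_
    rw [mulVec, dotProduct, Finset.mul_sum]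
    exact Finset.sum_congr rfl fun j _ => by rw [hHe]; ring
  have hH : UForm σ H := by
    refine ⟨hf₁.ne_refl, hf₁.involutive, fun a b => by rw [hHe, hHe, ← hf₁.herm], ?_⟩
    rw [← Matrix.isUnit_iff_isUnit_det, ← mulVec_injective_iff_isUnit]
    intro x y hxy
    by_contra hne
    set z : Fin m → F := fun k => σ (x k - y k) with hz
    have hz0 : z ≠ 0 := fun h => hne (funext fun k => by
      have := congrFun h k
      simpa [hz, sub_eq_zero] using this)
    obtain ⟨⟨w, hw⟩, -⟩ := hf₁.nondegenerate z hz0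
    refine hw ?_
    rw [← hhm, hm, show (fun k => σ (z k)) = x - y from funext fun k => by simp [hz, hf₁.involutive],
      mulVec_sub]
    show w ⬝ᵥ (H *ᵥ x - H *ᵥ y) = 0
    rw [show H *ᵥ x = H *ᵥ y from hxy, sub_self, dotProduct_zero]
  have hff := (uForm_gram (ι := Fin t) hH).isUnitary
  have hf := isUnitaryForm_hermForm (n := n) hf₁.ne_refl hf₁.involutive hσ
  have hs := sesqForm_of_unitary hf
  obtain ⟨c, hc0, hT⟩ := hT
  set J : ((Fin t → Fin m) → F) → (Fin n → F) := fun x => (P : Matrix (Fin n) (Fin n) F) *ᵥ (x ∘ e) with hJ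
  have hJs : ∀ u, ∃ x, J x = u := fun u =>
    ⟨(((P⁻¹ : GL (Fin n) F) : Matrix (Fin n) (Fin n) F) *ᵥ u) ∘ e.symm, by
      show (P : Matrix (Fin n) (Fin n) F) *ᵥ _ = u
      rw [Function.comp_assoc, Equiv.symm_comp_self, Function.comp_id, mulVec_mulVec, Units.mul_inv, one_mulVec]⟩
  have hform : ∀ x y, Cfsg.hermForm n F q (J x) (J y) = c * hm σ (gram (Fin t) H) x y := fun x y => by
    rw [hT]
    congr 1
    simp only [hm, dotProduct, mulVec, Finset.mul_sum]
    refine Finset.sum_congr rfl fun a _ => Finset.sum_congr rfl fun b _ => ?_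
    rw [hσ, show TWSp.gram (Fin t) H a b = ∏ i, H (a i) (b i) from rfl, mul_assoc]
  have hσc : σ c = c := by
    set o : Fin t → Fin m := fun _ => ⟨0, by have := hpar.1; omega⟩
    have hne : (Pi.single o 1 : (Fin t → Fin m) → F) ≠ 0 := by simp
    obtain ⟨y, hy⟩ := (hff.nondegenerate _ hne).2
    have h := hform y (Pi.single o 1)
    rw [hf.herm, hform, map_mul, ← hff.herm] at h
    exact mul_right_cancel₀ (unitary_ne_symm hff hy) h
  let φ : GL (Fin t → Fin m) F ≃* GL (Fin n) F := (glReindex e.symm).trans (MulAut.conj P)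
  have hφ : ∀ (g : GL (Fin t → Fin m) F) x, (φ g : Matrix (Fin n) (Fin n) F) *ᵥ J x
      = J ((g : Matrix (Fin t → Fin m) (Fin t → Fin m) F) *ᵥ x) := by
    intro g x
    show ((P * glReindex e.symm g * P⁻¹ : GL (Fin n) F) : Matrix (Fin n) (Fin n) F) *ᵥ
      ((P : Matrix (Fin n) (Fin n) F) *ᵥ (x ∘ e)) = (P : Matrix (Fin n) (Fin n) F) *ᵥ (_ ∘ e)
    rw [mulVec_mulVec, ← Units.val_mul, inv_mul_cancel_right, Units.val_mul, ← mulVec_mulVec]
    congr 1
    show (g : Matrix (Fin t → Fin m) (Fin t → Fin m) F).submatrix e.symm.symm e.symm.symm *ᵥ (x ∘ e) = _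
    rw [Equiv.symm_symm, Matrix.submatrix_mulVec_equiv, Function.comp_assoc, Equiv.self_comp_symm,
      Function.comp_id]
  have hGU : ∀ g, φ g ∈ Cfsg.GU n F q ↔ g ∈ isom (hm σ (gram (Fin t) H)) := by
    intro g
    rw [mem_GU_iff_forall]
    refine ⟨fun h x y => ?_, fun h u v => ?_⟩
    · have := h (J x) (J y)
      rw [hφ, hφ, hform, hform] at this
      exact mul_left_cancel₀ hc0 this
    · obtain ⟨x, rfl⟩ := hJs u
      obtain ⟨y, rfl⟩ := hJs v
      rw [hφ, hφ, hform, hform, h]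
  have hdet : ∀ g, Matrix.GeneralLinearGroup.det (φ g) = Matrix.GeneralLinearGroup.det g := by
    intro g
    show Matrix.GeneralLinearGroup.det (P * glReindex e.symm g * P⁻¹) = _
    rw [map_mul, map_mul, map_inv, mul_comm (Matrix.GeneralLinearGroup.det P), mul_inv_cancel_right]
    apply Units.ext
    simp only [Matrix.GeneralLinearGroup.val_det_apply]
    exact Matrix.det_reindex_self e.symm _
  have hSU : (su (hm σ (gram (Fin t) H))).map φ.toMonoidHom = Cfsg.GU n F q ⊓ specialLinear (Fin n) F := by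
    ext g
    constructor
    · rintro ⟨h, ⟨hh1, hh2⟩, rfl⟩
      refine ⟨(hGU h).mpr hh1, ?_⟩
      show Matrix.GeneralLinearGroup.det (φ h) = 1
      rw [hdet]; exact hh2
    · rintro ⟨hg1, hg2⟩
      refine ⟨φ.symm g, ⟨(hGU _).mp (by rw [φ.apply_symm_apply]; exact hg1), ?_⟩, φ.apply_symm_apply g⟩
      show Matrix.GeneralLinearGroup.det (φ.symm g) = 1
      rw [← hdet, φ.apply_symm_apply]; exact hg2
  have hK : (wreath (Fin t) m F).map φ.toMonoidHom = tensorWreathSubgroup m t e P := by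
    rw [tensorWreathSubgroup, tensorWreathStandard_eq_wreath, Subgroup.map_map]
    rfl
  obtain ⟨x₀, hx₀, hx₀W⟩ := exists_not_mem_wreath (ι := Fin t) hH hpar.1
  have hmax : IsMaximalIn (su (hm σ (gram (Fin t) H))) (wreath (Fin t) m F ⊓ su (hm σ (gram (Fin t) H))) := by
    refine isMaximalIn_of inf_le_right ⟨x₀, hx₀, fun h => hx₀W h.1⟩ fun M hLM hM g hgM hgL => ?_
    have hMW : ¬ M ≤ wreath (Fin t) m F := fun h => hgL ⟨h hgM, hM hgM⟩
    refine (Subgroup.map_le_map_iff_of_injective (f := φ.toMonoidHom) φ.injective).mp ?_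
    rw [hSU]
    refine UC.su_le_of_forall_uTv hf hσ hF hn fun v hv k hk => ?_
    obtain ⟨x, rfl⟩ := hJs v
    have hx : hm σ (gram (Fin t) H) x x = 0 := by
      rw [hform] at hv
      exact (mul_eq_zero.mp hv).resolve_left hc0
    obtain ⟨z, hz, hzv⟩ := isCentre_of_overgroup hH hpar hLM hM hMW hx (k * c)
      (by rw [map_mul, hk, hσc, neg_mul])
    refine ⟨z, hz, Units.ext (Matrix.ext_iff_mulVec.mpr fun w => ?_)⟩
    obtain ⟨y, rfl⟩ := hJs w
    show (φ z : Matrix (Fin n) (Fin n) F) *ᵥ J y = _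
    rw [hφ, UC.uTv_mulVec hf hv, hform, hzv, add_mulVec, one_mulVec, smul_mulVec,
      TensorUnitary.pMat_mulVec hff, smul_smul, hJ]
    simp only [← mulVec_smul, ← mulVec_add, mul_assoc]
    rfl
  have h := CfsgLib.TensorMax.isMaximalIn_map φ hmax
  rwa [Subgroup.map_inf _ _ _ φ.injective, hSU, hK] at h

end CfsgLib.TWU
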