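import Cfsg.Agent.TensorWreathUni.Control
import Cfsg.Agent.TensorWreathSp.Unipotent
import Cfsg.Agent.TensorWreath.Preserve
import Cfsg.Agent.TensorWreath.Split

/-!
# Blocks at isotropic points

An element carrying the root groups to roots lies in the wreath group; an isometry unipotent into a block
is `1 + kr (cen c) b`; without elementary tensors on two factors such elements are roots.
-/

set_option autoImplicit false
set_option linter.unusedSectionVars false
set_option linter.unusedSimpArgs false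

namespace CfsgLib.TWU

open Matrix Cfsg.Geo CfsgLib.MaxSub CfsgLib.TWreath
open CfsgLib.TWSp (kr gram proj)
open CfsgLib.TensorUnitary (isom su)

variable {F : Type*} [Field F] [Finite F] {σ : F ≃+* F} {m : ℕ} {H : Matrix (Fin m) (Fin m) F}
variable {ι : Type} [Fintype ι] [DecidableEq ι]

/-! ### Spanning -/

/-- A space of matrices closed under products and containing all rank-one nilpotents at isotropic points
is everything. -/
theorem mem_of_cen_mem (hH : UForm σ H) (hm2 : 2 ≤ m) (S : Submodule F (Matrix (Fin m) (Fin m) F))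
    (hmul : ∀ A ∈ S, ∀ B ∈ S, A * B ∈ S) (hcen : ∀ u, u ≠ 0 → hm σ H u u = 0 → cen σ H u ∈ S)
    (A : Matrix (Fin m) (Fin m) F) : A ∈ S := by
  have hf := hH.isUnitary
  have hs := hH.sesq
  have hn : 2 ≤ Fintype.card (Fin m) := by rw [Fintype.card_fin]; exact hm2
  have hiso : ∀ u v : Fin m → F, hm σ H u u = 0 → hm σ H v v = 0 → vecMulVec u (axis σ H v) ∈ S := by
    intro u v hu hv
    rcases eq_or_ne u 0 with rfl | hu0
    · rw [zero_vecMulVec]; exact S.zero_mem
    rcases eq_or_ne v 0 with rfl | hv0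
    · rw [show axis σ H (0 : Fin m → F) = 0 by funext q; simp [axis, mulVec, dotProduct], vecMulVec_zero]
      exact S.zero_mem
    obtain ⟨z, hz, hzu, hzv⟩ := TensorUnitary.exists_partner_both hf hu0 hu hv0 hv
    have hz0 : z ≠ 0 := fun h => hzu (h ▸ hs.zero_left _)
    have h := hmul _ (hmul _ (hcen u hu0 hu) _ (hcen z hz0 hz)) _ (hcen v hv0 hv)
    rw [cen_mul_cen, smul_mul_assoc, cen, vecMulVec_mul_vecMulVec, axis_dot, vecMulVec_smul, smul_smul] at h
    exact (S.smul_mem_iff (mul_ne_zero hzu (unitary_ne_symm hf hzv))).mp h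
  have hall : ∀ x v : Fin m → F, vecMulVec x (axis σ H v) ∈ S := by
    intro x
    let Sv : Submodule F (Fin m → F) :=
      { carrier := {v | vecMulVec x (axis σ H v) ∈ S}
        add_mem' := fun {p q} hp hq => by
          show vecMulVec x (axis σ H (p + q)) ∈ S
          rw [← leftVec_eq, hs.leftVec_add, leftVec_eq, leftVec_eq, vecMulVec_add]; exact S.add_mem hp hq
        zero_mem' := by
          show vecMulVec x (axis σ H 0) ∈ S
          rw [show axis σ H (0 : Fin m → F) = 0 by funext q; simp [axis, mulVec, dotProduct], vecMulVec_zero]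
          exact S.zero_mem
        smul_mem' := fun k p hp => by
          show vecMulVec x (axis σ H (k • p)) ∈ S
          rw [← leftVec_eq, hs.leftVec_smul, leftVec_eq, vecMulVec_smul]; exact S.smul_mem _ hp }
    suffices h : Sv = ⊤ from fun v => (h ▸ Submodule.mem_top : v ∈ Sv)
    refine TensorUnitary.eq_top_of_iso_mem hf hn fun v hv => ?_
    let Sx : Submodule F (Fin m → F) :=
      { carrier := {x | vecMulVec x (axis σ H v) ∈ S}
        add_mem' := fun {p q} hp hq => by
          show vecMulVec (p + q) _ ∈ S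
          rw [add_vecMulVec]; exact S.add_mem hp hq
        zero_mem' := by show vecMulVec 0 _ ∈ S; rw [zero_vecMulVec]; exact S.zero_mem
        smul_mem' := fun k p hp => by
          show vecMulVec (k • p) _ ∈ S
          rw [smul_vecMulVec]; exact S.smul_mem _ hp }
    have hx : Sx = ⊤ := TensorUnitary.eq_top_of_iso_mem hf hn fun u hu => hiso u v hu hv
    exact (hx ▸ Submodule.mem_top : x ∈ Sx)
  have e : A = ∑ i, vecMulVec (Pi.single i (1 : F)) (A i) := by
    ext j l
    rw [Matrix.sum_apply, Finset.sum_eq_single j] <;> simp +contextual [vecMulVec_apply]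
  rw [e]
  refine Submodule.sum_mem _ fun i _ => ?_
  obtain ⟨v, hv⟩ := hs.leftVec_surjective (A i)
  rw [← hv, leftVec_eq]
  exact hall _ v

/-- Commuting with the roots of a factor means commuting with the factor. -/
theorem comm_emb_of_cen (hH : UForm σ H) (hm2 : 2 ≤ m) {K : Matrix (ι → Fin m) (ι → Fin m) F} {j : ι}
    (h : ∀ u, u ≠ 0 → hm σ H u u = 0 → K * emb j (cen σ H u) = emb j (cen σ H u) * K)
    (A : Matrix (Fin m) (Fin m) F) : K * emb j A = emb j A * K :=
  mem_of_cen_mem hH hm2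
    { carrier := {A | K * emb j A = emb j A * K}
      add_mem' := fun {A B} (hA : K * emb j A = _) (hB : K * emb j B = _) => by
        show K * emb j (A + B) = _
        rw [emb_add, mul_add, add_mul, hA, hB]
      zero_mem' := by show K * emb j 0 = _; rw [emb_zero, mul_zero, zero_mul]
      smul_mem' := fun k A (hA : K * emb j A = _) => by
        show K * emb j (k • A) = _
        rw [emb_smul, mul_smul_comm, smul_mul_assoc, hA] }
    (fun A (hA : K * emb j A = _) B (hB : K * emb j B = _) => by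
      show K * emb j (A * B) = _
      rw [emb_mul, ← mul_assoc, hA, mul_assoc, hB, mul_assoc]) h A

theorem oth_eq_kr (i : ι) (L : Matrix (Rest i m) (Rest i m) F) : oth i L = kr i 1 L := by
  ext a b
  show (if a i = b i then L _ _ else 0) = (1 : Matrix (Fin m) (Fin m) F) (a i) (b i) * L _ _
  rw [Matrix.one_apply]
  split_ifs <;> simp

/-- A matrix commuting with all other factors lives in one factor. -/
theorem exists_emb_of_comm [NeZero m] {i : ι} {K : Matrix (ι → Fin m) (ι → Fin m) F}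
    (h : ∀ j, j ≠ i → ∀ A, K * emb j A = emb j A * K) : ∃ X, K = emb i X := by
  have hb : ∀ s t, ∃ c : F, blk i K s t = c • 1 := fun s t => TWSp.scalar_of_comm_emb fun l A => by
    have e := congrArg (fun Y => blk i Y s t) (h l l.2 A)
    rw [emb_eq_oth i l] at e
    simp only [blk_mul, blk_oth, mul_ite, mul_zero, ite_mul, zero_mul, Finset.sum_ite_eq', Finset.sum_ite_eq,
      Finset.mem_univ, if_true] at e
    exact e
  choose X hX using hb
  exact ⟨Matrix.of X, blk_ext (i := i) fun s t => by rw [blk_emb, hX]; rfl⟩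

/-! ### Into the wreath group -/

/-- An element carrying the rank-one nilpotents of all factors into factors lies in the wreath group. -/
theorem mem_wreath_of_conj_cen [Nonempty ι] (hH : UForm σ H) (hm2 : 2 ≤ m) {y : GL (ι → Fin m) F}
    (h : ∀ j c, c ≠ 0 → hm σ H c c = 0 → ∃ l B, (y : Matrix (ι → Fin m) (ι → Fin m) F) * emb j (cen σ H c) =
      emb l B * (y : Matrix (ι → Fin m) (ι → Fin m) F)) :
    y ∈ wreath ι m F := by
  classical
  have : NeZero m := ⟨by omega⟩
  have hf := hH.isUnitary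
  have hs := hH.sesq
  set Y := (y : Matrix (ι → Fin m) (ι → Fin m) F) with hY
  have hYi : ∀ {A B : Matrix (ι → Fin m) (ι → Fin m) F}, Y * A = Y * B → A = B := fun {A B} e => by
    have := congrArg (((y⁻¹ : GL (ι → Fin m) F) : Matrix (ι → Fin m) (ι → Fin m) F) * ·) e
    simpa only [← mul_assoc, hY, Units.inv_mul, one_mul] using this
  have hYc : ∀ {A B : Matrix (ι → Fin m) (ι → Fin m) F}, A * Y = B * Y → A = B := fun {A B} e => by
    have := congrArg (· * ((y⁻¹ : GL (ι → Fin m) F) : Matrix (ι → Fin m) (ι → Fin m) F)) e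
    simpa only [mul_assoc, hY, Units.mul_inv, mul_one] using this
  choose! π N hN using h
  -- non-commuting nilpotents go to the same factor
  have hsame : ∀ j c c', c ≠ 0 → hm σ H c c = 0 → c' ≠ 0 → hm σ H c' c' = 0 → hm σ H c c' ≠ 0 →
      π j c = π j c' := by
    intro j c c' hc hcc hc' hcc' hne
    by_contra hne'
    have e : Y * emb j (cen σ H c * cen σ H c') = Y * emb j (cen σ H c' * cen σ H c) := by
      rw [emb_mul, emb_mul, ← mul_assoc, hN j c hc hcc, mul_assoc, hN j c' hc' hcc', ← mul_assoc,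
        emb_comm hne', mul_assoc, ← hN j c hc hcc, ← mul_assoc, ← hN j c' hc' hcc', mul_assoc]
    have e2 := congrArg (· *ᵥ c') (emb_injective j (hYi e))
    simp only [← mulVec_mulVec, cen_mulVec, hcc', zero_smul, mulVec_zero, mulVec_smul, smul_smul] at e2
    exact mul_ne_zero (unitary_ne_symm hf hne) hne ((smul_eq_zero.mp e2.symm).resolve_right hc')
  obtain ⟨c₀, -, hc₀, hc₀i⟩ := exists_iso_mem hf ⊤ (by rw [finrank_top, Module.finrank_fin_fun]; exact hm2)
  let pf : ι → ι := fun j => π j c₀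
  have hpi : ∀ j c, c ≠ 0 → hm σ H c c = 0 → π j c = pf j := by
    intro j c hc hcc
    obtain ⟨z, hz, hzc, hz0⟩ := TensorUnitary.exists_partner_both hf hc hcc hc₀ hc₀i
    have hzne : z ≠ 0 := fun e => hzc (e ▸ hs.zero_left _)
    rw [← hsame j z c hzne hz hc hcc hzc]
    exact hsame j z c₀ hzne hz hc₀ hc₀i hz0
  let S : ι → Submodule F (Matrix (Fin m) (Fin m) F) := fun j =>
    { carrier := {A | ∃ B, Y * emb j A = emb (pf j) B * Y}
      add_mem' := by
        rintro A A' ⟨B, hB⟩ ⟨B', hB'⟩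
        exact ⟨B + B', by rw [emb_add, emb_add, mul_add, add_mul, hB, hB']⟩
      zero_mem' := ⟨0, by simp [emb_zero]⟩
      smul_mem' := by
        rintro k A ⟨B, hB⟩
        exact ⟨k • B, by rw [emb_smul, emb_smul, mul_smul_comm, smul_mul_assoc, hB]⟩ }
  have hS : ∀ j A, A ∈ S j := fun j => mem_of_cen_mem hH hm2 (S j) (by
      rintro A ⟨B, hB⟩ A' ⟨B', hB'⟩
      exact ⟨B * B', by rw [emb_mul, emb_mul, ← mul_assoc, hB, mul_assoc, hB', mul_assoc]⟩)
    fun c hc hcc => ⟨N j c, by rw [← hpi j c hc hcc]; exact hN j c hc hcc⟩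
  choose θ hθ using hS
  let Θ : ι → Matrix (Fin m) (Fin m) F →ₗ[F] Matrix (Fin m) (Fin m) F := fun j =>
    { toFun := θ j
      map_add' := fun A A' => emb_injective (pf j) (hYc (by
        rw [← hθ, emb_add, emb_add, mul_add, add_mul, hθ, hθ]))
      map_smul' := fun k A => emb_injective (pf j) (hYc (by
        rw [RingHom.id_apply, ← hθ, emb_smul, emb_smul, mul_smul_comm, smul_mul_assoc, hθ])) }
  have hΘ : ∀ j, Function.Surjective (Θ j) := fun j => by
    refine LinearMap.injective_iff_surjective.mp fun A A' e => emb_injective j (hYi ?_)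
    rw [hθ, hθ]
    exact congrArg (fun B => emb (pf j) B * Y) e
  refine mem_wreath_of_map_block hm2 fun j x hx => ?_
  obtain ⟨φ, hφ⟩ := exists_dot_eq_one hx
  have hφ0 : φ ≠ 0 := fun e => zero_ne_one (by rw [← hφ, e, zero_dotProduct])
  set E := vecMulVec x φ with hE
  set B := θ j E with hB
  have hBB : ∀ X, ∃ r : F, B * X * B = r • B := by
    intro X
    obtain ⟨A, rfl⟩ := hΘ j X
    refine ⟨φ ⬝ᵥ (A *ᵥ x), emb_injective (pf j) (hYc ?_)⟩
    show emb (pf j) (θ j E * θ j A * θ j E) * Y = _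
    rw [emb_mul, emb_mul, mul_assoc, ← hθ, ← mul_assoc, mul_assoc (emb (pf j) (θ j E)), ← hθ, ← mul_assoc, ← hθ,
      mul_assoc, ← emb_mul, mul_assoc, ← emb_mul, emb_smul, smul_mul_assoc, hB, ← hθ, ← mul_smul_comm, ← emb_smul]
    congr 2
    rw [hE, mul_vecMulVec, vecMulVec_mul_vecMulVec, vecMulVec_smul]
  have hB0 : B ≠ 0 := fun e => by
    have h1 := hθ j E
    rw [← hB, e, emb_zero, zero_mul, ← mul_zero Y, ← emb_zero j] at h1
    have h2 := congrArg (· *ᵥ x) (emb_injective j (hYi h1))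
    simp only [hE, vecMulVec_mulVec', hφ, one_smul, zero_mulVec] at h2
    exact hx h2
  obtain ⟨z, hz⟩ : ∃ z, B *ᵥ z ≠ 0 := by
    by_contra hcon
    push Not at hcon
    exact hB0 (Matrix.ext_of_mulVec_single fun q => by rw [hcon, zero_mulVec])
  set d := B *ᵥ z with hd
  have hprop : ∀ w, ∃ r : F, B *ᵥ w = r • d := by
    intro w
    by_cases hw : B *ᵥ w = 0
    · exact ⟨0, by rw [hw, zero_smul]⟩
    obtain ⟨f, hf'⟩ := exists_dot_eq_one hw
    obtain ⟨r, hr⟩ := hBB (vecMulVec z f)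
    have h1 := congrArg (· *ᵥ w) hr
    simp only [← mulVec_mulVec, vecMulVec_mulVec', hf', one_smul, smul_mulVec, ← hd] at h1
    have hr0 : r ≠ 0 := fun e => hz (by rw [hd] at h1 ⊢; rw [h1, e, zero_smul])
    exact ⟨r⁻¹, by rw [h1, smul_smul, inv_mul_cancel₀ hr0, one_smul]⟩
  choose rw' hrw using hprop
  set ψ : Fin m → F := fun q => rw' (Pi.single q 1) with hψ
  have hBe : B = vecMulVec d ψ := Matrix.ext fun p q => by
    have := congrFun (hrw (Pi.single q 1)) p
    simpa [vecMulVec_apply, mul_comm, hψ] using this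
  have hψ0 : ψ ≠ 0 := fun e => hB0 (by rw [hBe, e, vecMulVec_zero])
  refine ⟨pf j, d, hz, ?_⟩
  rw [block_eq_range hφ0, block_eq_range hψ0, ← hE, ← hBe, ← LinearMap.range_comp, ← Matrix.mulVecLin_mul,
    hB, ← hY, hθ, Matrix.mulVecLin_mul, LinearMap.range_comp_of_range_eq_top]
  exact LinearMap.range_eq_top.mpr (mulVec_surjective_iff_isUnit.mpr y.isUnit)

/-- An element conjugating every root into the wreath group conjugates it to a root. -/
theorem exists_root_of_conj_urt (hH : UForm σ H) (hpar : Par σ m) {S : GL (ι → Fin m) F} {i : ι}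
    {c : Fin m → F} (hc0 : c ≠ 0) (hc : hm σ H c c = 0)
    (h : ∀ s, σ s = -s → S * urt σ H i s c * S⁻¹ ∈ wreath ι m F) :
    ∃ s j c' φ', s ≠ 0 ∧ σ s = -s ∧ c' ≠ 0 ∧ φ' ≠ 0 ∧ φ' ⬝ᵥ c' = 0 ∧
      S * urt σ H i s c * S⁻¹ = root j c' φ' := by
  obtain ⟨p, hp'⟩ := CharP.exists F
  have : Fact p.Prime := ⟨CharP.char_is_prime F p⟩
  by_contra hcon
  push Not at hcon
  have key : ∀ s, σ s = -s → s ≠ 0 → p = 2 ∧ m = 3 ∧
      ∃ a b : ι, a ≠ b ∧ HasPerm (S * urt σ H i s c * S⁻¹) (Equiv.swap a b) := by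
    intro s hs hs0
    have h0 := root_orth hH hc s
    have hq := conj_quadratic (y := S) (root_quadratic (i := i) h0)
    have hrk : ((((S * urt σ H i s c * S⁻¹ : GL (ι → Fin m) F) : Matrix (ι → Fin m) (ι → Fin m) F)) - 1).rank =
        bdim ι m := by rw [urt, rank_conj_sub_one', root_rank h0 (smul_ne_zero hs0 hc0) (hH.axis_ne hc0)]
    rcases Nat.lt_or_ge m 4 with hm3 | hm4
    · obtain ⟨τ, hτ⟩ := h s hs
      rcases classify (p := p) hpar.1 hτ hq hrk with ⟨j, c', φ', hc', hφ', h', he⟩ | ⟨hp2, a, b, hab, hperm, -⟩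
      · exact absurd he (hcon s j c' φ' hs0 hs hc' hφ' h')
      · exact ⟨hp2, by have := hpar.1; omega, a, b, hab, hperm⟩
    · obtain ⟨j, c', φ', hc', hφ', h', he⟩ := TWSp.classify4 hm4 (h s hs) hq hrk
      exact absurd he (hcon s j c' φ' hs0 hs hc' hφ' h')
  obtain ⟨t, ht0, ht⟩ := exists_traceZero hH.ne_refl hH.invol
  obtain ⟨rfl, hm3, -⟩ := key t ht ht0
  obtain ⟨k, hk, hk0, hk1⟩ := hpar.2 hm3
  have hsum : t + k * t ≠ 0 := by
    rw [show t + k * t = (1 + k) * t by ring]
    refine mul_ne_zero (fun e => hk1 ?_) ht0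
    rw [eq_neg_of_add_eq_zero_right e, CharTwo.neg_eq]
  have hkt : σ (k * t) = -(k * t) := by rw [map_mul, hk, ht, mul_neg]
  obtain ⟨-, -, a, b, hab, h1⟩ := key t ht ht0
  obtain ⟨-, -, a', b', hab', h2⟩ := key _ hkt (mul_ne_zero hk0 ht0)
  obtain ⟨-, -, a'', b'', hab'', h3⟩ := key _ (by rw [map_add, ht, hkt, neg_add]) hsum
  have h12 := h1.mul h2
  rw [show S * urt σ H i t c * S⁻¹ * (S * urt σ H i (k * t) c * S⁻¹) = S * urt σ H i (t + k * t) c * S⁻¹ by
    rw [urt_mul hH i hc]; group] at h12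
  have := congrArg Equiv.Perm.sign (h12.unique (by omega) h3)
  rw [map_mul, Equiv.Perm.sign_swap hab, Equiv.Perm.sign_swap hab', Equiv.Perm.sign_swap hab''] at this
  exact absurd this (by decide)

/-- An element conjugating all roots into the wreath group lies in it. -/
theorem mem_wreath_of_conj_urt [Nonempty ι] (hH : UForm σ H) (hpar : Par σ m) {S : GL (ι → Fin m) F}
    (h : ∀ i c, c ≠ 0 → hm σ H c c = 0 → ∀ s, σ s = -s → S * urt σ H i s c * S⁻¹ ∈ wreath ι m F) :
    S ∈ wreath ι m F := by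
  refine mem_wreath_of_conj_cen hH (by have := hpar.1; omega) fun j c hc0 hc => ?_
  obtain ⟨s, l, c', φ', hs0, -, -, -, h', he⟩ := exists_root_of_conj_urt hH hpar hc0 hc (h j c hc0 hc)
  refine ⟨l, s⁻¹ • vecMulVec c' φ', ?_⟩
  have e := congrArg Units.val (mul_inv_eq_iff_eq_mul.mp he)
  rw [Units.val_mul, Units.val_mul, urt_val hH j hc, root_val h', mul_add, add_mul, mul_one, one_mul,
    add_right_inj, mul_smul_comm] at e
  rw [emb_smul, smul_mul_assoc, ← e, smul_smul, inv_mul_cancel₀ hs0, one_smul]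

/-! ### Unipotent elements into a block -/

theorem hm_sum_left {κ : Type} [Fintype κ] [DecidableEq κ] {G : Matrix κ κ F} {α : Type*} (s : Finset α)
    (f : α → κ → F) (z : κ → F) : hm σ G (∑ a ∈ s, f a) z = ∑ a ∈ s, hm σ G (f a) z := by
  simp only [hm]; exact sum_dotProduct s f _

/-- The form against a split tensor is the form of a contraction. -/
theorem hm_lift_right (i : ι) (v : (ι → Fin m) → F) (y : Fin m → F) (w : Rest i m → F) :
    hm σ (gram ι H) v (lift i y w) = hm σ (gram {j // j ≠ i} H) (proj i (axis σ H y) v) w := by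
  have e : axis σ H y = ∑ k, axis σ H y k • (Pi.single k (1 : F) : Fin m → F) := by
    funext q; simp [Finset.sum_apply, Pi.single_apply]
  conv_rhs => rw [e, TWSp.proj_sum_axis, hm_sum_left]
  conv_lhs => rw [TWSp.eq_sum_lift i v, hm_sum_left]
  refine Finset.sum_congr rfl fun k _ => ?_
  rw [hm_lift, TWSp.proj_smul_axis]
  simp only [hm, smul_dotProduct, smul_eq_mul, single_dotProduct, one_mul]
  rfl

/-- Vectors orthogonal to `c⊥ ⊗ W` lie in the block. -/
theorem mem_block_of_orth (hH : UForm σ H) {i : ι} {c : Fin m → F} {v : (ι → Fin m) → F}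
    (h : ∀ y, hm σ H y c = 0 → ∀ w, hm σ (gram ι H) v (lift i y w) = 0) : v ∈ block i c := by
  rw [TWSp.mem_block_iff_proj]
  intro χ hχ
  obtain ⟨y, rfl⟩ := hH.sesq.leftVec_surjective χ
  rw [leftVec_eq] at hχ ⊢
  rw [axis_dot] at hχ
  refine (uForm_gram hH).eq_zero_of_left fun w => ?_
  rw [← hm_lift_right]
  exact h y (unitary_orth_symm hH.isUnitary hχ) w

/-- An isometry unipotent into a block at an isotropic point. -/
theorem eq_kr_of_block (hH : UForm σ H) {x : GL (ι → Fin m) F} (hx : x ∈ isom (hm σ (gram ι H))) {j : ι}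
    {c : Fin m → F} (hc : c ≠ 0) (hcc : hm σ H c c = 0)
    (hN : ∀ v, ((x : Matrix (ι → Fin m) (ι → Fin m) F) - 1) *ᵥ v ∈ block j c) :
    ∃ b : Matrix (Rest j m) (Rest j m) F,
      (x : Matrix (ι → Fin m) (ι → Fin m) F) = 1 + kr j (cen σ H c) b := by
  have hG := uForm_gram (ι := ι) hH
  have hsf := hG.sesq
  have hs := hH.sesq
  set N := (x : Matrix (ι → Fin m) (ι → Fin m) F) - 1 with hNdef
  choose f hf using fun v => exists_lift_of_mem_block hc (hN v)
  have hskew : ∀ u v, hm σ (gram ι H) u (N *ᵥ v) = - hm σ (gram ι H) (N *ᵥ u) v := fun u v => by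
    have h1 := hx u v
    rw [show (x : Matrix (ι → Fin m) (ι → Fin m) F) = 1 + N by rw [hNdef, add_sub_cancel], add_mulVec,
      add_mulVec, one_mulVec, one_mulVec, hsf.add_left, hsf.add_right, hsf.add_right] at h1
    have h2 : hm σ (gram ι H) (N *ᵥ u) (N *ᵥ v) = 0 := by rw [hf u, hf v, hm_lift, hcc, zero_mul]
    linear_combination h1 - h2
  have hker : ∀ z w, hm σ H z c = 0 → N *ᵥ lift j z w = 0 := fun z w hz =>
    hG.eq_of_forall fun u => by
      rw [hskew, hf u, hm_lift, unitary_orth_symm hH.isUnitary hz, zero_mul, neg_zero, hsf.zero_right]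
  obtain ⟨d, -, hd, -⟩ := TensorUnitary.exists_partner hH.isUnitary hc hcc
  let B : (Rest j m → F) →ₗ[F] (Rest j m → F) :=
    { toFun := fun w => f (lift j d w)
      map_add' := fun u v => lift_injective (i := j) hc (by
        rw [map_add (lift j c), ← hf, ← hf, ← hf, map_add, mulVec_add])
      map_smul' := fun k u => lift_injective (i := j) hc (by
        rw [map_smul (lift j c), ← hf, RingHom.id_apply, ← hf, map_smul, mulVec_smul]) }
  refine ⟨LinearMap.toMatrix' B, ?_⟩
  rw [← sub_eq_iff_eq_add', ← hNdef]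
  refine TWSp.ext_lift (i := j) fun z w => ?_
  rw [TWSp.kr_mulVec_lift, cen_mulVec, LinearMap.toMatrix'_mulVec]
  conv_lhs => rw [show z = (z - hm σ H z c • d) + hm σ H z c • d by rw [sub_add_cancel], lift_add_left, mulVec_add,
    hker _ w (by rw [hs.sub_left, hs.smul_left, hd, mul_one, sub_self]), zero_add, lift_smul_left, mulVec_smul, hf]
  rw [lift_smul_left]
  rfl

variable {M : Subgroup (GL (ι → Fin m) F)}

/-- Elements `1 + kr (cen c) b` of `M` are roots. -/
def NoCen (σ : F ≃+* F) (H : Matrix (Fin m) (Fin m) F) (M : Subgroup (GL (ι → Fin m) F)) : Prop :=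
  ∀ (i : ι) (c : Fin m → F), c ≠ 0 → hm σ H c c = 0 → ∀ x ∈ M, ∀ b : Matrix (Rest i m) (Rest i m) F,
    (x : Matrix (ι → Fin m) (ι → Fin m) F) = 1 + kr i (cen σ H c) b → ∃ s : F, b = s • 1

/-- A square-zero matrix tensor a non-scalar one gives elementary tensors on two factors. -/
theorem Ctx.el_of_slice (hC : Ctx σ H M) {i : ι} {Q : Matrix (Fin m) (Fin m) F} (hQ : Q * Q = 0) (hQ0 : Q ≠ 0)
    {b : Matrix (Rest i m) (Rest i m) F} (hb : ∀ s : F, b ≠ s • 1) {x : GL (ι → Fin m) F} (hx : x ∈ M)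
    (he : (x : Matrix (ι → Fin m) (ι → Fin m) F) = 1 + kr i Q b) : ∃ T : Finset ι, 2 ≤ T.card ∧ El σ H M T := by
  classical
  have : NeZero m := ⟨by have := hC.par.1; omega⟩
  have hH := hC.form
  let 𝒜 : AddSubgroup (Matrix (Rest i m) (Rest i m) F) :=
    { carrier := {B | ∃ g ∈ M, (g : Matrix (ι → Fin m) (ι → Fin m) F) = 1 + kr i Q B}
      add_mem' := by
        rintro B B' ⟨g, hg, hgB⟩ ⟨g', hg', hgB'⟩
        refine ⟨g * g', M.mul_mem hg hg', ?_⟩
        rw [Units.val_mul, hgB, hgB', mul_add, mul_one, add_mul, one_mul, TWSp.kr_mul, hQ, TWSp.kr_zero_left,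
          add_zero, add_assoc, TWSp.kr_add_right]
      zero_mem' := ⟨1, M.one_mem, by rw [TWSp.kr_zero_right, add_zero, Units.val_one]⟩
      neg_mem' := by
        rintro B ⟨g, hg, hgB⟩
        refine ⟨g⁻¹, M.inv_mem hg, Units.inv_eq_of_mul_eq_one_right ?_⟩
        rw [hgB, mul_add, mul_one, add_mul, one_mul, TWSp.kr_mul, hQ, TWSp.kr_zero_left, add_zero,
          TWSp.kr_neg_right, add_neg_cancel_right] }
  have hinv : ∀ (k : {j // j ≠ i}), ∀ g ∈ su (hm σ H), ∀ A ∈ 𝒜, emb k (g : Matrix (Fin m) (Fin m) F) * A *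
      emb k ((g⁻¹ : GL (Fin m) F) : Matrix (Fin m) (Fin m) F) ∈ 𝒜 := by
    rintro k g hg A ⟨z, hz, hzA⟩
    have hk := hC.factors (k : ι) g hg
    refine ⟨embG (k : ι) g * z * (embG (k : ι) g)⁻¹, M.mul_mem (M.mul_mem hk hz) (M.inv_mem hk), ?_⟩
    rw [← map_inv, Units.val_mul, Units.val_mul, hzA, mul_add, mul_one, add_mul, embG_val, embG_val, ← emb_mul,
      Units.mul_inv, emb_one, TWSp.emb_rest i k, TWSp.emb_rest i k, TWSp.kr_mul, TWSp.kr_mul, Matrix.one_mul,
      Matrix.mul_one]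
  obtain ⟨T, xs, c, hT, hc0, hiso, g, hg, hgv⟩ :=
    exists_tensor_of_inv hH hC.par.1 _ {j // j ≠ i} rfl 𝒜 hinv b ⟨x, hx, he⟩ hb
  set R := c • PP σ H T xs with hR
  have hRR : R * R = 0 := by rw [hR, smul_mul_smul_comm, PP_sq hT hiso, smul_zero]
  let 𝒬 : AddSubgroup (Matrix (Fin m) (Fin m) F) :=
    { carrier := {A | ∃ g ∈ M, (g : Matrix (ι → Fin m) (ι → Fin m) F) = 1 + kr i A R}
      add_mem' := by
        rintro B B' ⟨g, hg, hgB⟩ ⟨g', hg', hgB'⟩
        refine ⟨g * g', M.mul_mem hg hg', ?_⟩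
        rw [Units.val_mul, hgB, hgB', mul_add, mul_one, add_mul, one_mul, TWSp.kr_mul, hRR, TWSp.kr_zero_right,
          add_zero, add_assoc, TWSp.kr_add_left]
      zero_mem' := ⟨1, M.one_mem, by rw [TWSp.kr_zero_left, add_zero, Units.val_one]⟩
      neg_mem' := by
        rintro B ⟨g, hg, hgB⟩
        refine ⟨g⁻¹, M.inv_mem hg, Units.inv_eq_of_mul_eq_one_right ?_⟩
        rw [hgB, mul_add, mul_one, add_mul, one_mul, TWSp.kr_mul, hRR, TWSp.kr_zero_right, add_zero, add_assoc,
          ← TWSp.kr_add_left, add_neg_cancel, TWSp.kr_zero_left, add_zero] }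
  obtain ⟨u, hu0, hu, c', hc'0, g', hg', hg'v⟩ := exists_cen_of_inv hH hC.par.1 (𝒜 := 𝒬) (by
      rintro h hh A ⟨z, hz, hzA⟩
      have hk := hC.factors i h hh
      refine ⟨embG i h * z * (embG i h)⁻¹, M.mul_mem (M.mul_mem hk hz) (M.inv_mem hk), ?_⟩
      rw [← map_inv, Units.val_mul, Units.val_mul, hzA, mul_add, mul_one, add_mul, embG_val, embG_val, ← emb_mul,
        Units.mul_inv, emb_one, TWSp.emb_eq_kr, TWSp.emb_eq_kr, TWSp.kr_mul, TWSp.kr_mul, Matrix.one_mul,
        Matrix.mul_one])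
    (A := Q) ⟨g, hg, hgv⟩ (fun k hk => hQ0 (by
      rw [hk, smul_mul_smul_comm, one_mul] at hQ
      have := congrFun (congrFun hQ 0) 0
      simp at this
      rw [hk, this, zero_smul]))
  let ys : ι → Fin m → F := fun j => if h : j ≠ i then xs ⟨j, h⟩ else u
  set T' := insert i (T.map (Function.Embedding.subtype _)) with hT'
  have hi : i ∉ T.map (Function.Embedding.subtype _) := fun h => by
    obtain ⟨j', -, hj''⟩ := Finset.mem_map.mp h; exact j'.2 hj''
  refine ⟨T', ?_, hC.el_of_one (Finset.insert_nonempty _ _) (xs := ys) (fun j hj => ?_) (mul_ne_zero hc'0 hc0) hg' ?_⟩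
  · rw [hT', Finset.card_insert_of_notMem hi, Finset.card_map]
    have := hT.card_pos
    omega
  · rcases Finset.mem_insert.mp hj with rfl | hj
    · simp [ys, hu, hu0]
    · obtain ⟨j', hj', rfl⟩ := Finset.mem_map.mp hj
      simpa [ys, j'.2] using hiso j' hj'
  · have e1 : T'.subtype (· ≠ i) = T := by
      ext j; simp [T', j.2]
    have e2 : (fun j : {j // j ≠ i} => ys j) = xs := by
      funext j; simp [ys, j.2]
    rw [hg'v, PP_eq_kr _ ys i, if_pos (Finset.mem_insert_self _ _), show ys i = u by simp [ys], e1, e2, hR,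
      TWSp.kr_smul_left, TWSp.kr_smul_right, smul_smul]

/-- Without elementary tensors on two factors there are no non-scalar central elements. -/
theorem Ctx.noCen (hC : Ctx σ H M) (hno : ∀ T : Finset ι, 2 ≤ T.card → ¬ El σ H M T) : NoCen σ H M := by
  intro i c hc hcc x hx b he
  by_contra hb
  push Not at hb
  obtain ⟨T, hT, hE⟩ := hC.el_of_slice (cen_sq hcc) (hC.form.cen_ne hc) hb hx he
  exact hno T hT hE

/-- An element of `M` unipotent into a block is a root. -/
theorem Ctx.eq_urt_of_block (hC : Ctx σ H M) (hnc : NoCen σ H M) {x : GL (ι → Fin m) F} (hx : x ∈ M) {j : ι}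
    {c : Fin m → F} (hc : c ≠ 0) (hcc : hm σ H c c = 0)
    (hN : ∀ v, ((x : Matrix (ι → Fin m) (ι → Fin m) F) - 1) *ᵥ v ∈ block j c) :
    ∃ s : F, x = urt σ H j s c := by
  obtain ⟨b, hb⟩ := eq_kr_of_block hC.form (hC.iso hx) hc hcc hN
  obtain ⟨s, rfl⟩ := hnc j c hc hcc x hx b hb
  exact ⟨s, Units.ext (by rw [hb, urt_val hC.form j hcc, TWSp.emb_eq_kr, TWSp.kr_smul_right])⟩

end CfsgLib.TWU
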