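import Cfsg.Agent.TensorWreathUni.Merge
import Cfsg.Agent.TensorWreathSp.Classify4
import Cfsg.Agent.TensorWreath.Control
import Cfsg.Agent.TensorWreath.Two
import Cfsg.Agent.TensorWreath.Odd

/-!
# Fusion control in an overgroup of unitary factors without a fused block

`M` consists of isometries, contains the special unitary groups of all factors, and every element of `M`
mapping a block at an isotropic point into a block lies in the wreath group.
-/

set_option autoImplicit false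
set_option linter.unusedSectionVars false
set_option linter.unusedSimpArgs false

namespace CfsgLib.TWU

open Matrix Cfsg.Geo CfsgLib.MaxSub CfsgLib.TWreath
open CfsgLib.TWSp (kr gram)
open CfsgLib.TensorUnitary (isom su)

variable {F : Type*} [Field F] [Finite F] {σ : F ≃+* F} {m : ℕ} {H : Matrix (Fin m) (Fin m) F}
variable {ι : Type} [Fintype ι] [DecidableEq ι]

/-- An overgroup of the factors without fused blocks. -/
structure Rigid (σ : F ≃+* F) (H : Matrix (Fin m) (Fin m) F) (M : Subgroup (GL (ι → Fin m) F)) : Prop where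
  ctx : Ctx σ H M
  noFusion : ∀ y ∈ M, ∀ (i j : ι) (c c' : Fin m → F), c ≠ 0 → hm σ H c c = 0 → c' ≠ 0 →
    (block i c).map (Matrix.mulVecLin (y : Matrix (ι → Fin m) (ι → Fin m) F)) ≤ block j c' →
    y ∈ wreath ι m F

variable {M : Subgroup (GL (ι → Fin m) F)}

theorem urt_zero (i : ι) (c : Fin m → F) : urt σ H i 0 c = 1 := by
  rw [urt, zero_smul, root, tv_zero_left, map_one]

theorem root_eq_urt (i : ι) (c : Fin m → F) (k : F) (hc : axis σ H c ⬝ᵥ c = 0) :
    root i c (k • axis σ H c) = urt σ H i k c := by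
  apply Units.ext
  rw [urt, root_val (by rw [smul_dotProduct, hc, smul_zero]), root_val (by rw [dotProduct_smul, hc, smul_zero]),
    smul_vecMulVec, vecMulVec_smul]

/-- The isometries among the elements of one factor. -/
theorem isom_of_embG_mem (hC : Ctx σ H M) {i : ι} {h : GL (Fin m) F} (hh : embG i h ∈ M) :
    h ∈ isom (hm σ H) := by
  have : NeZero m := ⟨by have := hC.par.1; omega⟩
  have hG := uForm_gram (ι := {j // j ≠ i}) hC.form
  have hw0 : (Pi.single (fun _ => 0) 1 : Rest i m → F) ≠ 0 := by simp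
  obtain ⟨w', hw'⟩ := (hG.isUnitary.nondegenerate _ hw0).2
  intro x y
  have e := hC.iso hh (lift i x (Pi.single (fun _ => 0) 1)) (lift i y w')
  rw [embG_val, emb_mulVec_lift, emb_mulVec_lift, hm_lift, hm_lift] at e
  exact mul_right_cancel₀ hw' e

/-- Roots among the isometries are unitary. -/
theorem root_data (hC : Ctx σ H M) {i : ι} {c φ : Fin m → F} (h : φ ⬝ᵥ c = 0) (hc : c ≠ 0) (hφ : φ ≠ 0)
    (hr : root i c φ ∈ M) : hm σ H c c = 0 ∧ ∃ k : F, k ≠ 0 ∧ σ k = -k ∧ φ = k • axis σ H c := by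
  have hf := hC.form.isUnitary
  have hs := hC.form.sesq
  have hiso := isom_of_embG_mem hC hr
  have key : ∀ x y, (φ ⬝ᵥ x) * hm σ H c y + σ (φ ⬝ᵥ y) * hm σ H x c +
      (φ ⬝ᵥ x) * σ (φ ⬝ᵥ y) * hm σ H c c = 0 := fun x y => by
    have e := hiso x y
    rw [tv_mulVec h, tv_mulVec h, hs.add_left, hs.add_right, hs.add_right, hs.smul_left, hs.smul_left,
      hs.smul_right, hs.smul_right] at e
    linear_combination e
  obtain ⟨d, hd⟩ := exists_dot_eq_one hφ
  rw [dotProduct_comm] at hd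
  have hcc : hm σ H c c = 0 := by
    have := key c d
    rw [h, hd, map_one] at this
    linear_combination this
  obtain ⟨e, -, hec, hce⟩ := TensorUnitary.exists_partner hf hc hcc
  have k1 : ∀ x, φ ⬝ᵥ x = -σ (φ ⬝ᵥ e) * hm σ H x c := fun x => by
    have := key x e
    rw [hce, hcc] at this
    linear_combination this
  refine ⟨hcc, -σ (φ ⬝ᵥ e), ?_, ?_, funext fun q => ?_⟩
  · intro h0
    exact hφ (dotProduct_eq_zero _ fun x => by rw [k1, h0, zero_mul])
  · have := k1 e
    rw [hec, mul_one] at this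
    rw [map_neg, hC.form.invol, neg_neg]
    linear_combination -this
  · have := k1 (Pi.single q 1)
    rw [dotProduct_single, mul_one, ← axis_dot, dotProduct_single, mul_one] at this
    simp [this]

/-- The root group at an isotropic point of a factor. -/
noncomputable def urtGroup (hH : UForm σ H) (i : ι) {c : Fin m → F} (hc : hm σ H c c = 0) :
    Subgroup (GL (ι → Fin m) F) where
  carrier := {g | ∃ s, σ s = -s ∧ g = urt σ H i s c}
  one_mem' := ⟨0, by simp, (urt_zero i c).symm⟩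
  mul_mem' := by
    rintro _ _ ⟨s, hs, rfl⟩ ⟨s', hs', rfl⟩
    exact ⟨s + s', by rw [map_add, hs, hs', neg_add], (urt_mul hH i hc s s').symm⟩
  inv_mem' := by
    rintro _ ⟨s, hs, rfl⟩
    refine ⟨-s, by rw [map_neg, hs], inv_eq_of_mul_eq_one_right ?_⟩
    rw [← urt_mul hH i hc, add_neg_cancel, urt_zero]

namespace Rigid

variable (hM : Rigid σ H M)

include hM

theorem two_le : 2 ≤ m := by have := hM.ctx.par.1; omega

theorem neZero : NeZero m := ⟨by have := hM.ctx.par.1; omega⟩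

theorem urt_mem (i : ι) {c : Fin m → F} (hc : hm σ H c c = 0) {s : F} (hs : σ s = -s) :
    urt σ H i s c ∈ M := hM.ctx.factors.urt_mem hM.ctx.form i hc hs

theorem urtGroup_le (i : ι) {c : Fin m → F} (hc : hm σ H c c = 0) : urtGroup hM.ctx.form i hc ≤ M := by
  rintro _ ⟨s, hs, rfl⟩
  exact hM.urt_mem i hc hs

theorem urtGroup_le_wreath (i : ι) {c : Fin m → F} (hc : hm σ H c c = 0) :
    urtGroup hM.ctx.form i hc ≤ wreath ι m F := by
  rintro _ ⟨s, -, rfl⟩
  exact root_mem_wreath _ _ _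

theorem isPGroup_urtGroup {p : ℕ} [Fact p.Prime] [CharP F p] (i : ι) {c : Fin m → F} (hc : hm σ H c c = 0) :
    IsPGroup p (urtGroup hM.ctx.form i hc) := by
  have := hM.neZero
  rintro ⟨_, s, hs, rfl⟩
  exact ⟨1, Subtype.ext (by rw [pow_one]; exact root_pow (root_orth hM.ctx.form hc s))⟩

/-- A root conjugated to a root gives a fused block. -/
theorem mem_of_conj_eq_root {y : GL (ι → Fin m) F} (hy : y ∈ M) {i j : ι} {c φ c' φ' : Fin m → F}
    (h : φ ⬝ᵥ c = 0) (hc : c ≠ 0) (hcc : hm σ H c c = 0) (hφ : φ ≠ 0) (h' : φ' ⬝ᵥ c' = 0) (hc' : c' ≠ 0)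
    (hφ' : φ' ≠ 0) (he : y * root i c φ * y⁻¹ = root j c' φ') : y ∈ wreath ι m F := by
  refine hM.noFusion y hy i j c c' hc hcc hc' ?_
  rw [block_eq_range hφ, block_eq_range hφ', ← root_sub_one h, ← root_sub_one h']
  rintro _ ⟨_, ⟨w, rfl⟩, rfl⟩
  refine ⟨(y : Matrix (ι → Fin m) (ι → Fin m) F) *ᵥ w, ?_⟩
  simp only [mulVecLin_apply]
  rw [← he, conj_sub_one, mulVec_mulVec, mul_assoc, Units.inv_mul, mul_one, mulVec_mulVec]

/-- Elements commuting with a root lie in the wreath group. -/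
theorem mem_of_comm_root {y : GL (ι → Fin m) F} (hy : y ∈ M) {i : ι} {c φ : Fin m → F} (h : φ ⬝ᵥ c = 0)
    (hc : c ≠ 0) (hφ : φ ≠ 0) (hr : root i c φ ∈ M) (hcomm : Commute y (root i c φ)) : y ∈ wreath ι m F :=
  hM.mem_of_conj_eq_root hy h hc (root_data hM.ctx h hc hφ hr).1 hφ h hc hφ
    (by rw [hcomm.eq, mul_inv_cancel_right])

/-- The conjugate of a root in the wreath group is a root, or a swap in dimension three. -/
theorem classify_conj (y : GL (ι → Fin m) F) {i : ι} {c φ : Fin m → F} (h : φ ⬝ᵥ c = 0)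
    (hc : c ≠ 0) (hφ : φ ≠ 0) (hW : y * root i c φ * y⁻¹ ∈ wreath ι m F) :
    (∃ j c' φ', c' ≠ 0 ∧ φ' ≠ 0 ∧ φ' ⬝ᵥ c' = 0 ∧ y * root i c φ * y⁻¹ = root j c' φ') ∨
      (CharP F 2 ∧ m = 3 ∧ ∃ a b : ι, a ≠ b ∧ HasPerm (y * root i c φ * y⁻¹) (Equiv.swap a b)) := by
  obtain ⟨p, hp'⟩ := CharP.exists F
  have : Fact p.Prime := ⟨CharP.char_is_prime F p⟩
  have hq := conj_quadratic (y := y) (root_quadratic (i := i) h)
  have hrk : ((((y * root i c φ * y⁻¹ : GL (ι → Fin m) F) : Matrix (ι → Fin m) (ι → Fin m) F)) - 1).rank =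
      bdim ι m := by rw [rank_conj_sub_one', root_rank h hc hφ]
  rcases Nat.lt_or_ge m 4 with hm3 | hm4
  · obtain ⟨τ, hτ⟩ := hW
    rcases classify (p := p) hM.ctx.par.1 hτ hq hrk with h' | ⟨hp2, a, b, hab, hperm, -⟩
    · exact Or.inl h'
    · exact Or.inr ⟨hp2 ▸ hp', by have := hM.ctx.par.1; omega, a, b, hab, hperm⟩
  · exact Or.inl (TWSp.classify4 hm4 hW hq hrk)

/-- A root group conjugated into the wreath group gives a fused block. -/
theorem mem_of_conj_urtGroup {y : GL (ι → Fin m) F} (hy : y ∈ M) {i : ι} {c : Fin m → F} (hc0 : c ≠ 0)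
    (hc : hm σ H c c = 0) (h : ∀ g ∈ urtGroup hM.ctx.form i hc, y * g * y⁻¹ ∈ wreath ι m F) :
    y ∈ wreath ι m F := by
  have hH := hM.ctx.form
  by_contra hyW
  have key : ∀ s, σ s = -s → s ≠ 0 → CharP F 2 ∧ m = 3 ∧
      ∃ a b : ι, a ≠ b ∧ HasPerm (y * urt σ H i s c * y⁻¹) (Equiv.swap a b) := by
    intro s hs hs0
    have h0 := root_orth hH hc s
    have hsc : s • c ≠ 0 := smul_ne_zero hs0 hc0
    rcases hM.classify_conj y h0 hsc (hH.axis_ne hc0) (h _ ⟨s, hs, rfl⟩) with
      ⟨j, c', φ', hc', hφ', h', he⟩ | hsw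
    · exact absurd (hM.mem_of_conj_eq_root hy h0 hsc (by rw [hH.sesq.smul_left, hH.sesq.smul_right, hc]; ring)
        (hH.axis_ne hc0) h' hc' hφ' he) hyW
    · exact hsw
  obtain ⟨t, ht0, ht⟩ := exists_traceZero hH.ne_refl hH.invol
  obtain ⟨hch, hm3, -⟩ := key t ht ht0
  obtain ⟨k, hk, hk0, hk1⟩ := hM.ctx.par.2 hm3
  have hsum : t + k * t ≠ 0 := by
    rw [show t + k * t = (1 + k) * t by ring]
    refine mul_ne_zero (fun e => hk1 ?_) ht0
    rw [eq_neg_of_add_eq_zero_right e, CharTwo.neg_eq]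
  have hkt : σ (k * t) = -(k * t) := by rw [map_mul, hk, ht, mul_neg]
  obtain ⟨-, -, a, b, hab, h1⟩ := key t ht ht0
  obtain ⟨-, -, a', b', hab', h2⟩ := key _ hkt (mul_ne_zero hk0 ht0)
  obtain ⟨-, -, a'', b'', hab'', h3⟩ := key _ (by rw [map_add, ht, hkt, neg_add]) hsum
  have h12 := h1.mul h2
  rw [show y * urt σ H i t c * y⁻¹ * (y * urt σ H i (k * t) c * y⁻¹) = y * urt σ H i (t + k * t) c * y⁻¹ by
    rw [urt_mul hH i hc]; group] at h12
  have := congrArg Equiv.Perm.sign (h12.unique hM.two_le h3)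
  rw [map_mul, Equiv.Perm.sign_swap hab, Equiv.Perm.sign_swap hab', Equiv.Perm.sign_swap hab''] at this
  exact absurd this (by decide)

/-- A Sylow subgroup of `M` lies in the wreath group. -/
theorem exists_sylow {p : ℕ} [Fact p.Prime] [CharP F p] [Nonempty ι] :
    ∃ P : Subgroup (GL (ι → Fin m) F), P ≤ wreath ι m F ∧
    ∀ X : Subgroup (GL (ι → Fin m) F), X ≤ M → IsPGroup p X → ∃ g ∈ M, ∀ x ∈ X, g * x * g⁻¹ ∈ P := by
  classical
  obtain ⟨i⟩ := ‹Nonempty ι›
  obtain ⟨c, -, hc0, hc⟩ := exists_iso_mem hM.ctx.form.isUnitary ⊤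
    (by rw [finrank_top, Module.finrank_fin_fun]; exact hM.two_le)
  set L := M ⊓ wreath ι m F with hL
  have hEL : urtGroup hM.ctx.form i hc ≤ L := le_inf (hM.urtGroup_le i hc) (hM.urtGroup_le_wreath i hc)
  obtain ⟨P₀, hP₀⟩ := ((hM.isPGroup_urtGroup (p := p) i hc).comap_subtype (K := L)).exists_le_sylow
  set P : Subgroup (GL (ι → Fin m) F) := (P₀ : Subgroup L).map L.subtype with hP
  have hPp : IsPGroup p P := P₀.2.map _
  have hPL : P ≤ L := Subgroup.map_subtype_le _
  have hEP : urtGroup hM.ctx.form i hc ≤ P := fun x hx => ⟨⟨x, hEL hx⟩, hP₀ hx, rfl⟩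
  have hmaxL : ∀ R : Subgroup (GL (ι → Fin m) F), IsPGroup p R → P ≤ R → R ≤ L → R = P := by
    intro R hR hPR hRL
    have h1 : IsPGroup p (R.subgroupOf L) := hR.comap_subtype
    have h2 : (P₀ : Subgroup L) ≤ R.subgroupOf L := fun z hz => hPR ⟨z, hz, rfl⟩
    have h3 : R.subgroupOf L = (P₀ : Subgroup L) := P₀.3 h1 h2
    rw [hP, ← h3, Subgroup.map_subgroupOf_eq_of_le hRL]
  have hmax : ∀ Q : Subgroup (GL (ι → Fin m) F), Q ≤ M → IsPGroup p Q → ¬ P < Q := by
    intro Q hQM hQp hPQ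
    have : Finite Q := Subtype.finite
    have hnil := hQp.isNilpotent
    have hlt : P.subgroupOf Q < Subgroup.normalizer ((P.subgroupOf Q : Subgroup Q) : Set Q) := by
      refine Group.normalizerCondition_of_isNilpotent (P.subgroupOf Q) (lt_top_iff_ne_top.mpr fun h => ?_)
      exact hPQ.not_ge (Subgroup.subgroupOf_eq_top.mp h)
    obtain ⟨⟨y, hyQ⟩, hyN, hyP⟩ := SetLike.exists_of_lt hlt
    have hnorm : ∀ z ∈ P, y * z * y⁻¹ ∈ P := fun z hz =>
      (Subgroup.mem_normalizer_iff.mp hyN ⟨z, hPQ.le hz⟩).mp hz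
    have hyW := hM.mem_of_conj_urtGroup (hQM hyQ) hc0 hc fun g hg => (hPL (hnorm g (hEP hg))).2
    have hle : Subgroup.closure (insert y (P : Set (GL (ι → Fin m) F))) ≤ Q ⊓ L :=
      (Subgroup.closure_le _).mpr (Set.insert_subset_iff.mpr
        ⟨⟨hyQ, hQM hyQ, hyW⟩, fun z hz => ⟨hPQ.le hz, hPL hz⟩⟩)
    have hR := hmaxL _ (hQp.to_le (hle.trans inf_le_left))
      (fun z hz => Subgroup.subset_closure (Set.mem_insert_of_mem _ hz)) (hle.trans inf_le_right)
    exact hyP (hR ▸ Subgroup.subset_closure (Set.mem_insert _ _) : y ∈ P)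
  have hPM : P ≤ M := fun x hx => (hPL hx).1
  let S₁ : Sylow p M := ⟨P.subgroupOf M, hPp.comap_subtype, by
    intro R hR hle
    have h2 : P ≤ R.map M.subtype := by
      rw [← Subgroup.map_subgroupOf_eq_of_le hPM]; exact Subgroup.map_mono hle
    have h4 : R.map M.subtype = P :=
      (eq_of_le_of_not_lt h2 (hmax _ (Subgroup.map_subtype_le _) (hR.map _))).symm
    show R = P.subgroupOf M
    rw [← h4, Subgroup.subgroupOf, Subgroup.comap_map_eq_self_of_injective M.subtype_injective]⟩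
  refine ⟨P, fun x hx => (hPL hx).2, fun X hXM hXp => ?_⟩
  obtain ⟨S₂, hS₂⟩ := (hXp.comap_subtype (K := M)).exists_le_sylow
  obtain ⟨g, hg⟩ := MulAction.exists_smul_eq M S₂ S₁
  refine ⟨g, g.2, fun x hx => ?_⟩
  have : (g * ⟨x, hXM hx⟩ * g⁻¹ : M) ∈ (S₁ : Subgroup M) := by
    rw [← hg, Sylow.coe_subgroup_smul]
    exact ⟨⟨x, hXM hx⟩, hS₂ hx, rfl⟩
  exact this

/-- `p`-subgroups containing a root group lie in the wreath group. -/
theorem le_of_urtGroup_le {p : ℕ} [Fact p.Prime] [CharP F p] {X : Subgroup (GL (ι → Fin m) F)} (hXM : X ≤ M)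
    (hX : IsPGroup p X) {i : ι} {c : Fin m → F} (hc0 : c ≠ 0) (hc : hm σ H c c = 0)
    (hE : urtGroup hM.ctx.form i hc ≤ X) : X ≤ wreath ι m F := by
  have : Nonempty ι := ⟨i⟩
  obtain ⟨P, hPW, hP⟩ := hM.exists_sylow (p := p)
  obtain ⟨g, hgM, hg⟩ := hP X hXM hX
  have hgW := hM.mem_of_conj_urtGroup hgM hc0 hc fun e he => hPW (hg e (hE he))
  intro x hx
  have := (wreath ι m F).mul_mem ((wreath ι m F).mul_mem ((wreath ι m F).inv_mem hgW) (hPW (hg x hx))) hgW
  simpa [mul_assoc] using this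

/-- Control of fusion on vectors fixed by root groups. -/
theorem exists_mem_of_fix {i j : ι} {c e : Fin m → F} (hc0 : c ≠ 0) (hc : hm σ H c c = 0) (he0 : e ≠ 0)
    (he : hm σ H e e = 0) {u v : (ι → Fin m) → F} (hu : urtGroup hM.ctx.form i hc ≤ fixVec u)
    (hv : urtGroup hM.ctx.form j he ≤ fixVec v) {y : GL (ι → Fin m) F} (hy : y ∈ M)
    (huv : (y : Matrix (ι → Fin m) (ι → Fin m) F) *ᵥ u = v) :
    ∃ l ∈ M, l ∈ wreath ι m F ∧ (l : Matrix (ι → Fin m) (ι → Fin m) F) *ᵥ u = v := by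
  obtain ⟨p, hp'⟩ := CharP.exists F
  have : Fact p.Prime := ⟨CharP.char_is_prime F p⟩
  classical
  set Mv := M ⊓ fixVec v with hMv
  have hEv : urtGroup hM.ctx.form j he ≤ Mv := le_inf (hM.urtGroup_le j he) hv
  set Eu := (urtGroup hM.ctx.form i hc).map (MulAut.conj y).toMonoidHom with hEu
  have hEu' : Eu ≤ Mv := by
    rintro _ ⟨g, hg, rfl⟩
    refine ⟨M.mul_mem (M.mul_mem hy (hM.urtGroup_le i hc hg)) (M.inv_mem hy), ?_⟩
    show ((y * g * y⁻¹ : GL (ι → Fin m) F) : Matrix (ι → Fin m) (ι → Fin m) F) *ᵥ v = v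
    have hyv : ((y⁻¹ : GL (ι → Fin m) F) : Matrix (ι → Fin m) (ι → Fin m) F) *ᵥ v = u := by
      rw [← huv, mulVec_mulVec, Units.inv_mul, one_mulVec]
    rw [Units.val_mul, Units.val_mul, ← mulVec_mulVec, ← mulVec_mulVec, hyv, mem_fixVec.mp (hu hg), huv]
  obtain ⟨S, hS⟩ := ((hM.isPGroup_urtGroup (p := p) j he).comap_subtype (K := Mv)).exists_le_sylow
  obtain ⟨S', hS'⟩ := (((hM.isPGroup_urtGroup (p := p) i hc).map (MulAut.conj y).toMonoidHom).comap_subtype
    (K := Mv)).exists_le_sylow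
  have hSW : (S : Subgroup Mv).map Mv.subtype ≤ wreath ι m F :=
    hM.le_of_urtGroup_le ((Subgroup.map_subtype_le _).trans inf_le_left) (S.2.map _) he0 he
      fun x hx => ⟨⟨x, hEv hx⟩, hS hx, rfl⟩
  obtain ⟨k, hk⟩ := MulAction.exists_smul_eq Mv S' S
  refine ⟨(k : GL (ι → Fin m) F) * y, M.mul_mem k.2.1 hy,
    hM.mem_of_conj_urtGroup (i := i) (M.mul_mem k.2.1 hy) hc0 hc fun g hg => hSW ?_, ?_⟩
  · have hg' : y * g * y⁻¹ ∈ Eu := ⟨g, hg, rfl⟩
    refine ⟨k * ⟨_, hEu' hg'⟩ * k⁻¹, ?_, ?_⟩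
    · rw [← hk]
      show _ ∈ ((k • S' : Sylow p Mv) : Subgroup Mv)
      rw [Sylow.coe_subgroup_smul]
      exact ⟨⟨_, hEu' hg'⟩, hS' hg', rfl⟩
    · simp [mul_assoc]
  · rw [Units.val_mul, ← mulVec_mulVec, huv]
    exact k.2.2

/-- A root conjugated into the wreath group gives a fused block. -/
theorem mem_of_conj_root {y : GL (ι → Fin m) F} (hy : y ∈ M) {i : ι} {c φ : Fin m → F} (h : φ ⬝ᵥ c = 0)
    (hc : c ≠ 0) (hφ : φ ≠ 0) (hr : root i c φ ∈ M) (hW : y * root i c φ * y⁻¹ ∈ wreath ι m F) :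
    y ∈ wreath ι m F := by
  have hH := hM.ctx.form
  have hs := hH.sesq
  have := hM.neZero
  obtain ⟨hcc, -⟩ := root_data hM.ctx h hc hφ hr
  rcases hM.classify_conj y h hc hφ hW with ⟨j, c', φ', hc', hφ', h', he⟩ | ⟨hch, hm3, a, b, hab, hperm⟩
  · exact hM.mem_of_conj_eq_root hy h hc hcc hφ h' hc' hφ' he
  set u := y * root i c φ * y⁻¹ with hu
  clear_value u
  have huM : u ∈ M := hu ▸ M.mul_mem (M.mul_mem hy hr) (M.inv_mem hy)
  have huu : u * u = 1 := by
    rw [hu, show y * root i c φ * y⁻¹ * (y * root i c φ * y⁻¹) = y * (root i c φ * root i c φ) * y⁻¹ by group,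
      root_mul_self h, mul_one, mul_inv_cancel]
  have hUU : (u : Matrix (ι → Fin m) (ι → Fin m) F) * u = 1 := by rw [← Units.val_mul, huu, Units.val_one]
  by_cases hthird : ∃ l, l ≠ a ∧ l ≠ b
  · -- a factor fixed by the swap
    obtain ⟨l, hla, hlb⟩ := hthird
    obtain ⟨hg, hhg⟩ := hperm.conj_emb
    set g := (hg l : Matrix (Fin m) (Fin m) F) with hgdef
    set gi := (((hg l)⁻¹ : GL (Fin m) F) : Matrix (Fin m) (Fin m) F) with hgidef
    have hgig : gi * g = 1 := Units.inv_mul _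
    have hggi : g * gi = 1 := Units.mul_inv _
    have hh : ∀ A, (u : Matrix (ι → Fin m) (ι → Fin m) F) * emb l A =
        emb l (g * A * gi) * (u : Matrix (ι → Fin m) (ι → Fin m) F) := fun A => by
      have := hhg l A
      rwa [Equiv.swap_apply_of_ne_of_ne hla hlb] at this
    have h2 : ∀ A, g * (g * A * gi) * gi = A := fun A => by
      refine emb_injective l ?_
      have e : (u : Matrix (ι → Fin m) (ι → Fin m) F) * (u * emb l A) = emb l (g * (g * A * gi) * gi) * (u * u) := by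
        rw [hh, ← mul_assoc, hh, mul_assoc]
      rwa [← mul_assoc, hUU, one_mul, mul_one, eq_comm] at e
    obtain ⟨μ, hμ⟩ := scalar_of_eigen (g * g) fun x hx => by
      obtain ⟨f, hf⟩ := exists_dot_eq_one hx
      refine ⟨f ⬝ᵥ ((g * g) *ᵥ x), ?_⟩
      have e : g * g * vecMulVec x f = vecMulVec x f * (g * g) := by
        conv_rhs => rw [← h2 (vecMulVec x f)]
        simp only [mul_assoc]
        rw [← mul_assoc gi g g, hgig, one_mul, hgig, mul_one]
      have e' := congrArg (· *ᵥ x) e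
      simp only [← mulVec_mulVec, vecMulVec_mulVec', hf, one_smul] at e'
      simpa [mulVec_mulVec] using e'
    obtain ⟨ν, hν⟩ : ∃ ν : F, ν * ν = μ := by
      obtain ⟨ν, hν⟩ := Finite.surjective_of_injective (frobenius F 2).injective μ
      exact ⟨ν, by rw [← hν, frobenius_def, pow_two]⟩
    set T := g - ν • (1 : Matrix (Fin m) (Fin m) F) with hT
    have hTT : T * T = 0 := by
      have h20 : (ν + ν) • g = 0 := by rw [CharTwo.add_self_eq_zero, zero_smul]
      rw [hT, sub_mul, mul_sub, mul_sub, hμ, smul_mul_assoc, mul_smul_comm, one_mul, mul_one, smul_mul_smul_comm,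
        one_mul, hν]
      rw [show μ • (1 : Matrix (Fin m) (Fin m) F) - ν • g - (ν • g - μ • 1) =
        (μ + μ) • (1 : Matrix (Fin m) (Fin m) F) - (ν + ν) • g by module, h20, CharTwo.add_self_eq_zero, zero_smul,
        sub_zero]
    obtain ⟨d, hdT, hd0, hd⟩ := exists_iso_mem hH.isUnitary (LinearMap.ker T.mulVecLin) (by
      have h1 := T.mulVecLin.finrank_range_add_finrank_ker
      have h3 : Module.finrank F (LinearMap.range T.mulVecLin) ≤ Module.finrank F (LinearMap.ker T.mulVecLin) := by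
        refine Submodule.finrank_mono ?_
        rintro _ ⟨x, rfl⟩
        rw [LinearMap.mem_ker, mulVecLin_apply, mulVecLin_apply, mulVec_mulVec, hTT, zero_mulVec]
      rw [Module.finrank_fin_fun] at h1
      omega)
    have hgd : g *ᵥ d = ν • d := by
      rw [LinearMap.mem_ker, mulVecLin_apply, hT, sub_mulVec, smul_mulVec, one_mulVec, sub_eq_zero] at hdT
      exact hdT
    have hν0 : ν ≠ 0 := fun e => by
      have := congrArg (gi *ᵥ ·) hgd
      simp only [e, zero_smul, mulVec_zero, mulVec_mulVec, hgig, one_mulVec] at this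
      exact hd0 this
    obtain ⟨t, ht0, ht⟩ := exists_traceZero hH.ne_refl hH.invol
    have hconj : u * urt σ H l t d * u⁻¹ = root l (t • g *ᵥ d) (axis σ H d ᵥ* gi) := by
      rw [mul_inv_eq_iff_eq_mul]
      apply Units.ext
      rw [Units.val_mul, Units.val_mul, urt_val hH l hd, root_val, mul_add, add_mul, mul_one, one_mul, ← emb_smul,
        hh, mul_smul_comm, smul_mul_assoc, cen, mul_vecMulVec, vecMulVec_mul, smul_vecMulVec]
      rw [dotProduct_smul, ← dotProduct_mulVec, mulVec_mulVec, hgig, one_mulVec, hH.axis_self hd, smul_zero]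
    have hgd0 : t • g *ᵥ d ≠ 0 := by rw [hgd]; exact smul_ne_zero ht0 (smul_ne_zero hν0 hd0)
    have hax0 : axis σ H d ᵥ* gi ≠ 0 := fun e => hH.axis_ne hd0 (by
      have := congrArg (· ᵥ* g) e
      simpa [vecMul_vecMul, hgig] using this)
    obtain ⟨-, k, -, -, hk⟩ := root_data hM.ctx
      (by rw [dotProduct_smul, ← dotProduct_mulVec, mulVec_mulVec, hgig, one_mulVec, hH.axis_self hd, smul_zero])
      hgd0 hax0 (hconj ▸ M.mul_mem (M.mul_mem huM (hM.urt_mem l hd ht)) (M.inv_mem huM))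
    rw [hgd, smul_smul, ← leftVec_eq, ← leftVec_eq, hs.leftVec_smul, smul_smul, leftVec_eq] at hk
    obtain ⟨ρ, hρ⟩ : ∃ ρ : F, g * cen σ H d * gi = ρ • cen σ H d := ⟨k * σ (t * ν) * ν, by
      rw [cen, mul_vecMulVec, vecMulVec_mul, hgd, hk, smul_vecMulVec, vecMulVec_smul, smul_smul, mul_comm]⟩
    have hρ1 : ρ = 1 := by
      have e := h2 (cen σ H d)
      rw [hρ, mul_smul_comm, smul_mul_assoc, hρ, smul_smul] at e
      have e1 : ρ * ρ = 1 := by
        by_contra hne
        refine hH.cen_ne hd0 ((smul_eq_zero.mp (show (ρ * ρ - 1) • cen σ H d = 0 by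
          rw [sub_smul, e, one_smul, sub_self])).resolve_left (sub_ne_zero.mpr hne))
      rcases mul_self_eq_one_iff.mp e1 with e2 | e2
      · exact e2
      · rw [e2, CharTwo.neg_eq]
    have hcu : ∀ s, Commute u (urt σ H l s d) := fun s => by
      apply Units.ext
      rw [Units.val_mul, Units.val_mul, urt_val hH l hd, mul_add, add_mul, mul_one, one_mul, ← emb_smul, hh,
        mul_smul_comm, smul_mul_assoc, hρ, hρ1, one_smul]
    have := hM.mem_of_conj_urtGroup (y := y⁻¹) (M.inv_mem hy) hd0 hd (i := l) fun e he => by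
      obtain ⟨s, hsk, rfl⟩ := he
      refine hM.mem_of_comm_root (M.mul_mem (M.mul_mem (M.inv_mem hy) (hM.urt_mem l hd hsk))
        (M.inv_mem (M.inv_mem hy))) h hc hφ hr ?_
      show y⁻¹ * urt σ H l s d * y⁻¹⁻¹ * root i c φ = root i c φ * (y⁻¹ * urt σ H l s d * y⁻¹⁻¹)
      have e := congrArg (fun z => y⁻¹ * z * y) (hcu s).eq
      simp only [hu] at e
      convert e.symm using 1 <;> group
    simpa using (wreath ι m F).inv_mem this
  · -- two factors
    exfalso
    push Not at hthird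
    obtain ⟨gs, hgs⟩ := hperm
    set ga := (gs a : Matrix (Fin m) (Fin m) F) with hga
    set gb := (gs b : Matrix (Fin m) (Fin m) F) with hgb
    have hUp : ∀ xs, (u : Matrix (ι → Fin m) (ι → Fin m) F) *ᵥ pten xs =
        pten fun k => (gs k : Matrix (Fin m) (Fin m) F) *ᵥ xs (Equiv.swap a b k) := fun xs => by
      rw [hgs, Units.val_mul, PtG_val, pmG_val, ← mulVec_mulVec, pm_mulVec_pten, Pt_mulVec_pten, Equiv.symm_swap]
    obtain ⟨lam, hlam, hprod⟩ := exists_scalar_of_Pt_eq_one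
      (hs := fun k => (gs k : Matrix (Fin m) (Fin m) F) * (gs (Equiv.swap a b k) : Matrix (Fin m) (Fin m) F)) (by
        refine ext_pten fun xs => ?_
        rw [Pt_mulVec_pten, ← hUU, ← mulVec_mulVec, hUp, hUp]
        simp only [mulVec_mulVec, Equiv.swap_apply_self])
    have hla := hlam a
    have hlb := hlam b
    simp only [Equiv.swap_apply_left, ← hga, ← hgb] at hla
    simp only [Equiv.swap_apply_right, ← hga, ← hgb] at hlb
    have heq : lam a = lam b := by
      by_contra hne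
      have e : (lam a - lam b) • gb = 0 := by
        have := congrArg (gb * ·) hla
        rw [← mul_assoc, hlb, smul_mul_assoc, one_mul, mul_smul_comm, mul_one] at this
        rw [sub_smul, this, sub_self]
      have h0 := (gs b).isUnit
      rw [← hgb, (smul_eq_zero.mp e).resolve_left (sub_ne_zero.mpr hne)] at h0
      exact not_isUnit_zero h0
    have huniv : (Finset.univ : Finset ι) = {a, b} := by
      ext k
      simp only [Finset.mem_univ, Finset.mem_insert, Finset.mem_singleton, true_iff]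
      by_cases hk : k = a
      · exact Or.inl hk
      · exact Or.inr (hthird k hk)
    have hgab : ga * gb = 1 := by
      rw [huniv, Finset.prod_pair hab, ← heq] at hprod
      rcases mul_self_eq_one_iff.mp hprod with e | e
      · rw [hla, e, one_smul]
      · rw [hla, e, CharTwo.neg_eq, one_smul]
    obtain ⟨d, -, hd0, hd⟩ := exists_iso_mem hH.isUnitary ⊤
      (by rw [finrank_top, Module.finrank_fin_fun]; exact hM.two_le)
    obtain ⟨d', hd', hd'd, hdd'⟩ := TensorUnitary.exists_partner hH.isUnitary hd0 hd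
    obtain ⟨e, hed, hed', hee⟩ := TensorUnitary.exists_noniso_orth hH.isUnitary
      (by rw [Fintype.card_fin]; exact hM.ctx.par.1) hd hd' hd'd hdd'
    have hind : ∀ k : F, k • d ≠ e := fun k hk => hee (by
      rw [← hk, hs.smul_left, hs.smul_right, hd]; ring)
    let P : (Fin m → F) → (Fin m → F) → ι → Fin m → F := fun x x' k => if k = a then x else x'
    have hPa : ∀ x x', P x x' a = x := fun x x' => by simp [P]
    have hPb : ∀ x x', P x x' b = x' := fun x x' => by simp [P, hab.symm]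
    set v := pten (P e (gb *ᵥ d)) - pten (P d (gb *ᵥ e)) with hv
    have hvu : ((u : Matrix (ι → Fin m) (ι → Fin m) F) - 1) *ᵥ pten (P d (gb *ᵥ e)) = v := by
      rw [sub_mulVec, one_mulVec, hUp, hv]
      congr 2
      funext k
      by_cases hk : k = a
      · subst hk
        rw [Equiv.swap_apply_left, hPb, hPa, mulVec_mulVec, ← hga, hgab, one_mulVec]
      · obtain rfl := hthird k hk
        rw [Equiv.swap_apply_right, hPa, hPb]
    set v₀ := ((root i c φ : Matrix (ι → Fin m) (ι → Fin m) F) - 1) *ᵥ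
      (((y⁻¹ : GL (ι → Fin m) F) : Matrix (ι → Fin m) (ι → Fin m) F) *ᵥ pten (P d (gb *ᵥ e))) with hv₀
    have hyv : (y : Matrix (ι → Fin m) (ι → Fin m) F) *ᵥ v₀ = v := by
      rw [hv₀, ← hvu, hu, conj_sub_one, ← mulVec_mulVec, ← mulVec_mulVec]
    have hv₀b : v₀ ∈ block i c := by rw [block_eq_range hφ, ← root_sub_one h]; exact ⟨_, rfl⟩
    have hfix0 : urtGroup hH i hcc ≤ fixVec v₀ := by
      rintro _ ⟨s, -, rfl⟩
      obtain ⟨w, hw⟩ := exists_lift_of_mem_block hc hv₀b
      rw [mem_fixVec, urt_val hH i hcc, add_mulVec, one_mulVec, add_eq_left, smul_mulVec, hw, emb_cen_lift, hcc,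
        zero_smul, map_zero, smul_zero]
    have hfix : urtGroup hH a hd ≤ fixVec v := by
      rintro _ ⟨s, -, rfl⟩
      rw [mem_fixVec, urt_val hH a hd, add_mulVec, one_mulVec, add_eq_left, smul_mulVec, hv, mulVec_sub,
        emb_mulVec_pten, emb_mulVec_pten, hPa, hPa, cen_mulVec, cen_mulVec, hed, hd, zero_smul,
        pten_eq_zero.mpr ⟨a, Function.update_self _ _ _⟩, pten_eq_zero.mpr ⟨a, Function.update_self _ _ _⟩,
        sub_zero, smul_zero]
    obtain ⟨l, -, ⟨τ, hτ⟩, hl⟩ := hM.exists_mem_of_fix hc hcc hd0 hd hfix0 hfix hy hyv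
    obtain ⟨k, z, hz, hmem⟩ := hl ▸ hτ.map_oneRank (v := v₀) ⟨i, c, hc, hv₀b⟩
    -- `v` lies in no block
    obtain ⟨w, hw⟩ := exists_lift_of_mem_block hz hmem
    have hdot : ∀ χ ψ : Fin m → F, pten (P χ ψ) ⬝ᵥ v =
        (χ ⬝ᵥ e) * (ψ ⬝ᵥ (gb *ᵥ d)) - (χ ⬝ᵥ d) * (ψ ⬝ᵥ (gb *ᵥ e)) := fun χ ψ => by
      rw [hv, dotProduct_sub, pten_dot, pten_dot, huniv, Finset.prod_pair hab, Finset.prod_pair hab]
      simp [hPa, hPb]
    have hzero : ∀ χ ψ : Fin m → F, P χ ψ k ⬝ᵥ z = 0 → pten (P χ ψ) ⬝ᵥ v = 0 := fun χ ψ h0 => by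
      rw [hw, show pten (P χ ψ) = lift k (P χ ψ k) (pten fun j : {j // j ≠ k} => P χ ψ j) by
        rw [lift_pten, Function.update_eq_self], TWSp.lift_dot, h0, zero_mul]
    have hgind : ∀ r : F, r • (gb *ᵥ d) ≠ gb *ᵥ e := fun r hr => hind r (by
      have := congrArg (ga *ᵥ ·) hr
      simpa [mulVec_smul, mulVec_mulVec, hgab] using this)
    by_cases hka : k = a
    · obtain ⟨ψ, hψ0, hψ1⟩ := exists_dot_eq_zero_one hgind
      rw [dotProduct_comm] at hψ0 hψ1
      obtain ⟨ψ', hψ'⟩ := exists_dot_eq_one (x := gb *ᵥ d) fun h0 => hd0 (by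
        have := congrArg (ga *ᵥ ·) h0
        simpa [mulVec_mulVec, hgab] using this)
      have hχ : ∀ χ, χ ⬝ᵥ z = 0 → χ ⬝ᵥ d = 0 ∧ χ ⬝ᵥ e = 0 := fun χ hχ => by
        have h1 := hzero χ ψ (by rw [hka, hPa]; exact hχ)
        rw [hdot, hψ0, hψ1] at h1
        have h2 := hzero χ ψ' (by rw [hka, hPa]; exact hχ)
        rw [hdot, hψ'] at h2
        have h3 : χ ⬝ᵥ d = 0 := by linear_combination -h1
        exact ⟨h3, by rw [h3] at h2; linear_combination h2⟩
      by_cases hzd : ∀ r : F, r • z ≠ d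
      · obtain ⟨χ, h1, h2⟩ := exists_dot_eq_zero_one hzd
        rw [dotProduct_comm] at h1 h2
        exact one_ne_zero (h2.symm.trans (hχ χ h1).1)
      · push Not at hzd
        obtain ⟨r, hr⟩ := hzd
        obtain ⟨χ, h1, h2⟩ := exists_dot_eq_zero_one (a := z) (b := e) fun r' hr' => by
          have hr0 : r ≠ 0 := fun e0 => hd0 (by rw [← hr, e0, zero_smul])
          exact hind (r' / r) (by rw [← hr, smul_smul, div_mul_cancel₀ _ hr0, hr'])
        rw [dotProduct_comm] at h1 h2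
        exact one_ne_zero (h2.symm.trans (hχ χ h1).2)
    · obtain rfl := hthird k hka
      obtain ⟨χ₁, h10, h11⟩ := exists_dot_eq_zero_one hind
      rw [dotProduct_comm] at h10 h11
      obtain ⟨χ₂, hχ₂⟩ := exists_dot_eq_one hd0
      have hψ : ∀ ψ, ψ ⬝ᵥ z = 0 → ψ ⬝ᵥ (gb *ᵥ d) = 0 ∧ ψ ⬝ᵥ (gb *ᵥ e) = 0 := fun ψ hψ => by
        have h1 := hzero χ₁ ψ (by rw [hPb]; exact hψ)
        rw [hdot, h10, h11] at h1
        have h2 := hzero χ₂ ψ (by rw [hPb]; exact hψ)
        rw [hdot, hχ₂] at h2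
        have h3 : ψ ⬝ᵥ (gb *ᵥ d) = 0 := by linear_combination h1
        exact ⟨h3, by rw [h3] at h2; linear_combination -h2⟩
      by_cases hzd : ∀ r : F, r • z ≠ gb *ᵥ d
      · obtain ⟨ψ, h1, h2⟩ := exists_dot_eq_zero_one hzd
        rw [dotProduct_comm] at h1 h2
        exact one_ne_zero (h2.symm.trans (hψ ψ h1).1)
      · push Not at hzd
        obtain ⟨r, hr⟩ := hzd
        obtain ⟨ψ, h1, h2⟩ := exists_dot_eq_zero_one (a := z) (b := gb *ᵥ e) fun r' hr' => by
          have hr0 : r ≠ 0 := fun e0 => hd0 (by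
            have := congrArg (ga *ᵥ ·) hr
            simpa [e0, mulVec_mulVec, hgab] using this.symm)
          exact hgind (r' / r) (by rw [← hr, smul_smul, div_mul_cancel₀ _ hr0, hr'])
        rw [dotProduct_comm] at h1 h2
        exact one_ne_zero (h2.symm.trans (hψ ψ h1).2)

/-- `p`-subgroups containing a root lie in the wreath group. -/
theorem le_of_root_mem {p : ℕ} [Fact p.Prime] [CharP F p] {X : Subgroup (GL (ι → Fin m) F)} (hXM : X ≤ M)
    (hX : IsPGroup p X) {i : ι} {c φ : Fin m → F} (h : φ ⬝ᵥ c = 0) (hc : c ≠ 0) (hφ : φ ≠ 0)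
    (hr : root i c φ ∈ X) : X ≤ wreath ι m F := by
  have : Nonempty ι := ⟨i⟩
  obtain ⟨P, hPW, hP⟩ := hM.exists_sylow (p := p)
  obtain ⟨g, hgM, hg⟩ := hP X hXM hX
  have hgW := hM.mem_of_conj_root hgM h hc hφ (hXM hr) (hPW (hg _ hr))
  intro x hx
  have := (wreath ι m F).mul_mem ((wreath ι m F).mul_mem ((wreath ι m F).inv_mem hgW) (hPW (hg x hx))) hgW
  simpa [mul_assoc] using this

/-- Elements commuting with a non-trivial involution of one factor lie in the wreath group. -/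
theorem mem_of_comm_embG [CharP F 2] {g : GL (ι → Fin m) F} (hg : g ∈ M) {i : ι} {A : GL (Fin m) F}
    (hA : A * A = 1) (hA1 : A ≠ 1) (hAM : embG i A ∈ M) (hcomm : Commute g (embG i A)) :
    g ∈ wreath ι m F := by
  have := hM.neZero
  have hH := hM.ctx.form
  have hs := hH.sesq
  have hAiso := isom_of_embG_mem hM.ctx hAM
  set Am := (A : Matrix (Fin m) (Fin m) F) with hAm
  have hAA : Am * Am = 1 := by rw [hAm, ← Units.val_mul, hA, Units.val_one]
  set N := Am - 1 with hN
  have h2 : (2 : F) = 0 := CharTwo.two_eq_zero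
  have hadj : ∀ x y, hm σ H (N *ᵥ x) y = hm σ H x (N *ᵥ y) := fun x y => by
    have e : hm σ H (Am *ᵥ x) y = hm σ H x (Am *ᵥ y) := by
      rw [← hAiso x, mulVec_mulVec, hAA, one_mulVec]
    rw [hN, sub_mulVec, sub_mulVec, one_mulVec, one_mulVec, hs.sub_left, hs.sub_right, e]
  have hNN : N * N = 0 := by
    rw [hN, sub_mul, mul_sub, hAA, one_mul, mul_one]
    rw [show (1 : Matrix (Fin m) (Fin m) F) - Am - (Am - 1) = (2 : F) • (1 - Am) by module, h2, zero_smul]
  obtain ⟨d, hd⟩ : ∃ d, N *ᵥ d ≠ 0 := by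
    by_contra hcon
    push Not at hcon
    have hN0 : N = 0 := Matrix.ext_of_mulVec_single fun j => by rw [hcon, zero_mulVec]
    exact hA1 (Units.ext (sub_eq_zero.mp hN0))
  set c := N *ᵥ d with hcdef
  have hcc : hm σ H c c = 0 := by
    rw [hcdef, hadj, mulVec_mulVec, hNN, zero_mulVec, hs.zero_right]
  obtain ⟨t, ht0, ht⟩ := exists_traceZero hH.ne_refl hH.invol
  -- the root factors through `N` on both sides
  have hax : axis σ H c = axis σ H d ᵥ* N := dotProduct_eq _ _ fun x => by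
    rw [axis_dot, ← dotProduct_mulVec, axis_dot, hcdef, hadj]
  have hleft : cen σ H c = N * vecMulVec d (axis σ H c) := by rw [mul_vecMulVec, ← hcdef, cen]
  have hright : cen σ H c = vecMulVec c (axis σ H d) * N := by rw [vecMulVec_mul, ← hax, cen]
  set r := urt σ H i t c with hr
  set X := emb (ι := ι) i N with hX
  have hrL : (r : Matrix (ι → Fin m) (ι → Fin m) F) - 1 = X * (t • emb i (vecMulVec d (axis σ H c))) := by
    rw [hr, urt_sub_one hH i hcc, hleft, emb_mul, mul_smul_comm]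
  have hrR : (r : Matrix (ι → Fin m) (ι → Fin m) F) - 1 = (t • emb i (vecMulVec c (axis σ H d))) * X := by
    rw [hr, urt_sub_one hH i hcc, hright, emb_mul, smul_mul_assoc]
  have hXX : X * X = 0 := by rw [hX, ← emb_mul, hNN, emb_zero]
  set G := (g : Matrix (ι → Fin m) (ι → Fin m) F) with hG
  set Gi := ((g⁻¹ : GL (ι → Fin m) F) : Matrix (ι → Fin m) (ι → Fin m) F) with hGi
  have hgiX : ∀ {k : GL (ι → Fin m) F}, Commute k (embG i A) →
      (k : Matrix (ι → Fin m) (ι → Fin m) F) * X = X * (k : Matrix (ι → Fin m) (ι → Fin m) F) := fun {k} hk => by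
    have e := congrArg Units.val hk.eq
    rw [Units.val_mul, Units.val_mul, embG_val] at e
    rw [hX, hN, emb_sub, emb_one, mul_sub, sub_mul, mul_one, one_mul, e]
  have hgX : G * X = X * G := hgiX hcomm
  have hgiX' : Gi * X = X * Gi := hgiX hcomm.inv_left
  set r' := g * r * g⁻¹ with hr'
  have hr'1 : (r' : Matrix (ι → Fin m) (ι → Fin m) F) - 1 =
      G * ((r : Matrix (ι → Fin m) (ι → Fin m) F) - 1) * Gi := conj_sub_one g r
  clear_value r'
  set R := (r : Matrix (ι → Fin m) (ι → Fin m) F) - 1 with hR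
  set R' := (r' : Matrix (ι → Fin m) (ι → Fin m) F) - 1 with hR'
  have h1 : R' * R = 0 := by
    rw [hr'1]
    conv_lhs => arg 2; rw [hrL]
    conv_lhs => arg 1; arg 1; arg 2; rw [hrR]
    simp only [Matrix.mul_assoc]
    rw [← Matrix.mul_assoc X Gi, ← hgiX', Matrix.mul_assoc Gi, ← Matrix.mul_assoc X X, hXX, Matrix.zero_mul,
      Matrix.mul_zero, Matrix.mul_zero, Matrix.mul_zero]
  have h2' : R * R' = 0 := by
    rw [hr'1]
    conv_lhs => arg 1; rw [hrR]
    conv_lhs => arg 2; arg 1; arg 2; rw [hrL]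
    simp only [Matrix.mul_assoc]
    rw [← Matrix.mul_assoc G X, hgX, Matrix.mul_assoc X G, ← Matrix.mul_assoc X X, hXX, Matrix.zero_mul,
      Matrix.mul_zero]
  have hrr : Commute r' r := by
    apply Units.ext
    rw [Units.val_mul, Units.val_mul, show (r' : Matrix (ι → Fin m) (ι → Fin m) F) = 1 + R' by rw [hR', add_sub_cancel],
      show (r : Matrix (ι → Fin m) (ι → Fin m) F) = 1 + R by rw [hR, add_sub_cancel], add_mul, add_mul, mul_add,
      mul_add, mul_add, mul_add, h1, h2', one_mul, one_mul, one_mul, mul_one, mul_one]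
    abel
  have hrM := hM.urt_mem i hcc ht
  have hr'W := hM.mem_of_comm_root (hr' ▸ M.mul_mem (M.mul_mem hg hrM) (M.inv_mem hg) : r' ∈ M) (root_orth hH hcc t)
    (smul_ne_zero ht0 hd) (hH.axis_ne hd) hrM hrr
  exact hM.mem_of_conj_root hg (root_orth hH hcc t) (smul_ne_zero ht0 hd) (hH.axis_ne hd) hrM (hr' ▸ hr'W)

/-- In odd characteristic, elements fixing a slice pointwise lie in the wreath group. -/
theorem mem_of_fix_vec [Nontrivial ι] {p : ℕ} [Fact p.Prime] [CharP F p] (hp2 : p ≠ 2)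
    {x : GL (ι → Fin m) F} (hx : x ∈ M) {i : ι} {e : Fin m → F} (he : e ≠ 0)
    (hfix : ∀ w, (x : Matrix (ι → Fin m) (ι → Fin m) F) *ᵥ lift i e w = lift i e w) : x ∈ wreath ι m F := by
  classical
  have := hM.neZero
  have hH := hM.ctx.form
  have h2F : (2 : F) ≠ 0 := Ring.two_ne_zero (by rw [ringChar.eq F p]; exact hp2)
  obtain ⟨j, hji⟩ := exists_ne i
  obtain ⟨c, -, hc0, hc⟩ := exists_iso_mem hH.isUnitary ⊤
    (by rw [finrank_top, Module.finrank_fin_fun]; exact hM.two_le)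
  obtain ⟨s, hs0, hs⟩ := exists_traceZero hH.ne_refl hH.invol
  set r := urt σ H j s c with hr
  have hrM := hM.urt_mem j hc hs
  have horth := root_orth hH hc s
  have hsc : s • c ≠ 0 := smul_ne_zero hs0 hc0
  set r' := x * r * x⁻¹ with hr'
  have hr'M : r' ∈ M := M.mul_mem (M.mul_mem hx hrM) (M.inv_mem hx)
  suffices hr'W : r' ∈ wreath ι m F from hM.mem_of_conj_root hx horth hsc (hH.axis_ne hc0) hrM hr'W
  have hcl : Subgroup.closure ({r, r'} : Set (GL (ι → Fin m) F)) ≤ M := by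
    rw [Subgroup.closure_le]; rintro z (rfl | rfl) <;> assumption
  set Q := s • emb (⟨j, hji⟩ : {k // k ≠ i}) (cen σ H c) with hQ
  have hQQ : ∀ w : Rest i m → F, Q *ᵥ (Q *ᵥ w) = 0 := fun w => by
    rw [mulVec_mulVec, hQ, smul_mul_smul_comm, ← emb_mul, cen_sq hc, emb_zero, smul_zero, zero_mulVec]
  have hrlift : ∀ w, (r : Matrix (ι → Fin m) (ι → Fin m) F) *ᵥ lift i e w = lift i e (w + Q *ᵥ w) := fun w => by
    rw [hr, urt_val hH j hc, add_mulVec, one_mulVec, map_add, TWSp.emb_rest i ⟨j, hji⟩, ← TWSp.kr_smul_right,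
      TWSp.kr_mulVec_lift, one_mulVec]
  have hr'lift : ∀ w, (r' : Matrix (ι → Fin m) (ι → Fin m) F) *ᵥ lift i e w = lift i e (w + Q *ᵥ w) := fun w => by
    have hxi : ((x⁻¹ : GL (ι → Fin m) F) : Matrix (ι → Fin m) (ι → Fin m) F) *ᵥ lift i e w = lift i e w := by
      conv_lhs => rw [← hfix w]
      rw [mulVec_mulVec, Units.inv_mul, one_mulVec]
    rw [hr', Units.val_mul, Units.val_mul, ← mulVec_mulVec, ← mulVec_mulVec, hxi, hrlift, hfix]
  let K : Subgroup (GL (ι → Fin m) F) :=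
    { carrier := {g | ∃ a : F, ∀ w, (g : Matrix (ι → Fin m) (ι → Fin m) F) *ᵥ lift i e w =
        lift i e (w + a • Q *ᵥ w)}
      one_mem' := ⟨0, fun w => by rw [Units.val_one, one_mulVec, zero_smul, add_zero]⟩
      mul_mem' := by
        rintro g g' ⟨a, ha⟩ ⟨b, hb⟩
        refine ⟨a + b, fun w => ?_⟩
        rw [Units.val_mul, ← mulVec_mulVec, hb, ha, mulVec_add, mulVec_smul, hQQ]
        congr 1
        module
      inv_mem' := by
        rintro g ⟨a, ha⟩
        refine ⟨-a, fun w => ?_⟩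
        have := ha (w + (-a) • Q *ᵥ w)
        rw [mulVec_add, mulVec_smul, hQQ] at this
        conv_lhs => rw [show lift i e w = (g : Matrix (ι → Fin m) (ι → Fin m) F) *ᵥ lift i e (w + (-a) • Q *ᵥ w) by
          rw [this]; congr 1; module]
        rw [mulVec_mulVec, Units.inv_mul, one_mulVec] }
  have hclK : Subgroup.closure ({r, r'} : Set (GL (ι → Fin m) F)) ≤ K := by
    rw [Subgroup.closure_le]
    rintro z (rfl | rfl)
    · exact ⟨1, fun w => by rw [one_smul]; exact hrlift w⟩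
    · exact ⟨1, fun w => by rw [one_smul]; exact hr'lift w⟩
  have hr1 : ∀ {g : GL (ι → Fin m) F}, (g : Matrix (ι → Fin m) (ι → Fin m) F) =
      1 + ((g : Matrix (ι → Fin m) (ι → Fin m) F) - 1) := fun {g} => (add_sub_cancel _ _).symm
  rcases quadratic_pair hp2 r r' hr1 hr1 (root_quadratic horth) (conj_quadratic (root_quadratic horth)) with
    hG | ⟨z, hzG, hz1, hzz, hzN, -, hrank⟩
  · exact hM.le_of_root_mem hcl hG horth hsc (hH.axis_ne hc0) (Subgroup.subset_closure (Or.inl rfl))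
      (Subgroup.subset_closure (Or.inr rfl))
  exfalso
  set N := (r : Matrix (ι → Fin m) (ι → Fin m) F) - 1 with hN
  -- `z` fixes the slice
  obtain ⟨a, ha⟩ := hclK hzG
  have hzfix : ∀ w, (z : Matrix (ι → Fin m) (ι → Fin m) F) *ᵥ lift i e w = lift i e w := fun w => by
    have h1 := congrArg (fun g : GL (ι → Fin m) F => (g : Matrix (ι → Fin m) (ι → Fin m) F) *ᵥ lift i e w) hzz
    simp only [Units.val_mul, Units.val_one, one_mulVec, ← mulVec_mulVec, ha, mulVec_add, mulVec_smul, hQQ,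
      smul_zero, add_zero] at h1
    have h3 := lift_injective (i := i) he h1
    rw [add_assoc, add_eq_left, ← two_smul F, smul_eq_zero, or_iff_right h2F] at h3
    rw [ha, h3, add_zero]
  obtain ⟨τ, gs, hgs⟩ := hM.mem_of_comm_root (hcl hzG) horth hsc (hH.axis_ne hc0) hrM (by
    apply Units.ext
    rw [Units.val_mul, Units.val_mul]
    show (z : Matrix (ι → Fin m) (ι → Fin m) F) * (r : Matrix (ι → Fin m) (ι → Fin m) F) = r * z
    rw [hr1 (g := r), mul_add, add_mul, mul_one, one_mul, hzN])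
  have hzp : ∀ xs : ι → Fin m → F, xs i = e → pten (fun k => (gs k : Matrix (Fin m) (Fin m) F) *ᵥ xs (τ.symm k)) =
      pten xs := fun xs hxs => by
    have h1 := hzfix (pten fun k : {k // k ≠ i} => xs k)
    rw [lift_pten, ← hxs, Function.update_eq_self, hgs, Units.val_mul, PtG_val, pmG_val, ← mulVec_mulVec,
      pm_mulVec_pten, Pt_mulVec_pten] at h1
    exact h1
  have hfixk : ∀ k, k ≠ i → τ.symm k = k := by
    intro k hk
    by_contra hne
    obtain ⟨f, hf⟩ := exists_indep hM.two_le ((gs k : Matrix (Fin m) (Fin m) F) *ᵥ e)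
    have hf0 : f ≠ 0 := fun h0 => hf 0 (by rw [zero_smul, h0])
    set xs : ι → Fin m → F := Function.update (fun _ => e) k f with hxs
    have hx0 : pten xs ≠ 0 := pten_ne_zero fun l => by
      rcases eq_or_ne l k with rfl | hl
      · simpa [hxs] using hf0
      · simpa [hxs, hl] using he
    obtain ⟨d, hd, hdk⟩ := prop_of_pten_eq hx0 (hzp xs (by simp [hxs, Ne.symm hk])).symm k
    simp only [hxs, Function.update_of_ne hne, Function.update_self] at hdk
    exact hf d⁻¹ (by rw [hdk, smul_smul, inv_mul_cancel₀ hd, one_smul])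
  have hτ : τ.symm = 1 := Equiv.ext fun k => by
    by_cases hk : k = i
    · subst hk
      by_contra hne
      exact hne (τ.symm.injective (hfixk _ hne))
    · exact hfixk k hk
  have hscal : ∀ k, k ≠ i → ∃ l : F, (gs k : Matrix (Fin m) (Fin m) F) = l • 1 := by
    intro k hk
    refine scalar_of_eigen _ fun f hf => ?_
    set xs : ι → Fin m → F := Function.update (fun _ => e) k f with hxs
    have hx0 : pten xs ≠ 0 := pten_ne_zero fun l => by
      rcases eq_or_ne l k with rfl | hl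
      · simpa [hxs] using hf
      · simpa [hxs, hl] using he
    obtain ⟨d, -, hdk⟩ := prop_of_pten_eq hx0 (hzp xs (by simp [hxs, Ne.symm hk])).symm k
    rw [hτ] at hdk
    simp only [Equiv.Perm.coe_one, id_eq, hxs, Function.update_self] at hdk
    exact ⟨d, hdk⟩
  choose! l hl using hscal
  set ls : ι → F := fun k => if k = i then 1 else l k with hls
  set T := (∏ k, ls k) • (gs i : Matrix (Fin m) (Fin m) F) with hT
  have hzT : (z : Matrix (ι → Fin m) (ι → Fin m) F) = emb i T := by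
    have hτ1 : τ = 1 := inv_eq_one.mp (show τ⁻¹ = 1 from hτ)
    rw [hgs, hτ1, map_one, mul_one, PtG_val, hT, emb_smul, emb, ← Pt_smul]
    congr 1
    funext k
    rcases eq_or_ne k i with rfl | hk
    · simp [hls]
    · simp [hls, hk, hl k hk]
  -- the rank of `1 - z` against that of its restriction to the block
  set B := emb (⟨i, hji.symm⟩ : {k // k ≠ j}) (1 - T) with hB
  have hD : 1 - (z : Matrix (ι → Fin m) (ι → Fin m) F) = kr j 1 B := by
    rw [hB, ← TWSp.emb_rest j ⟨i, hji.symm⟩, emb_sub, emb_one, hzT]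
  set S := LinearMap.range B.mulVecLin with hS
  have hND : ((1 - (z : Matrix (ι → Fin m) (ι → Fin m) F)) * N).rank ≤ Module.finrank F S := by
    refine le_trans (Submodule.finrank_mono ?_) (Submodule.finrank_map_le (lift j (s • c)) S)
    rintro _ ⟨v, rfl⟩
    obtain ⟨w, hw⟩ := exists_lift_of_mem_block hsc
      (show N *ᵥ v ∈ block j (s • c) by
        rw [block_eq_range (hH.axis_ne hc0), hN, hr, urt, root_sub_one horth]; exact ⟨v, rfl⟩)
    refine ⟨B *ᵥ w, ⟨w, rfl⟩, ?_⟩
    rw [mulVecLin_apply, ← mulVec_mulVec, hw, hD, TWSp.kr_mulVec_lift, one_mulVec]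
  let ex : Fin 3 → Fin m := fun q => ⟨q.1, lt_of_lt_of_le q.2 hM.ctx.par.1⟩
  let Φ : (Fin 3 → S) →ₗ[F] ((ι → Fin m) → F) :=
    ∑ q : Fin 3, lift j (Pi.single (ex q) 1) ∘ₗ S.subtype ∘ₗ LinearMap.proj q
  have hΦ : ∀ f, Φ f = ∑ q : Fin 3, lift j (Pi.single (ex q) 1) (f q : Rest j m → F) := fun f => by
    simp [Φ, LinearMap.sum_apply]
  have hΦi : Function.Injective Φ := by
    intro f f' hff
    funext q
    apply Subtype.ext
    funext t
    have := congrFun hff (extend j (ex q) t)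
    rw [hΦ, hΦ, Finset.sum_apply, Finset.sum_apply] at this
    simp only [lift_apply, extend_self, extend_rest, Pi.single_apply, ite_mul, one_mul, zero_mul] at this
    have he' : ∀ q', (ex q = ex q') = (q = q') := fun q' => by simp [ex, Fin.ext_iff]
    simpa [he'] using this
  have hle : LinearMap.range Φ ≤ LinearMap.range (1 - (z : Matrix (ι → Fin m) (ι → Fin m) F)).mulVecLin := by
    rintro _ ⟨f, rfl⟩
    rw [hΦ]
    refine Submodule.sum_mem _ fun q _ => ?_
    obtain ⟨w, hw⟩ := (f q).2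
    rw [mulVecLin_apply] at hw
    exact ⟨lift j (Pi.single (ex q) 1) w, by rw [mulVecLin_apply, hD, TWSp.kr_mulVec_lift, one_mulVec, hw]⟩
  have h3 := Submodule.finrank_mono hle
  rw [LinearMap.finrank_range_of_inj hΦi, Module.finrank_pi_fintype] at h3
  simp only [Finset.sum_const, Finset.card_univ, Fintype.card_fin, smul_eq_mul] at h3
  simp only [Matrix.rank] at hrank hND
  have hS0 : Module.finrank F S = 0 := by omega
  rw [Submodule.finrank_eq_zero, hS, LinearMap.range_eq_bot] at hS0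
  have hB0 : B = 0 := Matrix.ext_of_mulVec_single fun q => by
    rw [← mulVecLin_apply, hS0, zero_mulVec]; rfl
  rw [hB0, TWSp.kr_zero_right, sub_eq_zero] at hD
  exact hz1 (Units.ext hD.symm)

end Rigid

end CfsgLib.TWU
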