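import Cfsg.Agent.TensorWreathUni.Form
import Cfsg.Agent.TensorUnitary.Siegel

/-!
# Invariant additive sets contain tensors of rank-one nilpotents

A triple commutator with a transvection and two Siegel elements replaces `A` by `c • P * A * P`.
-/

set_option autoImplicit false
set_option linter.unusedSectionVars false
set_option linter.unusedSimpArgs false

namespace CfsgLib.TWU

open Matrix Cfsg.Geo CfsgLib.MaxSub CfsgLib.TWreath
open CfsgLib.TWSp (kr gram)
open CfsgLib.TensorUnitary (isom su pMat rMat siegMat)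
open scoped Kronecker

variable {F : Type*} [Field F] [Finite F] {σ : F ≃+* F} {m : ℕ} {H : Matrix (Fin m) (Fin m) F}

/-- The triple difference. -/
theorem delta_eq {N : Type} [Fintype N] [DecidableEq N] (A P X Y : Matrix N N F) (hPP : P * P = 0)
    (hPX : P * X = 0) (hXP : X * P = 0) (hPY : P * Y = 0) (hYP : Y * P = 0) {μ μ' : F}
    (hXY : X * Y = -(μ • P)) (hYX : Y * X = -(μ' • P)) (s a a' b b' : F) :
    let D1 := (1 + s • P) * A * (1 - s • P) - A
    let D2 := (1 + (X + a • P)) * D1 * (1 + (-X + a' • P)) - D1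
    (1 + (Y + b • P)) * D2 * (1 + (-Y + b' • P)) - D2 = (s * (μ' - μ)) • (P * A * P) := by
  intro D1 D2
  have h1 : D1 = s • (P * A) - s • (A * P) - (s * s) • (P * A * P) := by
    simp only [D1, add_mul, mul_sub, one_mul, mul_one, smul_mul_assoc, mul_smul_comm]
    module
  have hz1 : ∀ Z, P * (P * Z) = 0 := fun Z => by rw [← Matrix.mul_assoc, hPP, Matrix.zero_mul]
  have hz2 : ∀ Z, X * (P * Z) = 0 := fun Z => by rw [← Matrix.mul_assoc, hXP, Matrix.zero_mul]
  have hz3 : ∀ Z, Y * (P * Z) = 0 := fun Z => by rw [← Matrix.mul_assoc, hYP, Matrix.zero_mul]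
  have h2 : D2 = (-s) • (P * A * X) + (s * a' - s * a) • (P * A * P) + (-s) • (X * A * P) := by
    simp only [D2, h1, mul_add, add_mul, mul_sub, sub_mul, one_mul, mul_one, smul_mul_assoc, mul_smul_comm,
      Matrix.mul_neg, Matrix.neg_mul, Matrix.mul_assoc, hz1, hz2, hPP, hPX, hXP, smul_zero, Matrix.mul_zero,
      Matrix.zero_mul, neg_zero, smul_add, smul_sub, smul_neg, smul_smul, zero_add, add_zero, sub_zero, zero_sub]
    module
  have hz4 : ∀ Z, P * (X * Z) = 0 := fun Z => by rw [← Matrix.mul_assoc, hPX, Matrix.zero_mul]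
  have hz5 : ∀ Z, Y * (X * Z) = -(μ' • (P * Z)) := fun Z => by
    rw [← Matrix.mul_assoc, hYX, Matrix.neg_mul, smul_mul_assoc]
  simp only [h2, mul_add, add_mul, one_mul, mul_one, smul_mul_assoc, mul_smul_comm, Matrix.mul_neg,
    Matrix.neg_mul, Matrix.mul_assoc, hz1, hz2, hz3, hz4, hz5, hPP, hPX, hXP, hPY, hYP, hXY, smul_zero,
    Matrix.mul_zero, Matrix.zero_mul, neg_zero, smul_add, smul_neg, smul_smul, zero_add, add_zero, neg_neg]
  module

theorem rMat_neg (hH : UForm σ H) (u v : Fin m → F) : rMat (hm σ H) u (-v) = - rMat (hm σ H) u v := by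
  have h := TensorUnitary.rMat_sub hH.isUnitary u 0 v
  have h0 : rMat (hm σ H) u 0 = 0 := by
    have := TensorUnitary.rMat_sub hH.isUnitary u v v
    simpa using this
  rw [zero_sub, h0, zero_sub] at h
  exact h

theorem cen_mul_rMat (hH : UForm σ H) {u v : Fin m → F} (hu : hm σ H u u = 0) (hv : hm σ H v u = 0) :
    cen σ H u * rMat (hm σ H) u v = 0 := by
  have hs := hH.sesq
  refine Matrix.ext_iff_mulVec.mpr fun x => ?_
  rw [← mulVec_mulVec, cen_mulVec, TensorUnitary.rMat_mulVec hH.isUnitary, hs.sub_left, hs.smul_left,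
    hs.smul_left, hu, hv, zero_mulVec]
  simp

theorem rMat_mul_cen (hH : UForm σ H) {u v : Fin m → F} (hu : hm σ H u u = 0) (hv : hm σ H v u = 0) :
    rMat (hm σ H) u v * cen σ H u = 0 := by
  have hs := hH.sesq
  refine Matrix.ext_iff_mulVec.mpr fun x => ?_
  rw [← mulVec_mulVec, cen_mulVec, mulVec_smul, TensorUnitary.rMat_mulVec hH.isUnitary, hu,
    unitary_orth_symm hH.isUnitary hv, zero_mulVec]
  simp

theorem rMat_mul_rMat (hH : UForm σ H) {u v w : Fin m → F} (hu : hm σ H u u = 0) (hv : hm σ H v u = 0)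
    (hw : hm σ H w u = 0) :
    rMat (hm σ H) u v * rMat (hm σ H) u w = -(hm σ H w v • cen σ H u) := by
  have hs := hH.sesq
  refine Matrix.ext_iff_mulVec.mpr fun x => ?_
  rw [← mulVec_mulVec, neg_mulVec, smul_mulVec, cen_mulVec, TensorUnitary.rMat_mulVec hH.isUnitary u w x,
    mulVec_sub, mulVec_smul, mulVec_smul, TensorUnitary.rMat_mulVec hH.isUnitary,
    TensorUnitary.rMat_mulVec hH.isUnitary, hu, hw, unitary_orth_symm hH.isUnitary hv]
  module

theorem siegMat_zero_eq (hH : UForm σ H) (u : Fin m → F) :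
    siegMat (hm σ H) u 0 0 = 0 := by
  have := TensorUnitary.siegMat_mulVec hH.isUnitary u 0 0
  refine Matrix.ext_iff_mulVec.mpr fun x => ?_
  rw [this, zero_mulVec]
  simp [hH.sesq.zero_right]

/-- A Siegel element with the value of its inverse. -/
theorem exists_sieg' (hH : UForm σ H) {u v : Fin m → F} (hu : hm σ H u u = 0) (hv : hm σ H v u = 0) :
    ∃ (a : F) (g : GL (Fin m) F), g ∈ su (hm σ H) ∧ a + σ a = - hm σ H v v ∧
      (g : Matrix (Fin m) (Fin m) F) = 1 + (rMat (hm σ H) u v + a • cen σ H u) ∧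
      ((g⁻¹ : GL (Fin m) F) : Matrix (Fin m) (Fin m) F) = 1 + (-rMat (hm σ H) u v + σ a • cen σ H u) := by
  have hf := hH.isUnitary
  have hs := hH.sesq
  obtain ⟨a, ha⟩ := trace_surjective hf.ne_refl hf.involutive (a := - hm σ H v v)
    (by rw [map_neg, herm_self hf])
  obtain ⟨g, hg, hgv⟩ := TensorUnitary.exists_sieg hf hu hv ha
  refine ⟨a, g, hg, ha, by rw [hgv, siegMat, pMat_eq], ?_⟩
  refine Units.inv_eq_of_mul_eq_one_right ?_
  have hsm : -rMat (hm σ H) u v + σ a • cen σ H u = siegMat (hm σ H) u (-v) (σ a) := by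
    rw [siegMat, rMat_neg hH, pMat_eq]
  have hnv : hm σ H (-v) u = 0 := by rw [hs.neg_left, hv, neg_zero]
  rw [hsm, hgv, TensorUnitary.siegMat_mul hf hu hv hnv, add_neg_cancel, hs.neg_left, sub_neg_eq_add, ha,
    neg_add_cancel, siegMat_zero_eq hH, add_zero]

/-- An additive set invariant under a factor's unitary group is closed under compression at an isotropic
point, up to a non-zero constant. -/
theorem pap_mem (hH : UForm σ H) (hm3 : 3 ≤ m) {N : Type} [Fintype N] [DecidableEq N]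
    (φ : Matrix (Fin m) (Fin m) F →ₐ[F] Matrix N N F) {𝒜 : AddSubgroup (Matrix N N F)}
    (hinv : ∀ g ∈ su (hm σ H), ∀ A ∈ 𝒜,
      φ (g : Matrix (Fin m) (Fin m) F) * A * φ ((g⁻¹ : GL (Fin m) F) : Matrix (Fin m) (Fin m) F) ∈ 𝒜)
    {u : Fin m → F} (hu0 : u ≠ 0) (hu : hm σ H u u = 0) :
    ∃ c : F, c ≠ 0 ∧ ∀ A ∈ 𝒜, c • (φ (cen σ H u) * A * φ (cen σ H u)) ∈ 𝒜 := by
  have hf := hH.isUnitary
  have hs := hH.sesq
  obtain ⟨s, hs0, hss⟩ := exists_traceZero hf.ne_refl hf.involutive
  obtain ⟨w, hw, hwu, huw⟩ := TensorUnitary.exists_partner hf hu0 hu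
  obtain ⟨v, hvu, -, hvv⟩ := TensorUnitary.exists_noniso_orth hf (by rw [Fintype.card_fin]; exact hm3) hu hw hwu huw
  obtain ⟨d, hd⟩ := exists_moved hf.ne_refl
  have hv' : hm σ H (d • v) u = 0 := by rw [hs.smul_left, hvu, mul_zero]
  refine ⟨s * (hm σ H v (d • v) - hm σ H (d • v) v), mul_ne_zero hs0 ?_, fun A hA => ?_⟩
  · rw [hs.smul_right, hs.smul_left, ← sub_mul]
    exact mul_ne_zero (sub_ne_zero.mpr hd) hvv
  set t := tv (s • u) (axis σ H u) with ht
  have htv : (t : Matrix (Fin m) (Fin m) F) = 1 + s • cen σ H u := by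
    rw [ht, tv_coe (root_orth hH hu s), smul_vecMulVec, cen]
  have hti : ((t⁻¹ : GL (Fin m) F) : Matrix (Fin m) (Fin m) F) = 1 - s • cen σ H u := by
    refine Units.inv_eq_of_mul_eq_one_right ?_
    rw [htv, add_mul, mul_sub, mul_sub, one_mul, mul_one, one_mul, smul_mul_assoc, mul_smul_comm,
      cen_sq hu]
    simp
  obtain ⟨a, g, hg, -, hgv, hgi⟩ := exists_sieg' hH hu hvu
  obtain ⟨b, g', hg', -, hg'v, hg'i⟩ := exists_sieg' hH hu hv'
  have key := fun {x : GL (Fin m) F} (hx : x ∈ su (hm σ H)) {B : Matrix N N F} (hB : B ∈ 𝒜) =>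
    𝒜.sub_mem (hinv x hx B hB) hB
  have h3 := key hg' (key hg (key (tv_mem_isom hH hu hss) hA))
  rw [← ht] at h3
  simp only [htv, hti, hgv, hgi, hg'v, hg'i, map_add, map_sub, map_one, map_smul, map_neg] at h3
  rw [delta_eq A (φ (cen σ H u)) (φ (rMat (hm σ H) u v)) (φ (rMat (hm σ H) u (d • v)))
    (μ := hm σ H (d • v) v) (μ' := hm σ H v (d • v))
    (by rw [← map_mul, cen_sq hu, map_zero]) (by rw [← map_mul, cen_mul_rMat hH hu hvu, map_zero])
    (by rw [← map_mul, rMat_mul_cen hH hu hvu, map_zero]) (by rw [← map_mul, cen_mul_rMat hH hu hv', map_zero])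
    (by rw [← map_mul, rMat_mul_cen hH hu hv', map_zero])
    (by rw [← map_mul, rMat_mul_rMat hH hu hvu hv', map_neg, map_smul])
    (by rw [← map_mul, rMat_mul_rMat hH hu hv' hvu, map_neg, map_smul])] at h3
  exact h3

/-- A matrix whose compressions at isotropic points vanish is scalar. -/
theorem scalar_of_iso (hH : UForm σ H) (hm3 : 3 ≤ m) {B : Matrix (Fin m) (Fin m) F}
    (h : ∀ u, hm σ H u u = 0 → hm σ H (B *ᵥ u) u = 0) : ∃ k : F, B = k • 1 := by
  have hf := hH.isUnitary
  have hs := hH.sesq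
  have hn : 2 ≤ Fintype.card (Fin m) := by rw [Fintype.card_fin]; omega
  obtain ⟨u, -, hu0, hu⟩ := exists_iso_mem hf ⊤ (by rw [finrank_top, Module.finrank_fin_fun]; omega)
  obtain ⟨w, hw, hwu, huw⟩ := TensorUnitary.exists_partner hf hu0 hu
  obtain ⟨t, ht0, ht⟩ := exists_traceZero hf.ne_refl hf.involutive
  obtain ⟨d, hd⟩ := exists_moved hf.ne_refl
  set b : (Fin m → F) → (Fin m → F) → F := fun x y => hm σ H (B *ᵥ x) y - hm σ H (B *ᵥ u) w * hm σ H x y with hb
  have badd : ∀ x y z, b (x + y) z = b x z + b y z := fun x y z => by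
    simp only [hb, mulVec_add, hs.add_left]; ring
  have badd' : ∀ x y z, b x (y + z) = b x y + b x z := fun x y z => by
    simp only [hb, hs.add_right]; ring
  have bsmul : ∀ (k : F) x y, b (k • x) y = k * b x y := fun k x y => by
    simp only [hb, mulVec_smul, hs.smul_left]; ring
  have bsmul' : ∀ (k : F) x y, b x (k • y) = σ k * b x y := fun k x y => by
    simp only [hb, hs.smul_right]; ring
  have biso : ∀ x, hm σ H x x = 0 → b x x = 0 := fun x hx => by simp only [hb, h x hx, hx]; ring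
  have buw : b u w = 0 := by simp only [hb, huw]; ring
  have buu := biso u hu
  have bww := biso w hw
  have bwu : b w u = 0 := by
    have hi : hm σ H (u + t • w) (u + t • w) = 0 := by
      simp only [hs.add_left, hs.add_right, hs.smul_left, hs.smul_right, hu, hw, hwu, huw, ht]; ring
    have := biso _ hi
    simp only [badd, badd', bsmul, bsmul', buu, bww, buw, ht] at this
    exact (mul_eq_zero.mp (by linear_combination this : t * b w u = 0)).resolve_left ht0
  -- the orthogonal of the pair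
  have hK : ∀ v, hm σ H v u = 0 → hm σ H v w = 0 → b u v = 0 ∧ b v u = 0 ∧ b w v = 0 ∧ b v w = 0 ∧ b v v = 0 := by
    intro v hvu hvw
    have huv := unitary_orth_symm hf hvu
    have hwv := unitary_orth_symm hf hvw
    -- first with `u` shifted
    have main : ∀ x y, hm σ H x x = 0 → hm σ H y y = 0 → hm σ H y x = 1 → hm σ H x y = 1 →
        b x x = 0 → b y y = 0 → b x y = 0 → b y x = 0 →
        ∀ z, hm σ H z x = 0 → hm σ H z y = 0 → hm σ H x z = 0 → hm σ H y z = 0 →
          b y z + b z y + b z z = hm σ H z z * b z x ∧ b x z - b z x = 0 := by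
      intro x y hx hy hyx hxy bxx byy bxy byx z hzx hzy hxz hyz
      obtain ⟨a, ha⟩ := trace_surjective hf.ne_refl hf.involutive (a := - hm σ H z z)
        (by rw [map_neg, herm_self hf])
      have hval : ∀ a : F, a + σ a = - hm σ H z z → b y z + b z y + b z z + a * b x z + σ a * b z x = 0 := by
        intro a ha
        have hi : hm σ H (y + z + a • x) (y + z + a • x) = 0 := by
          simp only [hs.add_left, hs.add_right, hs.smul_left, hs.smul_right, hx, hy, hyx, hxy, hzx, hzy, hxz, hyz]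
          linear_combination ha
        have := biso _ hi
        simp only [badd, badd', bsmul, bsmul', bxx, byy, bxy, byx] at this
        linear_combination this
      have h1 := hval a ha
      have h2 := hval (a + t) (by rw [map_add, ht]; linear_combination ha)
      rw [map_add, ht] at h2
      have h3 : b x z - b z x = 0 :=
        (mul_eq_zero.mp (by linear_combination h2 - h1 : t * (b x z - b z x) = 0)).resolve_left ht0
      refine ⟨?_, h3⟩
      linear_combination h1 - a * h3 - (b z x) * ha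
    have mU : ∀ z, hm σ H z u = 0 → hm σ H z w = 0 → b u z = 0 ∧ b z u = 0 := by
      intro z hzu hzw
      have h1 := (main u w hu hw hwu huw buu bww buw bwu z hzu hzw (unitary_orth_symm hf hzu)
        (unitary_orth_symm hf hzw)).2
      have h2 := (main u w hu hw hwu huw buu bww buw bwu (d • z) (by rw [hs.smul_left, hzu, mul_zero])
        (by rw [hs.smul_left, hzw, mul_zero]) (by rw [hs.smul_right, unitary_orth_symm hf hzu, mul_zero])
        (by rw [hs.smul_right, unitary_orth_symm hf hzw, mul_zero])).2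
      rw [bsmul, bsmul'] at h2
      have h3 : b z u = 0 := (mul_eq_zero.mp (by linear_combination h2 - σ d * h1 : (σ d - d) * b z u = 0)
        ).resolve_left (sub_ne_zero.mpr hd)
      exact ⟨by linear_combination h1 + h3, h3⟩
    have mW : ∀ z, hm σ H z u = 0 → hm σ H z w = 0 → b w z = 0 ∧ b z w = 0 := by
      intro z hzu hzw
      have h1 := (main w u hw hu huw hwu bww buu bwu buw z hzw hzu (unitary_orth_symm hf hzw)
        (unitary_orth_symm hf hzu)).2
      have h2 := (main w u hw hu huw hwu bww buu bwu buw (d • z) (by rw [hs.smul_left, hzw, mul_zero])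
        (by rw [hs.smul_left, hzu, mul_zero]) (by rw [hs.smul_right, unitary_orth_symm hf hzw, mul_zero])
        (by rw [hs.smul_right, unitary_orth_symm hf hzu, mul_zero])).2
      rw [bsmul, bsmul'] at h2
      have h3 : b z w = 0 := (mul_eq_zero.mp (by linear_combination h2 - σ d * h1 : (σ d - d) * b z w = 0)
        ).resolve_left (sub_ne_zero.mpr hd)
      exact ⟨by linear_combination h1 + h3, h3⟩
    obtain ⟨h1, h2⟩ := mU v hvu hvw
    obtain ⟨h3, h4⟩ := mW v hvu hvw
    have h5 := (main u w hu hw hwu huw buu bww buw bwu v hvu hvw huv hwv).1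
    exact ⟨h1, h2, h3, h4, by rw [h2, h3, h4] at h5; linear_combination h5⟩
  refine ⟨hm σ H (B *ᵥ u) w, Matrix.ext_iff_mulVec.mpr fun x => ?_⟩
  rw [smul_mulVec, one_mulVec]
  -- `b` vanishes
  have hdec : ∀ x : Fin m → F, ∃ (p q : F) (v : Fin m → F), x = p • u + q • w + v ∧ hm σ H v u = 0 ∧
      hm σ H v w = 0 := fun x => ⟨hm σ H x w, hm σ H x u, x - hm σ H x w • u - hm σ H x u • w,
      by module, by simp [hs.sub_left, hs.smul_left, hu, hwu], by simp [hs.sub_left, hs.smul_left, hw, huw]⟩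
  have hb0 : ∀ x y, b x y = 0 := by
    intro x y
    obtain ⟨p, q, v, rfl, hvu, hvw⟩ := hdec x
    obtain ⟨p', q', v', rfl, hvu', hvw'⟩ := hdec y
    obtain ⟨a1, a2, a3, a4, a5⟩ := hK v hvu hvw
    obtain ⟨c1, c2, c3, c4, c5⟩ := hK v' hvu' hvw'
    have e1 := (hK (v + v') (by rw [hs.add_left, hvu, hvu', add_zero]) (by rw [hs.add_left, hvw, hvw', add_zero])
      ).2.2.2.2
    have e2 := (hK (d • v + v') (by rw [hs.add_left, hs.smul_left, hvu, hvu', mul_zero, add_zero])
      (by rw [hs.add_left, hs.smul_left, hvw, hvw', mul_zero, add_zero])).2.2.2.2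
    simp only [badd, badd', bsmul, bsmul', a5, c5] at e1 e2
    have e3 : b v v' = 0 := (mul_eq_zero.mp
      (by linear_combination e2 - σ d * e1 : (d - σ d) * b v v' = 0)).resolve_left (sub_ne_zero.mpr (Ne.symm hd))
    simp only [badd, badd', bsmul, bsmul', buu, bww, buw, bwu, c1, c3, a2, a4, e3]
    ring
  by_contra hne
  obtain ⟨y, hy⟩ := (hf.nondegenerate _ (sub_ne_zero.mpr hne)).2
  exact hy (by rw [hs.sub_left, hs.smul_left]; exact hb0 x y)

theorem cen_mul_mul_cen (B : Matrix (Fin m) (Fin m) F) (u : Fin m → F) :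
    cen σ H u * B * cen σ H u = hm σ H (B *ᵥ u) u • cen σ H u := by
  refine Matrix.ext_iff_mulVec.mpr fun x => ?_
  rw [← mulVec_mulVec, ← mulVec_mulVec, smul_mulVec]
  conv_lhs => rw [show cen σ H u *ᵥ x = hm σ H x u • u from cen_mulVec u x]
  rw [mulVec_smul, mulVec_smul, cen_mulVec u (B *ᵥ u), cen_mulVec u x, smul_smul, smul_smul, mul_comm]

/-- An invariant additive set with a non-scalar matrix contains a rank-one nilpotent. -/
theorem exists_cen_of_inv (hH : UForm σ H) (hm3 : 3 ≤ m) {𝒜 : AddSubgroup (Matrix (Fin m) (Fin m) F)}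
    (hinv : ∀ g ∈ su (hm σ H), ∀ A ∈ 𝒜,
      (g : Matrix (Fin m) (Fin m) F) * A * ((g⁻¹ : GL (Fin m) F) : Matrix (Fin m) (Fin m) F) ∈ 𝒜)
    {A : Matrix (Fin m) (Fin m) F} (hA : A ∈ 𝒜) (hns : ∀ k : F, A ≠ k • 1) :
    ∃ u, u ≠ 0 ∧ hm σ H u u = 0 ∧ ∃ c : F, c ≠ 0 ∧ c • cen σ H u ∈ 𝒜 := by
  obtain ⟨u, hu, hne⟩ : ∃ u, hm σ H u u = 0 ∧ hm σ H (A *ᵥ u) u ≠ 0 := by
    by_contra hcon
    push Not at hcon
    obtain ⟨k, hk⟩ := scalar_of_iso hH hm3 hcon
    exact hns k hk
  have hu0 : u ≠ 0 := fun h => hne (by rw [h, mulVec_zero, hH.sesq.zero_left])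
  obtain ⟨c, hc, hmem⟩ := pap_mem hH hm3 (AlgHom.id F _) (𝒜 := 𝒜) hinv hu0 hu
  refine ⟨u, hu0, hu, c * hm σ H (A *ᵥ u) u, mul_ne_zero hc hne, ?_⟩
  have := hmem A hA
  rwa [AlgHom.id_apply, cen_mul_mul_cen, smul_smul] at this

/-! ### The power -/

variable {ι : Type} [Fintype ι] [DecidableEq ι]

/-- The compression of a matrix of the power at `u` in the factor `k`. -/
def cmp (σ : F ≃+* F) (H : Matrix (Fin m) (Fin m) F) (k : ι) (u : Fin m → F)
    (A : Matrix (ι → Fin m) (ι → Fin m) F) : Matrix (Rest k m) (Rest k m) F :=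
  fun r s => hm σ H ((Matrix.of fun a b => A (extend k a r) (extend k b s)) *ᵥ u) u

theorem emb_cen_mul_mul (k : ι) (u : Fin m → F) (A : Matrix (ι → Fin m) (ι → Fin m) F) :
    emb k (cen σ H u) * A * emb k (cen σ H u) = kr k (cen σ H u) (cmp σ H k u A) := by
  have hA : A = (A.submatrix (TWSp.splitEquiv k).symm (TWSp.splitEquiv k).symm).submatrix (TWSp.splitEquiv k)
      (TWSp.splitEquiv k) := by
    ext a b; simp
  conv_lhs => rw [TWSp.emb_eq_kr, kr_eq_submatrix, hA]
  rw [submatrix_mul_equiv, submatrix_mul_equiv, kr_eq_submatrix]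
  congr 1
  ext ⟨a, r⟩ ⟨b, s⟩
  simp only [mul_apply, Fintype.sum_prod_type, kroneckerMap_apply, Matrix.one_apply, mul_ite, mul_one,
    mul_zero, ite_mul, zero_mul, Finset.sum_ite_eq, Finset.sum_ite_eq', Finset.mem_univ, if_true,
    submatrix_apply]
  simp only [cmp, cen, vecMulVec_apply, ← axis_dot, dotProduct, mulVec, Matrix.of_apply, TWSp.splitEquiv,
    Equiv.coe_fn_symm_mk, Finset.sum_mul, Finset.mul_sum]
  rw [Finset.sum_comm]
  refine Finset.sum_congr rfl fun x _ => Finset.sum_congr rfl fun y _ => ?_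
  ring

/-- A tensor of rank-one nilpotents on the factors in `T`. -/
def PP (σ : F ≃+* F) (H : Matrix (Fin m) (Fin m) F) (T : Finset ι) (xs : ι → Fin m → F) :
    Matrix (ι → Fin m) (ι → Fin m) F :=
  Pt fun k => if k ∈ T then cen σ H (xs k) else 1

/-- All vectors on `T` are isotropic and non-zero. -/
def IsoOn (σ : F ≃+* F) (H : Matrix (Fin m) (Fin m) F) (T : Finset ι) (xs : ι → Fin m → F) : Prop :=
  ∀ k ∈ T, xs k ≠ 0 ∧ hm σ H (xs k) (xs k) = 0

theorem PP_eq_kr (T : Finset ι) (xs : ι → Fin m → F) (k : ι) :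
    PP σ H T xs = kr k (if k ∈ T then cen σ H (xs k) else 1)
      (PP σ H (T.subtype (· ≠ k)) fun j : {j // j ≠ k} => xs j) := by
  rw [PP, TWSp.Pt_eq_kr _ k, PP]
  congr 2
  funext j
  simp [Finset.mem_subtype]

theorem PP_empty (xs : ι → Fin m → F) : PP σ H ∅ xs = 1 := by
  simp only [PP, Finset.notMem_empty, if_false]
  exact Pt_one

/-- An invariant additive set with a non-scalar matrix contains a tensor of rank-one nilpotents. -/
theorem exists_tensor_of_inv (hH : UForm σ H) (hm3 : 3 ≤ m) : ∀ (n : ℕ) (ι : Type) [Fintype ι] [DecidableEq ι],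
    Fintype.card ι = n → ∀ 𝒜 : AddSubgroup (Matrix (ι → Fin m) (ι → Fin m) F),
    (∀ (k : ι), ∀ g ∈ su (hm σ H), ∀ A ∈ 𝒜, emb k (g : Matrix (Fin m) (Fin m) F) * A *
      emb k ((g⁻¹ : GL (Fin m) F) : Matrix (Fin m) (Fin m) F) ∈ 𝒜) →
    ∀ A ∈ 𝒜, (∀ c : F, A ≠ c • 1) →
    ∃ (T : Finset ι) (xs : ι → Fin m → F) (c : F),
      T.Nonempty ∧ c ≠ 0 ∧ IsoOn σ H T xs ∧ c • PP σ H T xs ∈ 𝒜 := by
  intro n
  induction n using Nat.strong_induction_on with
  | _ n ih =>
  intro ι _ _ hn 𝒜 hinv A hA hns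
  classical
  obtain ⟨k⟩ : Nonempty ι := by
    by_contra hι
    rw [not_nonempty_iff] at hι
    let a₀ : ι → Fin m := isEmptyElim
    refine hns (A a₀ a₀) (Matrix.ext fun a b => ?_)
    rw [Subsingleton.elim a a₀, Subsingleton.elim b a₀]
    simp
  have hlt : Fintype.card {j // j ≠ k} < n := by
    rw [← hn, Fintype.card_subtype_compl, Fintype.card_subtype_eq]
    have := Fintype.card_pos_iff.mpr ⟨k⟩
    omega
  -- the slice sets
  have hconj : ∀ (j : {j // j ≠ k}) (g : GL (Fin m) F) (Q : Matrix (Fin m) (Fin m) F) (B : Matrix (Rest k m) (Rest k m) F),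
      emb (j : ι) (g : Matrix (Fin m) (Fin m) F) * kr k Q B *
        emb (j : ι) ((g⁻¹ : GL (Fin m) F) : Matrix (Fin m) (Fin m) F) =
      kr k Q (emb j (g : Matrix (Fin m) (Fin m) F) * B * emb j ((g⁻¹ : GL (Fin m) F) : Matrix (Fin m) (Fin m) F)) := by
    intro j g Q B
    rw [TWSp.emb_rest k j, TWSp.emb_rest k j, TWSp.kr_mul, TWSp.kr_mul, Matrix.one_mul, Matrix.mul_one]
  let slice : Matrix (Fin m) (Fin m) F → AddSubgroup (Matrix (Rest k m) (Rest k m) F) := fun Q =>
    { carrier := {B | kr k Q B ∈ 𝒜}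
      add_mem' := fun {B C} hB hC => by
        show kr k Q (B + C) ∈ 𝒜; rw [TWSp.kr_add_right]; exact 𝒜.add_mem hB hC
      zero_mem' := by show kr k Q 0 ∈ 𝒜; rw [TWSp.kr_zero_right]; exact 𝒜.zero_mem
      neg_mem' := fun {B} hB => by show kr k Q (-B) ∈ 𝒜; rw [TWSp.kr_neg_right]; exact 𝒜.neg_mem hB }
  have hslice : ∀ Q (j : {j // j ≠ k}), ∀ g ∈ su (hm σ H), ∀ B ∈ slice Q, emb j (g : Matrix (Fin m) (Fin m) F) * B *
      emb j ((g⁻¹ : GL (Fin m) F) : Matrix (Fin m) (Fin m) F) ∈ slice Q := fun Q j g hg B hB => by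
    show kr k Q _ ∈ 𝒜
    rw [← hconj]
    exact hinv j g hg _ hB
  by_cases hall : ∀ u, hm σ H u u = 0 → cmp σ H k u A = 0
  · -- the factor splits off
    set B : Rest k m → Rest k m → Matrix (Fin m) (Fin m) F :=
      fun r s => Matrix.of fun a b => A (extend k a r) (extend k b s) with hB
    choose l hl using fun r s => scalar_of_iso hH hm3 (B := B r s) fun u hu => congrFun (congrFun (hall u hu) r) s
    have hAeq : A = kr k 1 (Matrix.of l) := by
      ext a b
      have := congrFun (congrFun (hl (fun j => a j) (fun j => b j)) (a k)) (b k)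
      simp only [hB, Matrix.of_apply, TWSp.extend_eta, Matrix.smul_apply, smul_eq_mul] at this
      rw [this, mul_comm]; rfl
    have hns' : ∀ c : F, Matrix.of l ≠ c • 1 := fun c h => hns c (by
      rw [hAeq, h, TWSp.kr_smul_right, TWSp.kr_one])
    obtain ⟨T, xs, c, hT, hc, hiso, hmem⟩ := ih _ hlt {j // j ≠ k} rfl (slice 1) (hslice 1) _
      (show kr k 1 (Matrix.of l) ∈ 𝒜 from hAeq ▸ hA) hns'
    let ys : ι → Fin m → F := fun j => if h : j ≠ k then xs ⟨j, h⟩ else 0
    refine ⟨T.map (Function.Embedding.subtype _), ys, c, hT.map, hc, fun j hj => ?_, ?_⟩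
    · obtain ⟨j', hj', rfl⟩ := Finset.mem_map.mp hj
      simpa [ys, j'.2] using hiso j' hj'
    · have hk : k ∉ T.map (Function.Embedding.subtype _) := fun h => by
        obtain ⟨j', -, hj''⟩ := Finset.mem_map.mp h; exact j'.2 hj''
      have e1 : (T.map (Function.Embedding.subtype _)).subtype (· ≠ k) = T := by
        ext j; simp [j.2]
      have e2 : (fun j : {j // j ≠ k} => ys j) = xs := by
        funext j; simp [ys, j.2]
      rw [PP_eq_kr _ ys k, if_neg hk, e1, e2, ← TWSp.kr_smul_right]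
      exact hmem
  push Not at hall
  obtain ⟨u, hu, hne⟩ := hall
  have hu0 : u ≠ 0 := by
    rintro rfl
    exact hne (Matrix.ext fun r s => by simp [cmp, hH.sesq.zero_left])
  obtain ⟨c, hc, hmem⟩ := pap_mem hH hm3 (embAlg k) (𝒜 := 𝒜) (fun g hg B hB => hinv k g hg B hB) hu0 hu
  have hD : c • cmp σ H k u A ∈ slice (cen σ H u) := by
    show kr k _ _ ∈ 𝒜
    rw [TWSp.kr_smul_right, ← emb_cen_mul_mul]
    exact hmem A hA
  by_cases hsc : ∀ l : F, c • cmp σ H k u A ≠ l • 1
  · obtain ⟨T, xs, c', hT, hc', hiso, hmem'⟩ := ih _ hlt {j // j ≠ k} rfl (slice _) (hslice _) _ hD hsc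
    let ys : ι → Fin m → F := fun j => if h : j ≠ k then xs ⟨j, h⟩ else u
    refine ⟨insert k (T.map (Function.Embedding.subtype _)), ys, c', Finset.insert_nonempty _ _, hc', fun j hj => ?_, ?_⟩
    · rcases Finset.mem_insert.mp hj with rfl | hj
      · simp [ys, hu, hu0]
      · obtain ⟨j', hj', rfl⟩ := Finset.mem_map.mp hj
        simpa [ys, j'.2] using hiso j' hj'
    · have e1 : (insert k (T.map (Function.Embedding.subtype _))).subtype (· ≠ k) = T := by
        ext j; simp [j.2]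
      have e2 : (fun j : {j // j ≠ k} => ys j) = xs := by
        funext j; simp [ys, j.2]
      rw [PP_eq_kr _ ys k, if_pos (Finset.mem_insert_self _ _), show ys k = u by simp [ys], e1, e2,
        ← TWSp.kr_smul_right]
      exact hmem'
  push Not at hsc
  obtain ⟨l, hl⟩ := hsc
  have hl0 : l ≠ 0 := by
    rintro rfl
    rw [zero_smul] at hl
    exact hne ((smul_eq_zero.mp hl).resolve_left hc)
  refine ⟨{k}, fun _ => u, l, Finset.singleton_nonempty k, hl0, fun j _ => ⟨hu0, hu⟩, ?_⟩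
  have e1 : ({k} : Finset ι).subtype (· ≠ k) = ∅ := by ext j; simp [j.2]
  rw [PP_eq_kr _ _ k, if_pos (Finset.mem_singleton_self k), e1, PP_empty, ← TWSp.kr_smul_right]
  rw [hl] at hD
  exact hD

end CfsgLib.TWU
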