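import Cfsg.Agent.TensorWreathSp.Slices
import Cfsg.Agent.TensorUnitary.Herm

/-!
# Tensor powers of a unitary space

`G` is the Gram matrix of a hermitian form on `F^m`; the form on the tensor power has Gram matrix
`gram ι G`, and `kr i A L` is `A` in the factor `i` tensor `L` on the other factors.
-/

set_option autoImplicit false
set_option linter.unusedSectionVars false

namespace CfsgLib.TWU

open Matrix Cfsg.Geo CfsgLib.MaxSub CfsgLib.TWreath
open CfsgLib.TWSp (kr gram)
open CfsgLib.TensorUnitary (isom su pMat)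
open scoped Kronecker

variable {F : Type*} [Field F] {κ : Type} [Fintype κ] [DecidableEq κ]

/-- A non-degenerate hermitian Gram matrix. -/
structure UForm (σ : F ≃+* F) (G : Matrix κ κ F) : Prop where
  ne_refl : σ ≠ RingEquiv.refl F
  invol : ∀ a, σ (σ a) = a
  herm : ∀ a b, σ (G a b) = G b a
  det : IsUnit G.det

/-- The form of a Gram matrix. -/
def hm (σ : F ≃+* F) (G : Matrix κ κ F) (x y : κ → F) : F := x ⬝ᵥ G *ᵥ fun k => σ (y k)

/-- The axis of the transvections at `c`. -/
def axis (σ : F ≃+* F) (G : Matrix κ κ F) (c : κ → F) : κ → F := G *ᵥ fun k => σ (c k)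

/-- The rank-one nilpotent matrix of a root. -/
def cen (σ : F ≃+* F) (G : Matrix κ κ F) (c : κ → F) : Matrix κ κ F := vecMulVec c (axis σ G c)

variable {σ : F ≃+* F} {G : Matrix κ κ F}

theorem axis_dot (c x : κ → F) : axis σ G c ⬝ᵥ x = hm σ G x c := dotProduct_comm _ _

theorem cen_mulVec (c x : κ → F) : cen σ G c *ᵥ x = hm σ G x c • c := by
  rw [cen, vecMulVec_mulVec', axis_dot]

theorem UForm.isUnitary (hG : UForm σ G) : IsUnitaryForm σ (hm σ G) := by
  have herm : ∀ v w, hm σ G v w = σ (hm σ G w v) := by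
    intro v w
    simp only [hm, dotProduct, mulVec, map_sum, map_mul, hG.invol, hG.herm, Finset.mul_sum]
    rw [Finset.sum_comm]
    refine Finset.sum_congr rfl fun a _ => Finset.sum_congr rfl fun b _ => ?_
    ring
  have hinj : Function.Injective G.mulVec :=
    mulVec_injective_iff_isUnit.mpr ((Matrix.isUnit_iff_isUnit_det G).mpr hG.det)
  have hl : ∀ v, v ≠ 0 → ∃ w, hm σ G w v ≠ 0 := by
    intro v hv
    have hne : G *ᵥ (fun k => σ (v k)) ≠ 0 := fun h => hv (funext fun k => by
      have := congrFun (hinj (h.trans (mulVec_zero G).symm)) k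
      simpa using this)
    obtain ⟨w, hw⟩ := exists_dot_eq_one hne
    exact ⟨w, by rw [hm, hw]; exact one_ne_zero⟩
  refine ⟨hG.ne_refl, hG.invol, fun x y v => add_dotProduct _ _ _, fun c x v => smul_dotProduct _ _ _,
    herm, fun v hv => ?_⟩
  obtain ⟨w, hw⟩ := hl v hv
  exact ⟨⟨w, hw⟩, w, fun h => hw (by rw [herm, h, map_zero])⟩

theorem leftVec_eq (c : κ → F) : leftVec (hm σ G) c = axis σ G c := by
  funext j
  simp [leftVec, hm, axis, single_dotProduct]

theorem pMat_eq (c : κ → F) : pMat (hm σ G) c = cen σ G c := by rw [pMat, leftVec_eq, cen]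

theorem UForm.sesq (hG : UForm σ G) : SesqForm σ (hm σ G) := sesqForm_of_unitary hG.isUnitary

theorem UForm.axis_self (_hG : UForm σ G) {c : κ → F} (hc : hm σ G c c = 0) : axis σ G c ⬝ᵥ c = 0 := by
  rw [axis_dot, hc]

theorem UForm.axis_ne (hG : UForm σ G) {c : κ → F} (hc : c ≠ 0) : axis σ G c ≠ 0 := by
  rw [← leftVec_eq]; exact hG.sesq.leftVec_ne_zero hc

theorem UForm.cen_smul (hG : UForm σ G) (k : F) (c : κ → F) :
    cen σ G (k • c) = (k * σ k) • cen σ G c := by
  rw [cen, ← leftVec_eq, hG.sesq.leftVec_smul, leftVec_eq, smul_vecMulVec, vecMulVec_smul, smul_smul, cen]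

theorem cen_mul_cen (c d : κ → F) :
    cen σ G c * cen σ G d = hm σ G d c • vecMulVec c (axis σ G d) := by
  rw [cen, cen, vecMulVec_mul_vecMulVec, axis_dot, vecMulVec_smul]

theorem cen_sq {c : κ → F} (hc : hm σ G c c = 0) : cen σ G c * cen σ G c = 0 := by
  rw [cen_mul_cen, hc, zero_smul]

theorem UForm.cen_ne (hG : UForm σ G) {c : κ → F} (hc : c ≠ 0) : cen σ G c ≠ 0 := by
  intro h
  obtain ⟨x, hx⟩ := hG.sesq.exists_left_ne_zero hc
  have := congrArg (· *ᵥ x) h
  simp only [cen_mulVec, zero_mulVec] at this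
  exact hc ((smul_eq_zero.mp this).resolve_left hx)

theorem UForm.conj_cen (hG : UForm σ G) {g : GL κ F} (hg : g ∈ isom (hm σ G)) (u : κ → F) :
    (g : Matrix κ κ F) * cen σ G u * ((g⁻¹ : GL κ F) : Matrix κ κ F) = cen σ G ((g : Matrix κ κ F) *ᵥ u) := by
  rw [← pMat_eq, ← pMat_eq, TensorUnitary.conj_pMat hG.isUnitary hg]

theorem UForm.eq_of_forall (hG : UForm σ G) {u v : κ → F} (h : ∀ x, hm σ G x u = hm σ G x v) : u = v :=
  hG.sesq.ext_right h

theorem UForm.eq_zero_of_left (hG : UForm σ G) {u : κ → F} (h : ∀ x, hm σ G u x = 0) : u = 0 := by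
  by_contra hne
  obtain ⟨x, hx⟩ := (hG.isUnitary.nondegenerate u hne).2
  exact hx (h x)

/-! ### The tensor power -/

variable {ι : Type} [Fintype ι] [DecidableEq ι] {m : ℕ} {H : Matrix (Fin m) (Fin m) F}

theorem uForm_gram (hH : UForm σ H) : UForm σ (gram ι H) where
  ne_refl := hH.ne_refl
  invol := hH.invol
  herm a b := by
    show σ (∏ k, H (a k) (b k)) = ∏ k, H (b k) (a k)
    rw [map_prod]
    exact Finset.prod_congr rfl fun k _ => hH.herm _ _
  det := TWSp.gram_det_unit hH.det

theorem hm_pten (xs ys : ι → Fin m → F) :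
    hm σ (gram ι H) (pten xs) (pten ys) = ∏ k, hm σ H (xs k) (ys k) := by
  have h1 : (fun a => σ (pten ys a)) = pten fun k a => σ (ys k a) := funext fun a => by simp [pten]
  rw [hm, h1, TWSp.gram, Pt_mulVec_pten, pten_dot]
  rfl

theorem axis_pten (xs : ι → Fin m → F) :
    axis σ (gram ι H) (pten xs) = pten fun k => axis σ H (xs k) := by
  have h1 : (fun a => σ (pten xs a)) = pten fun k a => σ (xs k a) := funext fun a => by simp [pten]
  rw [axis, h1, TWSp.gram, Pt_mulVec_pten]
  rfl

theorem cen_pten (xs : ι → Fin m → F) :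
    cen σ (gram ι H) (pten xs) = Pt fun k => cen σ H (xs k) := by
  refine ext_pten fun ys => ?_
  rw [cen_mulVec, hm_pten, Pt_mulVec_pten, ← pten_smul]
  simp only [cen_mulVec]

theorem hm_lift (i : ι) (x y : Fin m → F) (v w : Rest i m → F) :
    hm σ (gram ι H) (lift i x v) (lift i y w) = hm σ H x y * hm σ (gram {j // j ≠ i} H) v w := by
  have h1 : (fun a => σ (lift i y w a)) = lift i (fun a => σ (y a)) (fun a => σ (w a)) :=
    funext fun a => by simp [lift_apply]
  rw [hm, h1, TWSp.gram_mulVec_lift, TWSp.lift_dot]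
  rfl

theorem emb_cen_lift (i : ι) (c x : Fin m → F) (w : Rest i m → F) :
    emb i (cen σ H c) *ᵥ lift i x w = lift i c (hm σ H x c • w) := by
  rw [emb_mulVec_lift, cen_mulVec, lift_smul_left, map_smul]

theorem block_eq_range_cen (hH : UForm σ H) (i : ι) {c : Fin m → F} (hc : c ≠ 0) :
    block i c = LinearMap.range (emb i (cen σ H c)).mulVecLin := block_eq_range (hH.axis_ne hc)

theorem embG_mem_isom (i : ι) {h : GL (Fin m) F} (hh : h ∈ isom (hm σ H)) (hH : UForm σ H) :
    embG i h ∈ isom (hm σ (gram ι H)) := by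
  have hs := (uForm_gram (ι := ι) hH).sesq
  intro x y
  have key : ∀ xs ys, hm σ (gram ι H) (emb i (h : Matrix (Fin m) (Fin m) F) *ᵥ pten xs)
      (emb i (h : Matrix (Fin m) (Fin m) F) *ᵥ pten ys) = hm σ (gram ι H) (pten xs) (pten ys) := fun xs ys => by
    rw [emb_mulVec_pten, emb_mulVec_pten, hm_pten, hm_pten]
    refine Finset.prod_congr rfl fun k _ => ?_
    rcases eq_or_ne k i with rfl | hk
    · rw [Function.update_self, Function.update_self]; exact hh _ _
    · rw [Function.update_of_ne hk, Function.update_of_ne hk]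
  rw [embG_val]
  rw [eq_sum_pten x, eq_sum_pten y]
  simp only [mulVec_sum, mulVec_smul]
  have hsumL : ∀ (s : Finset (ι → Fin m)) (f : (ι → Fin m) → (ι → Fin m) → F) (z : (ι → Fin m) → F),
      hm σ (gram ι H) (∑ a ∈ s, f a) z = ∑ a ∈ s, hm σ (gram ι H) (f a) z := fun s f z => by
    induction s using Finset.induction with
    | empty => simp [hs.zero_left]
    | insert a s ha ih => rw [Finset.sum_insert ha, Finset.sum_insert ha, hs.add_left, ih]
  have hsumR : ∀ (s : Finset (ι → Fin m)) (f : (ι → Fin m) → (ι → Fin m) → F) (z : (ι → Fin m) → F),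
      hm σ (gram ι H) z (∑ a ∈ s, f a) = ∑ a ∈ s, hm σ (gram ι H) z (f a) := fun s f z => by
    induction s using Finset.induction with
    | empty => simp [hs.zero_right]
    | insert a s ha ih => rw [Finset.sum_insert ha, Finset.sum_insert ha, hs.add_right, ih]
  simp only [hsumL, hsumR, hs.smul_left, hs.smul_right, key]

theorem kr_eq_submatrix (i : ι) (A : Matrix (Fin m) (Fin m) F) (L : Matrix (Rest i m) (Rest i m) F) :
    kr i A L = (A ⊗ₖ L).submatrix (TWSp.splitEquiv i) (TWSp.splitEquiv i) := rfl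

theorem det_emb (i : ι) (A : Matrix (Fin m) (Fin m) F) :
    (emb i A).det = A.det ^ Fintype.card (Rest i m) := by
  rw [TWSp.emb_eq_kr, kr_eq_submatrix, det_submatrix_equiv_self, det_kronecker, det_one, one_pow, mul_one]

theorem embG_mem_su [Finite F] (i : ι) {h : GL (Fin m) F} (hh : h ∈ su (hm σ H)) (hH : UForm σ H) :
    embG i h ∈ su (hm σ (gram ι H)) := by
  refine ⟨embG_mem_isom i hh.1 hH, ?_⟩
  have h1 : (h : Matrix (Fin m) (Fin m) F).det = 1 := by
    have := congrArg Units.val (show Matrix.GeneralLinearGroup.det h = 1 from hh.2)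
    rwa [Matrix.GeneralLinearGroup.val_det_apply] at this
  show embG i h ∈ specialLinear (ι → Fin m) F
  rw [specialLinear, MonoidHom.mem_ker, Units.ext_iff, Matrix.GeneralLinearGroup.val_det_apply, embG_val,
    det_emb, h1, one_pow, Units.val_one]

/-- The standing conditions on the field and the dimension of the factors. -/
def Par (σ : F ≃+* F) (m : ℕ) : Prop := 3 ≤ m ∧ (m = 3 → ∃ k : F, σ k = k ∧ k ≠ 0 ∧ k ≠ 1)

/-- A unitary root element in the factor `i`. -/
noncomputable def urt (σ : F ≃+* F) (H : Matrix (Fin m) (Fin m) F) (i : ι) (s : F) (c : Fin m → F) :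
    GL (ι → Fin m) F := root i (s • c) (axis σ H c)

theorem root_orth (hH : UForm σ H) {c : Fin m → F} (hc : hm σ H c c = 0) (s : F) :
    axis σ H c ⬝ᵥ (s • c) = 0 := by rw [dotProduct_smul, hH.axis_self hc, smul_zero]

theorem urt_val (hH : UForm σ H) (i : ι) {c : Fin m → F} (hc : hm σ H c c = 0) (s : F) :
    (urt σ H i s c : Matrix (ι → Fin m) (ι → Fin m) F) = 1 + s • emb i (cen σ H c) := by
  rw [urt, root_val (root_orth hH hc s), smul_vecMulVec, emb_smul]
  rfl

theorem urt_sub_one (hH : UForm σ H) (i : ι) {c : Fin m → F} (hc : hm σ H c c = 0) (s : F) :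
    (urt σ H i s c : Matrix (ι → Fin m) (ι → Fin m) F) - 1 = s • emb i (cen σ H c) := by
  rw [urt_val hH i hc, add_sub_cancel_left]

theorem urt_mul (hH : UForm σ H) (i : ι) {c : Fin m → F} (hc : hm σ H c c = 0) (s s' : F) :
    urt σ H i (s + s') c = urt σ H i s c * urt σ H i s' c := by
  rw [urt, urt, urt, root_add (root_orth hH hc s) (root_orth hH hc s'), add_smul]

theorem tv_mem_isom (hH : UForm σ H) {c : Fin m → F} (hc : hm σ H c c = 0) {s : F} (hs : σ s = -s) :
    tv (s • c) (axis σ H c) ∈ su (hm σ H) := by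
  rw [← leftVec_eq]; exact TensorUnitary.tv_mem_su hH.isUnitary hc hs

/-- `M` contains the special unitary group of every factor. -/
def HasFactors (σ : F ≃+* F) (H : Matrix (Fin m) (Fin m) F) (M : Subgroup (GL (ι → Fin m) F)) : Prop :=
  ∀ (i : ι), ∀ h ∈ su (hm σ H), embG i h ∈ M

theorem HasFactors.urt_mem (hH : UForm σ H) {M : Subgroup (GL (ι → Fin m) F)} (hM : HasFactors σ H M) (i : ι)
    {c : Fin m → F} (hc : hm σ H c c = 0) {s : F} (hs : σ s = -s) : urt σ H i s c ∈ M :=
  hM i _ (tv_mem_isom hH hc hs)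

end CfsgLib.TWU
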