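import Cfsg.Agent.TensorWreathUni.Engine
import Cfsg.Agent.TensorWreath.Elem

/-!
# Elementary tensor transvections in an overgroup

One element `1 + c • PP T xs` gives all of them on `T`; overlapping sets merge.
-/

set_option autoImplicit false
set_option linter.unusedSectionVars false
set_option linter.unusedSimpArgs false

namespace CfsgLib.TWU

open Matrix Cfsg.Geo CfsgLib.MaxSub CfsgLib.TWreath
open CfsgLib.TWSp (kr gram)
open CfsgLib.TensorUnitary (isom su)

variable {F : Type*} [Field F] [Finite F] {σ : F ≃+* F} {m : ℕ} {H : Matrix (Fin m) (Fin m) F}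
variable {ι : Type} [Fintype ι] [DecidableEq ι]

/-- The standing hypotheses on an overgroup of the factors. -/
structure Ctx (σ : F ≃+* F) (H : Matrix (Fin m) (Fin m) F) (M : Subgroup (GL (ι → Fin m) F)) : Prop where
  form : UForm σ H
  par : Par σ m
  iso : M ≤ isom (hm σ (gram ι H))
  factors : HasFactors σ H M

/-- `M` contains all elementary tensor transvections on `T`. -/
def El (σ : F ≃+* F) (H : Matrix (Fin m) (Fin m) F) (M : Subgroup (GL (ι → Fin m) F)) (T : Finset ι) : Prop :=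
  ∀ xs, IsoOn σ H T xs → ∀ s : F, σ s = -s →
    ∃ g ∈ M, (g : Matrix (ι → Fin m) (ι → Fin m) F) = 1 + s • PP σ H T xs

variable {M : Subgroup (GL (ι → Fin m) F)}

theorem PP_sq {T : Finset ι} (hT : T.Nonempty) {xs : ι → Fin m → F} (hxs : IsoOn σ H T xs) :
    PP σ H T xs * PP σ H T xs = 0 := by
  obtain ⟨k, hk⟩ := hT
  rw [PP, Pt_mul]
  exact Pt_eq_zero (k := k) (by simp [hk, cen_sq (hxs k hk).2])

theorem PP_mulVec (T : Finset ι) (xs ys : ι → Fin m → F) :
    PP σ H T xs *ᵥ pten ys = pten fun k => if k ∈ T then hm σ H (ys k) (xs k) • xs k else ys k := by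
  rw [PP, Pt_mulVec_pten]
  congr 1
  funext k
  split_ifs with h
  · rw [cen_mulVec]
  · rw [one_mulVec]

theorem PtG_mem_of_factors (hf : HasFactors σ H M) {gs : ι → GL (Fin m) F} (h : ∀ k, gs k ∈ su (hm σ H)) :
    PtG gs ∈ M := by
  suffices ∀ (S : Finset ι) (gs : ι → GL (Fin m) F), (∀ k, gs k ∈ su (hm σ H)) → (∀ k, k ∉ S → gs k = 1) →
      PtG gs ∈ M from this Finset.univ gs h fun k hk => absurd (Finset.mem_univ k) hk
  intro S
  induction S using Finset.induction with
  | empty =>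
    intro gs _ hgs
    rw [show gs = 1 from funext fun k => hgs k (Finset.notMem_empty k), map_one]
    exact M.one_mem
  | insert l S _ ih =>
    intro gs hsu hgs
    have e : gs = Function.update (1 : ι → GL (Fin m) F) l (gs l) * Function.update gs l 1 := by
      funext k
      rcases eq_or_ne k l with rfl | hk <;> simp [*]
    rw [e, map_mul, ← embG_eq_PtG]
    refine M.mul_mem (hf l _ (hsu l)) (ih _ (fun k => ?_) fun k hk => ?_)
    · rcases eq_or_ne k l with rfl | hk
      · rw [Function.update_self]; exact Subgroup.one_mem _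
      · rw [Function.update_of_ne hk]; exact hsu k
    · rcases eq_or_ne k l with rfl | hkl
      · simp
      · rw [Function.update_of_ne hkl]; exact hgs k (by simp [hkl, hk])

theorem exists_noniso_vec (hH : UForm σ H) (hm3 : 3 ≤ m) : ∃ e : Fin m → F, hm σ H e e ≠ 0 := by
  obtain ⟨u, -, hu0, hu⟩ := exists_iso_mem hH.isUnitary ⊤ (by rw [finrank_top, Module.finrank_fin_fun]; omega)
  obtain ⟨w, hw, hwu, huw⟩ := TensorUnitary.exists_partner hH.isUnitary hu0 hu
  obtain ⟨e, -, -, he⟩ :=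
    TensorUnitary.exists_noniso_orth hH.isUnitary (by rw [Fintype.card_fin]; exact hm3) hu hw hwu huw
  exact ⟨e, he⟩

/-- The coefficient of an elementary tensor transvection has trace zero. -/
theorem Ctx.skew_of_mem (hC : Ctx σ H M) {T : Finset ι} (hT : T.Nonempty) {xs : ι → Fin m → F}
    (hxs : IsoOn σ H T xs) {c : F} {g : GL (ι → Fin m) F} (hg : g ∈ M)
    (he : (g : Matrix (ι → Fin m) (ι → Fin m) F) = 1 + c • PP σ H T xs) : σ c = -c := by
  have hH := hC.form
  have hs := (uForm_gram (ι := ι) hH).sesq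
  obtain ⟨e, he0⟩ := exists_noniso_vec hH hC.par.1
  have hy : ∀ k, ∃ y, if k ∈ T then hm σ H y (xs k) = 1 ∧ hm σ H (xs k) y = 1 else y = e := fun k => by
    by_cases hk : k ∈ T
    · obtain ⟨w, -, h1, h2⟩ := TensorUnitary.exists_partner hH.isUnitary (hxs k hk).1 (hxs k hk).2
      exact ⟨w, by rw [if_pos hk]; exact ⟨h1, h2⟩⟩
    · exact ⟨e, by rw [if_neg hk]⟩
  choose ys hys using hy
  set Y := pten ys with hY
  set W := PP σ H T xs *ᵥ Y with hW
  have h := hC.iso hg Y Y
  rw [he, add_mulVec, one_mulVec, smul_mulVec, ← hW, hs.add_left, hs.add_right, hs.add_right, hs.smul_left,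
    hs.smul_left, hs.smul_right, hs.smul_right] at h
  have hWv : W = pten fun k => if k ∈ T then xs k else ys k := by
    rw [hW, hY, PP_mulVec]
    congr 1
    funext k
    by_cases hk : k ∈ T
    · have := hys k; rw [if_pos hk] at this
      simp [hk, this.1]
    · simp [hk]
  set ν := ∏ k, if k ∈ T then (1 : F) else hm σ H e e with hν
  have hν0 : ν ≠ 0 := Finset.prod_ne_zero_iff.mpr fun k _ => by
    split_ifs
    · exact one_ne_zero
    · exact he0
  have h1 : hm σ (gram ι H) Y W = ν := by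
    rw [hWv, hY, hm_pten]
    refine Finset.prod_congr rfl fun k _ => ?_
    by_cases hk : k ∈ T
    · have := hys k; rw [if_pos hk] at this; simp [hk, this.1]
    · have := hys k; rw [if_neg hk] at this; simp [hk, this]
  have h2 : hm σ (gram ι H) W Y = ν := by
    rw [hWv, hY, hm_pten]
    refine Finset.prod_congr rfl fun k _ => ?_
    by_cases hk : k ∈ T
    · have := hys k; rw [if_pos hk] at this; simp [hk, this.2]
    · have := hys k; rw [if_neg hk] at this; simp [hk, this]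
  have h3 : hm σ (gram ι H) W W = 0 := by
    obtain ⟨k, hk⟩ := hT
    rw [hWv, hm_pten]
    exact Finset.prod_eq_zero (Finset.mem_univ k) (by simp [hk, (hxs k hk).2])
  rw [h1, h2, h3] at h
  have : (c + σ c) * ν = 0 := by linear_combination h
  linear_combination (mul_eq_zero.mp this).resolve_right hν0

/-- One elementary tensor transvection gives all on the same factors. -/
theorem Ctx.el_of_one (hC : Ctx σ H M) {T : Finset ι} (hT : T.Nonempty) {xs : ι → Fin m → F}
    (hxs : IsoOn σ H T xs) {c : F} (hc0 : c ≠ 0) {g : GL (ι → Fin m) F} (hg : g ∈ M)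
    (he : (g : Matrix (ι → Fin m) (ι → Fin m) F) = 1 + c • PP σ H T xs) : El σ H M T := by
  have hH := hC.form
  have hf := hH.isUnitary
  have hc := hC.skew_of_mem hT hxs hg he
  intro ys hys s hs
  rcases eq_or_ne s 0 with rfl | hs0
  · exact ⟨1, M.one_mem, by simp⟩
  have hmv : ∀ k, ∃ (g : GL (Fin m) F) (l : F), g ∈ su (hm σ H) ∧ l ≠ 0 ∧
      (k ∈ T → (g : Matrix (Fin m) (Fin m) F) *ᵥ xs k = l • ys k) ∧ (k ∉ T → g = 1) := fun k => by
    by_cases hk : k ∈ T
    · obtain ⟨g, hg, l, hl, h⟩ := TensorUnitary.exists_move_line hf (hxs k hk).1 (hxs k hk).2 (hys k hk).1 (hys k hk).2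
      exact ⟨g, l, hg, hl, fun _ => h, fun h => absurd hk h⟩
    · exact ⟨1, 1, Subgroup.one_mem _, one_ne_zero, fun h => absurd h hk, fun _ => rfl⟩
  choose g₁ l hg₁ hl hgx hgo using hmv
  set Q := ∏ k, (if k ∈ T then l k * σ (l k) else 1) with hQ
  have hQ0 : Q ≠ 0 := Finset.prod_ne_zero_iff.mpr fun k _ => by
    split_ifs
    · exact mul_ne_zero (hl k) ((map_ne_zero_iff σ σ.injective).mpr (hl k))
    · exact one_ne_zero
  have hQσ : σ Q = Q := by
    rw [hQ, map_prod]
    refine Finset.prod_congr rfl fun k _ => ?_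
    split_ifs
    · rw [map_mul, hH.invol, mul_comm]
    · exact map_one σ
  obtain ⟨z, hz⟩ := norm_surjective hH.ne_refl hH.invol (a := s / (c * Q))
    (by rw [map_div₀, map_mul, hQσ, hc, hs, neg_mul, neg_div_neg_eq])
  have hz0 : z ≠ 0 := by
    rintro rfl
    rw [zero_mul, eq_comm, div_eq_zero_iff] at hz
    rcases hz with h | h
    · exact hs0 h
    · exact mul_ne_zero hc0 hQ0 h
  obtain ⟨k₀, hk₀⟩ := hT
  obtain ⟨r, hr, hrx⟩ := TensorUnitary.exists_scale hf (by rw [Fintype.card_fin]; exact hC.par.1)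
    (hys k₀ hk₀).1 (hys k₀ hk₀).2 hz0
  set gs : ι → GL (Fin m) F := fun k => (if k = k₀ then r else 1) * g₁ k with hgs
  have hgsu : ∀ k, gs k ∈ su (hm σ H) := fun k => by
    refine Subgroup.mul_mem _ ?_ (hg₁ k)
    split_ifs
    · exact hr
    · exact Subgroup.one_mem _
  set h := PtG gs with hh
  have hhM : h ∈ M := PtG_mem_of_factors hC.factors hgsu
  refine ⟨h * g * h⁻¹, M.mul_mem (M.mul_mem hhM hg) (M.inv_mem hhM), ?_⟩
  rw [Units.val_mul, Units.val_mul, he, mul_add, add_mul, mul_one, Units.mul_inv, mul_smul_comm, smul_mul_assoc]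
  congr 1
  have hval : ∀ k, (gs k : Matrix (Fin m) (Fin m) F) * (if k ∈ T then cen σ H (xs k) else 1) *
      (((gs k)⁻¹ : GL (Fin m) F) : Matrix (Fin m) (Fin m) F) =
      ((if k = k₀ then z * σ z else 1) * (if k ∈ T then l k * σ (l k) else 1)) •
        (if k ∈ T then cen σ H (ys k) else 1) := fun k => by
    by_cases hk : k ∈ T
    · rw [if_pos hk, if_pos hk, if_pos hk, hH.conj_cen (hgsu k).1]
      rcases eq_or_ne k k₀ with rfl | hkk
      · simp only [hgs, if_true]
        rw [Units.val_mul, ← mulVec_mulVec, hgx k hk, mulVec_smul, hrx,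
          hH.cen_smul, hH.cen_smul, smul_smul, mul_comm]
      · simp only [hgs, if_neg hkk]
        rw [one_mul, hgx k hk, hH.cen_smul, one_mul]
    · have hkk : k ≠ k₀ := fun e => hk (e ▸ hk₀)
      rw [if_neg hk, if_neg hk, if_neg hk, if_neg hkk, one_mul, one_smul, mul_one, ← Units.val_mul,
        mul_inv_cancel, Units.val_one]
  rw [hh, ← map_inv, PtG_val, PtG_val, PP, Pt_mul, Pt_mul]
  rw [show ((fun k => (gs k : Matrix (Fin m) (Fin m) F)) * (fun k => if k ∈ T then cen σ H (xs k) else 1) *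
      fun k => ((gs⁻¹ k : GL (Fin m) F) : Matrix (Fin m) (Fin m) F)) = fun k =>
      ((if k = k₀ then z * σ z else 1) * (if k ∈ T then l k * σ (l k) else 1)) •
        (if k ∈ T then cen σ H (ys k) else 1) from funext fun k => by
    rw [Pi.mul_apply, Pi.mul_apply, Pi.inv_apply]; exact hval k, Pt_smul, smul_smul, Finset.prod_mul_distrib,
    Finset.prod_ite_eq' Finset.univ k₀, if_pos (Finset.mem_univ k₀), ← hQ, hz]
  congr 1
  field_simp

/-- A quadratic element times another, as a commutator. -/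
theorem comm_quad {G : GL (ι → Fin m) F} {K : GL (ι → Fin m) F} {X Y : Matrix (ι → Fin m) (ι → Fin m) F} {t : F}
    (hG : (G : Matrix (ι → Fin m) (ι → Fin m) F) = 1 + t • X) (hK : (K : Matrix (ι → Fin m) (ι → Fin m) F) = 1 + t • Y)
    (hXX : X * X = 0) (hYY : Y * Y = 0) (hXYX : X * Y * X = 0) (hYXY : Y * X * Y = 0) :
    ((G * K * G⁻¹ * K⁻¹ : GL (ι → Fin m) F) : Matrix (ι → Fin m) (ι → Fin m) F) =
      1 + (t * t) • (X * Y - Y * X) := by
  have hinv : ∀ {U : GL (ι → Fin m) F} {Z : Matrix (ι → Fin m) (ι → Fin m) F},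
      (U : Matrix (ι → Fin m) (ι → Fin m) F) = 1 + t • Z → Z * Z = 0 →
      ((U⁻¹ : GL (ι → Fin m) F) : Matrix (ι → Fin m) (ι → Fin m) F) = 1 - t • Z := fun {U Z} hU hZ => by
    refine Units.inv_eq_of_mul_eq_one_right ?_
    rw [hU, mul_sub, mul_one, add_mul, one_mul, smul_mul_smul_comm, hZ]
    simp
  have hXYX' : X * (Y * X) = 0 := by rw [← Matrix.mul_assoc, hXYX]
  have hYXY' : Y * (X * Y) = 0 := by rw [← Matrix.mul_assoc, hYXY]
  have hXXz : ∀ Z, X * (X * Z) = 0 := fun Z => by rw [← Matrix.mul_assoc, hXX, Matrix.zero_mul]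
  have hYYz : ∀ Z, Y * (Y * Z) = 0 := fun Z => by rw [← Matrix.mul_assoc, hYY, Matrix.zero_mul]
  rw [Units.val_mul, Units.val_mul, Units.val_mul, hinv hG hXX, hinv hK hYY, hG, hK]
  simp only [add_mul, mul_add, sub_mul, mul_sub, one_mul, mul_one, smul_mul_assoc, mul_smul_comm,
    Matrix.mul_assoc, hXX, hYY, hXXz, hYYz, hXYX', hYXY', Matrix.mul_zero, smul_zero, smul_smul, add_zero,
    zero_add, sub_zero]
  module

/-- Overlapping sets merge. -/
theorem El.union (hC : Ctx σ H M) {T T' : Finset ι} (hT : El σ H M T) (hT' : El σ H M T') {j : ι} (hj : j ∈ T)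
    (hj' : j ∈ T') : El σ H M (T ∪ T') := by
  classical
  by_cases hsub : T' ⊆ T
  · rwa [Finset.union_eq_left.mpr hsub]
  by_cases hsub' : T ⊆ T'
  · rwa [Finset.union_eq_right.mpr hsub']
  obtain ⟨a, haT, haT'⟩ := Finset.not_subset.mp hsub'
  obtain ⟨b, hbT', hbT⟩ := Finset.not_subset.mp hsub
  have hH := hC.form
  have hf := hH.isUnitary
  have hs := hH.sesq
  have hm3 := hC.par.1
  obtain ⟨u, -, hu0, hu⟩ := exists_iso_mem hf ⊤ (by rw [finrank_top, Module.finrank_fin_fun]; omega)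
  obtain ⟨w, hw, hwu, huw⟩ := TensorUnitary.exists_partner hf hu0 hu
  have hw0 : w ≠ 0 := fun h => by rw [h, hs.zero_left] at hwu; exact zero_ne_one hwu
  obtain ⟨e, heu, hew, hee⟩ :=
    TensorUnitary.exists_noniso_orth hf (by rw [Fintype.card_fin]; exact hm3) hu hw hwu huw
  obtain ⟨t, ht0, ht⟩ := exists_traceZero hH.ne_refl hH.invol
  obtain ⟨G, hGM, hG⟩ := hT (fun _ => u) (fun k _ => ⟨hu0, hu⟩) t ht
  obtain ⟨K, hKM, hK⟩ := hT' (fun _ => w) (fun k _ => ⟨hw0, hw⟩) t ht
  set X := PP σ H T fun _ => u with hX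
  set Y := PP σ H T' fun _ => w with hY
  -- the components of the commutator
  set fs : ι → Matrix (Fin m) (Fin m) F :=
    (fun k => if k ∈ T then cen σ H u else 1) * fun k => if k ∈ T' then cen σ H w else 1 with hfs
  set gs : ι → Matrix (Fin m) (Fin m) F :=
    (fun k => if k ∈ T' then cen σ H w else 1) * fun k => if k ∈ T then cen σ H u else 1 with hgs
  have hXY : X * Y = Pt fs := by rw [hX, hY, PP, PP, Pt_mul]
  have hYX : Y * X = Pt gs := by rw [hX, hY, PP, PP, Pt_mul]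
  have hXX : X * X = 0 := PP_sq ⟨a, haT⟩ fun k _ => ⟨hu0, hu⟩
  have hYY : Y * Y = 0 := PP_sq ⟨b, hbT'⟩ fun k _ => ⟨hw0, hw⟩
  have hXYX : X * Y * X = 0 := by
    rw [hXY, hX, PP, Pt_mul]
    exact Pt_eq_zero (k := a) (by simp [hfs, haT, haT', cen_sq hu])
  have hYXY : Y * X * Y = 0 := by
    rw [hYX, hY, PP, Pt_mul]
    exact Pt_eq_zero (k := b) (by simp [hgs, hbT', hbT, cen_sq hw])
  set P₀ := emb a (cen σ H u) with hP₀
  have hP₀sq : P₀ * P₀ = 0 := by rw [hP₀, ← emb_mul, cen_sq hu, emb_zero]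
  have hP₀d : ∀ B B' C C' : Matrix (ι → Fin m) (ι → Fin m) F,
      B = P₀ * C → C * P₀ = P₀ * C → B' = P₀ * C' → B * B' = 0 := by
    intro B B' C C' hB hC hB'
    rw [hB, hB', Matrix.mul_assoc, ← Matrix.mul_assoc C, hC, Matrix.mul_assoc, ← Matrix.mul_assoc P₀ P₀,
      hP₀sq, Matrix.zero_mul]
  let 𝒜 : AddSubgroup (Matrix (ι → Fin m) (ι → Fin m) F) :=
    { carrier := {B | (∃ g ∈ M, (g : Matrix (ι → Fin m) (ι → Fin m) F) = 1 + B) ∧
        ∃ C, B = P₀ * C ∧ C * P₀ = P₀ * C}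
      add_mem' := by
        rintro B B' ⟨⟨g, hg, hgB⟩, C, hB, hC⟩ ⟨⟨g', hg', hgB'⟩, C', hB', hC'⟩
        refine ⟨⟨g * g', M.mul_mem hg hg', ?_⟩, C + C', by rw [hB, hB', Matrix.mul_add],
          by rw [Matrix.add_mul, hC, hC', Matrix.mul_add]⟩
        rw [Units.val_mul, hgB, hgB', mul_add, mul_one, add_mul, one_mul, hP₀d B B' C C' hB hC hB', add_zero,
          add_assoc]
      zero_mem' := ⟨⟨1, M.one_mem, by rw [add_zero, Units.val_one]⟩, 0, by simp, by simp⟩
      neg_mem' := by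
        rintro B ⟨⟨g, hg, hgB⟩, C, hB, hC⟩
        refine ⟨⟨g⁻¹, M.inv_mem hg, Units.inv_eq_of_mul_eq_one_right ?_⟩, -C,
          by rw [hB, Matrix.mul_neg], by rw [Matrix.neg_mul, hC, Matrix.mul_neg]⟩
        rw [hgB, mul_add, mul_one, Matrix.mul_neg, add_mul, one_mul, hP₀d B B C C hB hC hB]
        simp }
  have hinv : ∀ k, k ≠ a → ∀ g ∈ su (hm σ H), ∀ B ∈ 𝒜, embAlg k (g : Matrix (Fin m) (Fin m) F) * B *
      embAlg k ((g⁻¹ : GL (Fin m) F) : Matrix (Fin m) (Fin m) F) ∈ 𝒜 := by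
    rintro k hk g hg B ⟨⟨x, hx, hxB⟩, C, hB, hC'⟩
    simp only [embAlg_apply]
    refine ⟨⟨embG k g * x * (embG k g)⁻¹, M.mul_mem (M.mul_mem (hC.factors k g hg) hx) (M.inv_mem (hC.factors k g hg)), ?_⟩,
      emb k (g : Matrix (Fin m) (Fin m) F) * C * emb k ((g⁻¹ : GL (Fin m) F) : Matrix (Fin m) (Fin m) F), ?_, ?_⟩
    · rw [← map_inv, Units.val_mul, Units.val_mul, hxB, mul_add, add_mul, mul_one, embG_val, embG_val,
        ← emb_mul, Units.mul_inv, emb_one]
    · rw [hB, ← Matrix.mul_assoc, hP₀, emb_comm hk]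
      simp only [Matrix.mul_assoc]
    · rw [hP₀, Matrix.mul_assoc, emb_comm hk, ← Matrix.mul_assoc, Matrix.mul_assoc _ C, ← hP₀, hC', hP₀,
        ← Matrix.mul_assoc, emb_comm hk]
      simp only [Matrix.mul_assoc]
  have hC0 : ∀ hs' : ι → Matrix (Fin m) (Fin m) F, hs' a = cen σ H u →
      ∃ C, Pt hs' = P₀ * C ∧ C * P₀ = P₀ * C := fun hs' ha =>
    ⟨Pt (Function.update hs' a 1), by rw [hP₀, ← ha]; exact Pt_eq_emb_mul hs' a,
      by rw [hP₀]; exact Pt_mul_emb _ _ (by simp)⟩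
  have hB0 : (t * t) • (X * Y - Y * X) ∈ 𝒜 := by
    refine ⟨⟨_, M.mul_mem (M.mul_mem (M.mul_mem hGM hKM) (M.inv_mem hGM)) (M.inv_mem hKM),
      comm_quad hG hK hXX hYY hXYX hYXY⟩, ?_⟩
    obtain ⟨C, h1, h2⟩ := hC0 fs (by simp [hfs, haT, haT'])
    obtain ⟨C', h1', h2'⟩ := hC0 gs (by simp [hgs, haT, haT'])
    refine ⟨(t * t) • (C - C'), ?_, ?_⟩
    · rw [hXY, hYX, h1, h1', ← Matrix.mul_sub, mul_smul_comm]
    · rw [smul_mul_assoc, mul_smul_comm, sub_mul, Matrix.mul_sub, h2, h2']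
  -- compression at the common factors
  set J := T ∩ T' with hJ
  have hjJ : j ∈ J := Finset.mem_inter.mpr ⟨hj, hj'⟩
  set n := (J.erase j).card with hn
  obtain ⟨d, hd⟩ := exists_moved hH.ne_refl
  have hd0 : d ≠ 0 := fun h => hd (by rw [h, map_zero])
  have hz : ∀ k, ∃ (α : F) (z : Fin m → F), α ≠ 0 ∧ (if k = j then α = d / t ^ n else α = t) ∧ hm σ H z z = 0 ∧
      z ≠ 0 ∧ hm σ H z w = α ∧ hm σ H u z = 1 ∧ hm σ H z u = 1 ∧ hm σ H w z = σ α := by
    intro k
    obtain ⟨α, hα0, hα⟩ : ∃ α : F, α ≠ 0 ∧ if k = j then α = d / t ^ n else α = t := by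
      split_ifs
      · exact ⟨_, div_ne_zero hd0 (pow_ne_zero _ ht0), rfl⟩
      · exact ⟨_, ht0, rfl⟩
    obtain ⟨β, hβ⟩ := norm_surjective hH.ne_refl hH.invol (a := -(α + σ α) / hm σ H e e)
      (by rw [map_div₀, map_neg, map_add, hH.invol, herm_self hf, add_comm])
    have hue := unitary_orth_symm hf heu
    have hwe := unitary_orth_symm hf hew
    have hzu : hm σ H (α • u + w + β • e) u = 1 := by
      simp [hs.add_left, hs.smul_left, hu, hwu, heu]
    refine ⟨α, α • u + w + β • e, hα0, hα, ?_, fun h => ?_, ?_, ?_, hzu, ?_⟩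
    · simp only [hs.add_left, hs.add_right, hs.smul_left, hs.smul_right, hu, hw, hwu, huw, heu, hew, hue, hwe]
      have := congrArg (· * hm σ H e e) hβ
      simp only [div_mul_cancel₀ _ hee] at this
      linear_combination this
    · rw [h, hs.zero_left] at hzu; exact zero_ne_one hzu
    · simp [hs.add_left, hs.smul_left, hw, huw, hew]
    · simp [hs.add_right, hs.smul_right, hu, huw, hue]
    · simp [hs.add_right, hs.smul_right, hw, hwu, hwe]
  choose α z hα0 hα hzz hz0 hzw huz hzu hwz using hz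
  have key : ∀ S : Finset ι, S ⊆ J → ∃ c : F, c ≠ 0 ∧ c • ((∏ k ∈ S, α k) •
      Pt (fun k => if k ∈ S then cen σ H (z k) else fs k) -
      (∏ k ∈ S, σ (α k)) • Pt (fun k => if k ∈ S then cen σ H (z k) else gs k)) ∈ 𝒜 := by
    intro S
    induction S using Finset.induction with
    | empty => exact fun _ => ⟨t * t, mul_ne_zero ht0 ht0, by simpa [← hXY, ← hYX] using hB0⟩
    | insert l S hlS ih =>
      intro hSJ
      obtain ⟨c, hc, hmem⟩ := ih ((Finset.subset_insert _ _).trans hSJ)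
      obtain ⟨hlT, hlT'⟩ := Finset.mem_inter.mp (hSJ (Finset.mem_insert_self l S))
      have hla : l ≠ a := fun h => haT' (h ▸ hlT')
      obtain ⟨c', hc', hP⟩ := pap_mem hH hm3 (embAlg l) (𝒜 := 𝒜) (hinv l hla) (hz0 l) (hzz l)
      refine ⟨c' * c, mul_ne_zero hc' hc, ?_⟩
      have := hP _ hmem
      rw [embAlg_apply, mul_smul_comm, smul_mul_assoc, smul_smul, mul_sub, sub_mul, mul_smul_comm, smul_mul_assoc,
        mul_smul_comm, smul_mul_assoc] at this
      have hP' : ∀ (qs : ι → Matrix (Fin m) (Fin m) F) (r : F),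
          cen σ H (z l) * qs l * cen σ H (z l) = r • cen σ H (z l) →
          emb l (cen σ H (z l)) * Pt (fun k => if k ∈ S then cen σ H (z k) else qs k) * emb l (cen σ H (z l)) =
            r • Pt (fun k => if k ∈ insert l S then cen σ H (z k) else qs k) := by
        intro qs r hr
        rw [emb, Pt_mul, Pt_mul]
        conv_rhs => rw [← Function.update_eq_self l (fun k => if k ∈ insert l S then cen σ H (z k) else qs k)]
        rw [← Pt_update_smul]
        congr 1
        funext k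
        rcases eq_or_ne k l with rfl | hk
        · simp [hlS, hr]
        · simp [hk]
      rw [hP' fs (α l) (by rw [cen_mul_mul_cen]; congr 1; simp [hfs, hlT, hlT', cen_mulVec, mulVec_smul, ← mulVec_mulVec, hs.smul_left, hzw, huz, huw, hwu]),
        hP' gs (σ (α l)) (by rw [cen_mul_mul_cen]; congr 1; simp [hgs, hlT, hlT', cen_mulVec, mulVec_smul, ← mulVec_mulVec, hs.smul_left, hzu, hwz, huw, hwu])] at this
      convert this using 1
      rw [Finset.prod_insert hlS, Finset.prod_insert hlS, smul_smul, smul_smul, mul_comm (α l), mul_comm (σ (α l))]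
  obtain ⟨c, hc, ⟨g, hg, hgv⟩, -⟩ := key J subset_rfl
  let zs : ι → Fin m → F := fun k => if k ∈ J then z k else if k ∈ T then u else w
  have hpp : ∀ qs : ι → Matrix (Fin m) (Fin m) F,
      (∀ k, k ∈ T → k ∉ T' → qs k = cen σ H u) → (∀ k, k ∉ T → k ∈ T' → qs k = cen σ H w) →
      (∀ k, k ∉ T → k ∉ T' → qs k = 1) →
      Pt (fun k => if k ∈ J then cen σ H (z k) else qs k) = PP σ H (T ∪ T') zs := by
    intro qs h1 h2 h3
    rw [PP]
    congr 1
    funext k
    by_cases hk : k ∈ T <;> by_cases hk' : k ∈ T' <;> simp [zs, hJ, hk, hk', h1 k, h2 k, h3 k]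
  rw [hpp fs (fun k h h' => by simp [hfs, h, h']) (fun k h h' => by simp [hfs, h, h']) (fun k h h' => by simp [hfs, h, h']),
    hpp gs (fun k h h' => by simp [hgs, h, h']) (fun k h h' => by simp [hgs, h, h']) (fun k h h' => by simp [hgs, h, h']),
    ← sub_smul, smul_smul] at hgv
  have hprod : ∏ k ∈ J, α k = d := by
    rw [← Finset.mul_prod_erase _ _ hjJ, Finset.prod_congr rfl (fun k hk => show α k = t by
      have := hα k; rwa [if_neg (Finset.ne_of_mem_erase hk)] at this), Finset.prod_const, ← hn]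
    have := hα j
    rw [if_pos rfl] at this
    rw [this, div_mul_cancel₀ _ (pow_ne_zero _ ht0)]
  refine hC.el_of_one ⟨j, Finset.mem_union_left _ hj⟩ (xs := zs) (fun k hk => ?_) ?_ hg hgv
  · simp only [zs]
    split_ifs
    · exact ⟨hz0 k, hzz k⟩
    · exact ⟨hu0, hu⟩
    · exact ⟨hw0, hw⟩
  · rw [← map_prod, hprod]
    exact mul_ne_zero hc (sub_ne_zero.mpr (Ne.symm hd))

/-- Transport by a factor permutation. -/
theorem El.map_perm {π : Equiv.Perm ι}
    (hπ : ∀ x ∈ M, pmG π * x * (pmG π)⁻¹ ∈ M) {T : Finset ι} (hT : El σ H M T) :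
    El σ H M (T.map π.toEmbedding) := by
  intro xs hxs s hs
  obtain ⟨g, hg, hgv⟩ := hT (fun k => xs (π k)) (fun k hk => hxs _ (Finset.mem_map_of_mem _ hk)) s hs
  refine ⟨pmG π * g * (pmG π)⁻¹, hπ g hg, ?_⟩
  rw [Units.val_mul, Units.val_mul, hgv, mul_add, add_mul, mul_one, Units.mul_inv, mul_smul_comm, smul_mul_assoc,
    pmG_val, PP, pm_mul_Pt, Matrix.mul_assoc, ← pmG_val, Units.mul_inv, Matrix.mul_one, PP]
  congr 3
  funext k
  simp [Finset.mem_map_equiv]

end CfsgLib.TWU
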