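import Cfsg.Agent.TensorWreathUni.Blocks
import Cfsg.Agent.TensorWreath.Classify

/-!
# Elements stabilising a block at an isotropic point

Without elementary tensors on two factors, such elements of an overgroup of the factors lie in the wreath
group, by induction on the number of factors.
-/

set_option autoImplicit false
set_option linter.unusedSectionVars false
set_option linter.unusedSimpArgs false

namespace CfsgLib.TWU

open Matrix Cfsg.Geo CfsgLib.MaxSub CfsgLib.TWreath
open CfsgLib.TWSp (kr gram proj)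
open CfsgLib.TensorUnitary (isom su rMat)

variable {F : Type*} [Field F] [Finite F] {σ : F ≃+* F} {m : ℕ} {H : Matrix (Fin m) (Fin m) F}
variable {ι : Type} [Fintype ι] [DecidableEq ι] {M : Subgroup (GL (ι → Fin m) F)}

theorem emb_vm_mulVec (i : ι) (p φ : Fin m → F) (x : (ι → Fin m) → F) :
    emb i (vecMulVec p φ) *ᵥ x = lift i p (proj i φ x) := by
  rw [TWSp.emb_eq_kr, TWSp.kr_vecMulVec_mulVec, one_mulVec]

theorem emb_cen_mulVec (i : ι) (c : Fin m → F) (x : (ι → Fin m) → F) :
    emb i (cen σ H c) *ᵥ x = lift i c (proj i (axis σ H c) x) := emb_vm_mulVec i c _ x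

theorem emb_rMat_mulVec (i : ι) (c v : Fin m → F) (x : (ι → Fin m) → F) :
    emb i (rMat (hm σ H) c v) *ᵥ x =
      lift i v (proj i (axis σ H c) x) - lift i c (proj i (axis σ H v) x) := by
  rw [rMat, leftVec_eq, leftVec_eq, emb_sub, sub_mulVec, emb_vm_mulVec, emb_vm_mulVec]

theorem proj_axis_smul (hH : UForm σ H) (i : ι) (k : F) (v : Fin m → F) (x : (ι → Fin m) → F) :
    proj i (axis σ H (k • v)) x = σ k • proj i (axis σ H v) x := by
  rw [← leftVec_eq, hH.sesq.leftVec_smul, leftVec_eq, TWSp.proj_smul_axis]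

theorem exists_mat {i : ι} {c : Fin m → F} (hc : c ≠ 0) {W : Matrix (ι → Fin m) (ι → Fin m) F}
    (h : ∀ x, W *ᵥ lift i c x ∈ block i c) :
    ∃ A : Matrix (Rest i m) (Rest i m) F, ∀ x, W *ᵥ lift i c x = lift i c (A *ᵥ x) := by
  choose f hf using fun x => exists_lift_of_mem_block hc (h x)
  let B : (Rest i m → F) →ₗ[F] (Rest i m → F) :=
    { toFun := f
      map_add' := fun u v => lift_injective (i := i) hc (by
        rw [map_add (lift i c), ← hf, ← hf, ← hf, map_add, mulVec_add])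
      map_smul' := fun k u => lift_injective (i := i) hc (by
        rw [map_smul (lift i c), ← hf, RingHom.id_apply, ← hf, map_smul, mulVec_smul]) }
  exact ⟨LinearMap.toMatrix' B, fun x => by rw [LinearMap.toMatrix'_mulVec]; exact hf x⟩

/-- An element stabilising a block acts on it by an invertible matrix. -/
theorem exists_actG {i : ι} {c : Fin m → F} (hc : c ≠ 0) {z : GL (ι → Fin m) F}
    (h : ∀ x, (z : Matrix (ι → Fin m) (ι → Fin m) F) *ᵥ lift i c x ∈ block i c) :
    ∃ A : GL (Rest i m) F, ∀ x, (z : Matrix (ι → Fin m) (ι → Fin m) F) *ᵥ lift i c x =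
      lift i c ((A : Matrix (Rest i m) (Rest i m) F) *ᵥ x) := by
  obtain ⟨A, hA⟩ := exists_mat hc h
  have hu : IsUnit A := mulVec_injective_iff_isUnit.mp fun u v e => lift_injective (i := i) hc
    (mulVec_injective_iff_isUnit.mpr z.isUnit (by rw [hA, hA]; exact congrArg (lift i c) e))
  exact ⟨hu.unit, hA⟩

theorem act_inv {i : ι} {c : Fin m → F} {z : GL (ι → Fin m) F} {A : GL (Rest i m) F}
    (h : ∀ x, (z : Matrix (ι → Fin m) (ι → Fin m) F) *ᵥ lift i c x =
      lift i c ((A : Matrix (Rest i m) (Rest i m) F) *ᵥ x)) (x : Rest i m → F) :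
    ((z⁻¹ : GL (ι → Fin m) F) : Matrix (ι → Fin m) (ι → Fin m) F) *ᵥ lift i c x =
      lift i c (((A⁻¹ : GL (Rest i m) F) : Matrix (Rest i m) (Rest i m) F) *ᵥ x) := by
  conv_lhs => rw [show x = (A : Matrix (Rest i m) (Rest i m) F) *ᵥ
    (((A⁻¹ : GL (Rest i m) F) : Matrix (Rest i m) (Rest i m) F) *ᵥ x) by
      rw [mulVec_mulVec, Units.mul_inv, one_mulVec], ← h]
  rw [mulVec_mulVec, Units.inv_mul, one_mulVec]

/-- Isometries stabilising a block stabilise its orthogonal. -/
theorem orth_map (hH : UForm σ H) {i : ι} {c : Fin m → F} {z : GL (ι → Fin m) F}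
    (hz : z ∈ isom (hm σ (gram ι H))) {A : GL (Rest i m) F}
    (h : ∀ x, (z : Matrix (ι → Fin m) (ι → Fin m) F) *ᵥ lift i c x =
      lift i c ((A : Matrix (Rest i m) (Rest i m) F) *ᵥ x))
    {v : (ι → Fin m) → F} (hv : proj i (axis σ H c) v = 0) :
    proj i (axis σ H c) ((z : Matrix (ι → Fin m) (ι → Fin m) F) *ᵥ v) = 0 := by
  refine (uForm_gram hH).eq_zero_of_left fun w => ?_
  have e : lift i c w = (z : Matrix (ι → Fin m) (ι → Fin m) F) *ᵥ
      lift i c (((A⁻¹ : GL (Rest i m) F) : Matrix (Rest i m) (Rest i m) F) *ᵥ w) := by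
    rw [h, mulVec_mulVec, Units.mul_inv, one_mulVec]
  rw [← hm_lift_right, e, hz, hm_lift_right, hv, (uForm_gram hH).sesq.zero_left]

variable {i : ι} {c : Fin m → F}

/-- Conjugates of Siegel elements at a stabilised block are in the same factor. -/
theorem Ctx.conj_sieg (hC : Ctx σ H M) (hnc : NoCen σ H M) (hc : c ≠ 0) (hcc : hm σ H c c = 0)
    {z : GL (ι → Fin m) F} (hz : z ∈ M) {A₀ : GL (Rest i m) F}
    (hst : ∀ x, (z : Matrix (ι → Fin m) (ι → Fin m) F) *ᵥ lift i c x =
      lift i c ((A₀ : Matrix (Rest i m) (Rest i m) F) *ᵥ x))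
    {v : Fin m → F} (hv : hm σ H v c = 0) {g : GL (ι → Fin m) F} (hg : g ∈ M) {a : F}
    (hgv : (g : Matrix (ι → Fin m) (ι → Fin m) F) = 1 + emb i (rMat (hm σ H) c v + a • cen σ H c)) :
    ∃ N, ((z * g * z⁻¹ : GL (ι → Fin m) F) : Matrix (ι → Fin m) (ι → Fin m) F) = 1 + emb i N := by
  have : NeZero m := ⟨by have := hC.par.1; omega⟩
  have hH := hC.form
  have hf := hH.isUnitary
  have hs := hH.sesq
  -- Siegel elements at the block
  have hval : ∀ (v : Fin m → F) (a : F) (x : (ι → Fin m) → F),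
      emb i (rMat (hm σ H) c v + a • cen σ H c) *ᵥ x =
        lift i v (proj i (axis σ H c) x) - lift i c (proj i (axis σ H v) x) +
          a • lift i c (proj i (axis σ H c) x) := fun v a x => by
    rw [emb_add, emb_smul, add_mulVec, smul_mulVec, emb_rMat_mulVec, emb_cen_mulVec]
  have hYU : ∀ {v : Fin m → F}, hm σ H v c = 0 → ∀ (a : F) x,
      emb i (rMat (hm σ H) c v + a • cen σ H c) *ᵥ lift i c x = 0 := fun {v} hv a x => by
    rw [hval, TWSp.proj_lift, TWSp.proj_lift, axis_dot, axis_dot, hcc, unitary_orth_symm hf hv]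
    simp
  have hYimg : ∀ {v : Fin m → F}, hm σ H v c = 0 → ∀ (a : F) x,
      proj i (axis σ H c) (emb i (rMat (hm σ H) c v + a • cen σ H c) *ᵥ x) = 0 := fun {v} hv a x => by
    rw [hval, map_add, map_sub, map_smul, TWSp.proj_lift, TWSp.proj_lift, TWSp.proj_lift, axis_dot, axis_dot, hv,
      hcc]
    simp
  have hYorth : ∀ (v : Fin m → F) (a : F) x, proj i (axis σ H c) x = 0 →
      emb i (rMat (hm σ H) c v + a • cen σ H c) *ᵥ x = -lift i c (proj i (axis σ H v) x) := fun v a x hx => by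
    rw [hval, hx]; simp
  set m' := z * g * z⁻¹ with hm'
  have hm'M : m' ∈ M := M.mul_mem (M.mul_mem hz hg) (M.inv_mem hz)
  set X := (m' : Matrix (ι → Fin m) (ι → Fin m) F) - 1 with hX
  have hXe : X = (z : Matrix (ι → Fin m) (ι → Fin m) F) * emb i (rMat (hm σ H) c v + a • cen σ H c) *
      ((z⁻¹ : GL (ι → Fin m) F) : Matrix (ι → Fin m) (ι → Fin m) F) := by
    rw [hX, hm', conj_sub_one, hgv, add_sub_cancel_left]
  have hstab : ∀ x ∈ block i c, (z : Matrix (ι → Fin m) (ι → Fin m) F) *ᵥ x ∈ block i c := fun x hx => by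
    obtain ⟨w, rfl⟩ := exists_lift_of_mem_block hc hx
    rw [hst]; exact lift_mem_block _ _ _
  have hXU : ∀ x, X *ᵥ lift i c x = 0 := fun x => by
    rw [hXe, ← mulVec_mulVec, act_inv hst, ← mulVec_mulVec, hYU hv, mulVec_zero]
  have hXimg : ∀ x, proj i (axis σ H c) (X *ᵥ x) = 0 := fun x => by
    rw [hXe, ← mulVec_mulVec, ← mulVec_mulVec]
    exact orth_map hH (hC.iso hz) hst (hYimg hv a _)
  have hXorth : ∀ x, proj i (axis σ H c) x = 0 → X *ᵥ x ∈ block i c := fun x hx => by
    rw [hXe, ← mulVec_mulVec, ← mulVec_mulVec,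
      hYorth v a _ (orth_map hH (hC.iso (M.inv_mem hz)) (act_inv hst) hx)]
    exact hstab _ ((block i c).neg_mem (lift_mem_block _ _ _))
  obtain ⟨d, -, hdc, -⟩ := TensorUnitary.exists_partner hf hc hcc
  -- commutators with Siegel elements are central
  have hcomm : ∀ w, hm σ H w c = 0 → ∃ s : F, ∀ x,
      -lift i c (proj i (axis σ H w) (X *ᵥ lift i d x)) - X *ᵥ lift i w x = s • lift i c x := by
    intro w hw
    obtain ⟨b, g₁, hg₁, -, hg₁v, -⟩ := exists_sieg' hH hcc hw
    set G := embG i g₁ with hG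
    have hGM : G ∈ M := hC.factors i g₁ hg₁
    set Y := emb i (rMat (hm σ H) c w + b • cen σ H c) with hY
    have hGv : (G : Matrix (ι → Fin m) (ι → Fin m) F) = 1 + Y := by
      rw [hG, embG_val, hg₁v, emb_add, emb_one]
    set P := Y * X - X * Y with hP
    have hP0 : ∀ x, proj i (axis σ H c) x = 0 → P *ᵥ x = 0 := fun x hx => by
      obtain ⟨w', hw'⟩ := exists_lift_of_mem_block hc (hXorth x hx)
      rw [hP, sub_mulVec, ← mulVec_mulVec, ← mulVec_mulVec, hw', hYU hw, hY, hYorth w b x hx, mulVec_neg, hXU,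
        neg_zero, sub_zero]
    have hPmul : ∀ {Q : Matrix (ι → Fin m) (ι → Fin m) F}, (∀ x, proj i (axis σ H c) (Q *ᵥ x) = 0) → P * Q = 0 :=
      fun hQ => Matrix.ext_iff_mulVec.mpr fun x => by rw [← mulVec_mulVec, hP0 _ (hQ x), zero_mulVec]
    have hPG : P * ((G⁻¹ : GL (ι → Fin m) F) : Matrix (ι → Fin m) (ι → Fin m) F) = P := by
      conv_lhs => rw [← add_zero P, ← hPmul (Q := Y) (hYimg hw b), show P + P * Y = P * (1 + Y) by
        rw [mul_add, mul_one], ← hGv, mul_assoc, Units.mul_inv, mul_one]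
    have hPm : P * ((m'⁻¹ : GL (ι → Fin m) F) : Matrix (ι → Fin m) (ι → Fin m) F) = P := by
      conv_lhs => rw [← add_zero P, ← hPmul (Q := X) hXimg, show P + P * X = P * (1 + X) by
        rw [mul_add, mul_one], hX, add_sub_cancel, mul_assoc, Units.mul_inv, mul_one]
    set K := G * m' * G⁻¹ * m'⁻¹ with hK
    have hKv : (K : Matrix (ι → Fin m) (ι → Fin m) F) = 1 + P := by
      rw [hK, Units.val_mul, Units.val_mul, Units.val_mul]
      have e : (G : Matrix (ι → Fin m) (ι → Fin m) F) * m' = m' * G + P := by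
        rw [hGv, show (m' : Matrix (ι → Fin m) (ι → Fin m) F) = 1 + X by rw [hX, add_sub_cancel], hP,
          add_mul, one_mul, mul_add, mul_one, add_mul, one_mul, mul_add, mul_one]
        abel
      rw [e, add_mul, hPG, mul_assoc (m' : Matrix (ι → Fin m) (ι → Fin m) F), Units.mul_inv, mul_one, add_mul,
        Units.mul_inv, hPm]
    obtain ⟨s, hsK⟩ := hC.eq_urt_of_block hnc
      (M.mul_mem (M.mul_mem (M.mul_mem hGM hm'M) (M.inv_mem hGM)) (M.inv_mem hm'M) : K ∈ M) hc hcc (j := i)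
      fun x => by
        rw [hKv, add_sub_cancel_left, hP, sub_mulVec, ← mulVec_mulVec, ← mulVec_mulVec]
        refine (block i c).sub_mem ?_ (hXorth _ (hYimg hw b x))
        rw [hY, hYorth w b _ (hXimg x)]
        exact (block i c).neg_mem (lift_mem_block _ _ _)
    refine ⟨s, fun x => ?_⟩
    have hPs : P = s • emb i (cen σ H c) := by
      have := congrArg Units.val hsK
      rwa [hKv, urt_val hH i hcc, add_right_inj] at this
    have e := congrArg (· *ᵥ lift i d x) hPs
    simp only [smul_mulVec] at e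
    rw [hP, sub_mulVec, ← mulVec_mulVec, ← mulVec_mulVec, emb_cen_lift, hdc, one_smul, hY, hYorth w b _ (hXimg _),
      hval, TWSp.proj_lift, TWSp.proj_lift, axis_dot, axis_dot, hdc, one_smul, map_smul, mulVec_add, mulVec_sub] at e
    simp only [mulVec_smul, hXU, smul_zero, sub_zero, add_zero] at e
    exact e
  have hlam : ∀ w, hm σ H w c = 0 → ∃ l : F, ∀ x, X *ᵥ lift i w x = l • lift i c x := by
    intro w hw
    obtain ⟨k, hk⟩ := exists_moved hH.ne_refl
    obtain ⟨s, h1⟩ := hcomm w hw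
    obtain ⟨s', h2⟩ := hcomm (k • w) (by rw [hs.smul_left, hw, mul_zero])
    have hne : k - σ k ≠ 0 := sub_ne_zero.mpr (Ne.symm hk)
    refine ⟨(k - σ k)⁻¹ * (σ k * s - s'), fun x => ?_⟩
    have e1 := congrArg (σ k • ·) (h1 x)
    have e2 := h2 x
    simp only [proj_axis_smul hH, map_smul, lift_smul_left, mulVec_smul] at e1 e2
    rw [← smul_smul, eq_inv_smul_iff₀ hne, sub_smul (σ k * s), ← smul_smul, ← e1, ← e2]
    module
  choose! lam hlam using hlam
  set φ : Fin m → F := fun q => lam ((Pi.single q 1 : Fin m → F) - hm σ H (Pi.single q 1) c • d) with hφ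
  have hXy : ∀ y, hm σ H y c = 0 → ∀ x, X *ᵥ lift i y x = (φ ⬝ᵥ y) • lift i c x := by
    intro y hy x
    have hd' : ∀ q, hm σ H ((Pi.single q 1 : Fin m → F) - hm σ H (Pi.single q 1) c • d) c = 0 := fun q => by
      rw [hs.sub_left, hs.smul_left, hdc, mul_one, sub_self]
    have ey : y = ∑ q, y q • ((Pi.single q 1 : Fin m → F) - hm σ H (Pi.single q 1) c • d) := by
      have h1 : ∑ q, y q • (Pi.single q 1 : Fin m → F) = y := by
        funext r; simp [Finset.sum_apply, Pi.single_apply]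
      simp only [smul_sub, smul_smul, Finset.sum_sub_distrib, ← Finset.sum_smul, h1]
      have h2 : ∑ q, y q * hm σ H (Pi.single q 1) c = 0 := by
        rw [← hy]
        exact Finset.sum_congr rfl fun q _ => by rw [hm, single_dotProduct, one_mul]
      rw [h2, zero_smul, sub_zero]
    conv_lhs => rw [ey]
    have hl : ∀ (s : Finset (Fin m)) (f : Fin m → Fin m → F),
        lift i (∑ q ∈ s, f q) x = ∑ q ∈ s, lift i (f q) x := fun s f => by
      funext r; simp [lift_apply, Finset.sum_apply, Finset.sum_mul]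
    rw [hl, mulVec_sum, dotProduct, Finset.sum_smul]
    refine Finset.sum_congr rfl fun q _ => ?_
    rw [lift_smul_left, mulVec_smul, hlam _ (hd' q), smul_smul, mul_comm]
  obtain ⟨v₀, hv₀⟩ := hs.leftVec_surjective φ
  rw [leftVec_eq] at hv₀
  have hw0 : (fun _ => 1 : Rest i m → F) ≠ 0 := fun h => one_ne_zero (congrFun h fun _ => 0)
  have hv₀c : hm σ H (-v₀) c = 0 := by
    have h1 := hXy c hcc fun _ => 1
    rw [hXU, ← hv₀, axis_dot, eq_comm, smul_eq_zero] at h1
    rw [hs.neg_left, neg_eq_zero]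
    exact unitary_orth_symm hf (h1.resolve_right fun e => hw0 (lift_injective (i := i) hc (by rw [e, map_zero])))
  obtain ⟨b, g₀, hg₀, -, hg₀v, -⟩ := exists_sieg' hH hcc hv₀c
  set q := embG i g₀ with hq
  have hqM : q ∈ M := hC.factors i g₀ hg₀
  set x := q⁻¹ * m' with hx
  have hxM : x ∈ M := M.mul_mem (M.inv_mem hqM) hm'M
  have hfix : ∀ y w, hm σ H y c = 0 → (x : Matrix (ι → Fin m) (ι → Fin m) F) *ᵥ lift i y w = lift i y w := by
    intro y w hy
    have h1 : (q : Matrix (ι → Fin m) (ι → Fin m) F) *ᵥ lift i y w =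
        (m' : Matrix (ι → Fin m) (ι → Fin m) F) *ᵥ lift i y w := by
      rw [show (m' : Matrix (ι → Fin m) (ι → Fin m) F) = 1 + X by rw [hX, add_sub_cancel], add_mulVec, one_mulVec,
        hXy y hy, hq, embG_val, hg₀v, emb_add, emb_one, add_mulVec, one_mulVec, hYorth _ b _ (by
          rw [TWSp.proj_lift, axis_dot, hy, zero_smul]),
        TWSp.proj_lift, axis_dot, hs.neg_right, ← hv₀, axis_dot, map_smul, neg_smul, neg_neg]
    rw [hx, Units.val_mul, ← mulVec_mulVec, ← h1, mulVec_mulVec, Units.inv_mul, one_mulVec]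
  obtain ⟨s, hxs⟩ := hC.eq_urt_of_block hnc hxM hc hcc (j := i) fun u => by
    refine mem_block_of_orth hH fun y hy w => ?_
    have h1 : hm σ (gram ι H) ((x : Matrix (ι → Fin m) (ι → Fin m) F) *ᵥ u) (lift i y w) =
        hm σ (gram ι H) u (lift i y w) := by
      conv_lhs => rw [← hfix y w hy]
      exact hC.iso hxM u (lift i y w)
    rw [sub_mulVec, one_mulVec, (uForm_gram hH).sesq.sub_left, h1, sub_self]
  refine ⟨(g₀ : Matrix (Fin m) (Fin m) F) * (1 + s • cen σ H c) - 1, ?_⟩
  have hmq : m' = q * urt σ H i s c := by rw [← hxs, hx, mul_inv_cancel_left]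
  rw [hmq, Units.val_mul, hq, embG_val, urt_val hH i hcc, emb_sub, emb_mul, emb_add, emb_one, emb_smul,
    add_sub_cancel]

/-- Commuting with the unipotent radical of the stabiliser of the point in a factor. -/
def Cz (σ : F ≃+* F) (H : Matrix (Fin m) (Fin m) F) (i : ι) (c : Fin m → F)
    (W : Matrix (ι → Fin m) (ι → Fin m) F) : Prop :=
  W * emb i (cen σ H c) = emb i (cen σ H c) * W ∧
    ∀ v, hm σ H v c = 0 → W * emb i (rMat (hm σ H) c v) = emb i (rMat (hm σ H) c v) * W

/-- The shape of the elements centralising the radical. -/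
theorem Cz.exists_kr (hH : UForm σ H) (hc : c ≠ 0) (hcc : hm σ H c c = 0)
    {W : Matrix (ι → Fin m) (ι → Fin m) F} (hW : Cz σ H i c W) {A : Matrix (Rest i m) (Rest i m) F}
    (hA : ∀ x, W *ᵥ lift i c x = lift i c (A *ᵥ x)) :
    ∃ K : Matrix (Rest i m) (Rest i m) F, W = kr i 1 A + kr i (cen σ H c) K := by
  have hf := hH.isUnitary
  have hs := hH.sesq
  obtain ⟨d, -, hdc, -⟩ := TensorUnitary.exists_partner hf hc hcc
  have hp : ∀ x, proj i (axis σ H c) (W *ᵥ lift i d x) = A *ᵥ x := fun x => lift_injective (i := i) hc (by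
    have e := congrArg (· *ᵥ lift i d x) hW.1
    simp only [← mulVec_mulVec] at e
    rw [emb_cen_lift, hdc, one_smul, hA, emb_cen_mulVec] at e
    exact e.symm)
  set u : (Rest i m → F) → (ι → Fin m) → F := fun x => W *ᵥ lift i d x - lift i d (A *ᵥ x) with hu
  have hy : ∀ y, hm σ H y c = 0 → ∀ x,
      W *ᵥ lift i y x = lift i y (A *ᵥ x) - lift i c (proj i (axis σ H y) (u x)) := by
    intro y hy x
    have e := congrArg (· *ᵥ lift i d x) (hW.2 y hy)
    simp only [← mulVec_mulVec] at e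
    rw [emb_rMat_mulVec, emb_rMat_mulVec, hp, TWSp.proj_lift, TWSp.proj_lift, axis_dot, axis_dot, hdc, one_smul,
      map_smul, mulVec_sub, mulVec_smul, hA] at e
    rw [hu, map_sub, TWSp.proj_lift, axis_dot, map_sub (lift i c), map_smul (lift i c)]
    linear_combination (norm := module) e
  obtain ⟨k, hk⟩ := exists_moved hH.ne_refl
  have hblk : ∀ x, u x ∈ block i c := by
    intro x
    refine mem_block_of_orth hH fun y hyc w => ?_
    have h1 := congrArg (k • ·) (hy y hyc x)
    have h2 := hy (k • y) (by rw [hs.smul_left, hyc, mul_zero]) x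
    simp only [proj_axis_smul hH, map_smul, lift_smul_left, mulVec_smul] at h1 h2
    have h3 : (k - σ k) • lift i c (proj i (axis σ H y) (u x)) = 0 := by
      linear_combination (norm := module) h1 - h2
    have h4 := (smul_eq_zero.mp h3).resolve_left (sub_ne_zero.mpr (Ne.symm hk))
    rw [hm_lift_right, lift_injective (i := i) hc (h4.trans (map_zero _).symm), (uForm_gram hH).sesq.zero_left]
  choose f hf' using fun x => exists_lift_of_mem_block hc (hblk x)
  let B : (Rest i m → F) →ₗ[F] (Rest i m → F) :=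
    { toFun := f
      map_add' := fun p q => lift_injective (i := i) hc (by
        rw [map_add (lift i c), ← hf', ← hf', ← hf', hu]
        simp only [map_add, mulVec_add]
        abel)
      map_smul' := fun r p => lift_injective (i := i) hc (by
        rw [map_smul (lift i c), ← hf', RingHom.id_apply, ← hf', hu]
        simp only [map_smul, mulVec_smul, smul_sub]) }
  refine ⟨LinearMap.toMatrix' B, TWSp.ext_lift (i := i) fun z w => ?_⟩
  have hz : z = (z - hm σ H z c • d) + hm σ H z c • d := by rw [sub_add_cancel]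
  have h0 : hm σ H (z - hm σ H z c • d) c = 0 := by rw [hs.sub_left, hs.smul_left, hdc, mul_one, sub_self]
  rw [add_mulVec, TWSp.kr_mulVec_lift, TWSp.kr_mulVec_lift, one_mulVec, cen_mulVec, LinearMap.toMatrix'_mulVec]
  conv_lhs => rw [hz, lift_add_left, mulVec_add, lift_smul_left (c := hm σ H z c), mulVec_smul, hy _ h0]
  have hpr : proj i (axis σ H (z - hm σ H z c • d)) (u w) = 0 := by
    obtain ⟨w', hw'⟩ := exists_lift_of_mem_block hc (hblk w)
    rw [hw', TWSp.proj_lift, axis_dot, unitary_orth_symm hf h0, zero_smul]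
  rw [hpr, map_zero, sub_zero, show W *ᵥ lift i d w = lift i d (A *ᵥ w) + u w by rw [hu]; simp,
    hf' w, smul_add, ← add_assoc, ← lift_smul_left, ← lift_add_left, sub_add_cancel, lift_smul_left]
  rfl

theorem Cz.mul {W W' : Matrix (ι → Fin m) (ι → Fin m) F} (h : Cz σ H i c W) (h' : Cz σ H i c W') :
    Cz σ H i c (W * W') :=
  ⟨by rw [mul_assoc, h'.1, ← mul_assoc, h.1, mul_assoc],
    fun v hv => by rw [mul_assoc, h'.2 v hv, ← mul_assoc, h.2 v hv, mul_assoc]⟩

theorem Cz.inv {w : GL (ι → Fin m) F} (h : Cz σ H i c (w : Matrix (ι → Fin m) (ι → Fin m) F)) :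
    Cz σ H i c ((w⁻¹ : GL (ι → Fin m) F) : Matrix (ι → Fin m) (ι → Fin m) F) := by
  have key : ∀ {E : Matrix (ι → Fin m) (ι → Fin m) F}, (w : Matrix (ι → Fin m) (ι → Fin m) F) * E = E * w →
      ((w⁻¹ : GL (ι → Fin m) F) : Matrix (ι → Fin m) (ι → Fin m) F) * E =
        E * ((w⁻¹ : GL (ι → Fin m) F) : Matrix (ι → Fin m) (ι → Fin m) F) := fun {E} hE =>
    calc _ = ((w⁻¹ : GL (ι → Fin m) F) : Matrix (ι → Fin m) (ι → Fin m) F) *
          (E * (w : Matrix (ι → Fin m) (ι → Fin m) F) *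
            ((w⁻¹ : GL (ι → Fin m) F) : Matrix (ι → Fin m) (ι → Fin m) F)) := by
          rw [mul_assoc E, Units.mul_inv, mul_one]
      _ = _ := by rw [← hE, mul_assoc, ← mul_assoc, ← mul_assoc, Units.inv_mul, one_mul]
  exact ⟨key h.1, fun v hv => key (h.2 v hv)⟩

/-- An element centralising the radical is a root times an element of the other factors in `M`. -/
theorem Ctx.oth_mem (hC : Ctx σ H M) (hno : ∀ T : Finset ι, 2 ≤ T.card → ¬ El σ H M T) (hc : c ≠ 0)
    (hcc : hm σ H c c = 0) {w : GL (ι → Fin m) F} (hw : w ∈ M)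
    (hW : Cz σ H i c (w : Matrix (ι → Fin m) (ι → Fin m) F)) {A : GL (Rest i m) F}
    (hA : ∀ x, (w : Matrix (ι → Fin m) (ι → Fin m) F) *ᵥ lift i c x =
      lift i c ((A : Matrix (Rest i m) (Rest i m) F) *ᵥ x)) :
    othG i A ∈ M ∧ ∃ k : F, w = urt σ H i k c * othG i A := by
  have : NeZero m := ⟨by have := hC.par.1; omega⟩
  have hH := hC.form
  have hf := hH.isUnitary
  have hs := hH.sesq
  set A' := ((A⁻¹ : GL (Rest i m) F) : Matrix (Rest i m) (Rest i m) F) with hA'
  obtain ⟨K, hK⟩ := hW.exists_kr hH hc hcc hA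
  obtain ⟨K', hK'⟩ := hW.inv.exists_kr hH hc hcc (A := A') (act_inv hA)
  set Am := (A : Matrix (Rest i m) (Rest i m) F) with hAm
  have hAA : Am * A' = 1 := Units.mul_inv A
  have hsum : Am * K' + K * A' = 0 := by
    refine TWSp.kr_left_injective (i := i) (hH.cen_ne hc) ?_
    show kr i (cen σ H c) _ = kr i (cen σ H c) 0
    have e := Units.mul_inv w
    rw [hK, hK', add_mul, mul_add, mul_add, TWSp.kr_mul, TWSp.kr_mul, TWSp.kr_mul, TWSp.kr_mul, one_mul, one_mul,
      mul_one, cen_sq hcc, TWSp.kr_zero_left, add_zero, hAA, TWSp.kr_one, add_assoc, add_eq_left] at e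
    rw [TWSp.kr_zero_right, TWSp.kr_add_right, ← e]
  obtain ⟨d, hd, hdc, hcd⟩ := TensorUnitary.exists_partner hf hc hcc
  obtain ⟨h, hh, C₂, hC₂, h2c, hQQ, hQ0⟩ : ∃ h ∈ su (hm σ H), ∃ C₂ : Matrix (Fin m) (Fin m) F,
      (h : Matrix (Fin m) (Fin m) F) * cen σ H c * ((h⁻¹ : GL (Fin m) F) : Matrix (Fin m) (Fin m) F) = C₂ ∧
      C₂ * cen σ H c = 0 ∧ (C₂ - cen σ H c) * (C₂ - cen σ H c) = 0 ∧ C₂ - cen σ H c ≠ 0 := by
    by_cases hκ : ∃ κ : F, σ κ = κ ∧ κ ≠ 0 ∧ κ ≠ 1
    · obtain ⟨κ, hκσ, hκ0, hκ1⟩ := hκ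
      obtain ⟨z₀, hz₀⟩ := norm_surjective hH.ne_refl hH.invol (a := κ) hκσ
      have hz₀0 : z₀ ≠ 0 := fun e => hκ0 (by rw [← hz₀, e, zero_mul])
      obtain ⟨h, hh, hhc⟩ := TensorUnitary.exists_scale hf (by rw [Fintype.card_fin]; exact hC.par.1) hc hcc hz₀0
      refine ⟨h, hh, κ • cen σ H c, by rw [hH.conj_cen hh.1, hhc, hH.cen_smul, hz₀], ?_, ?_, ?_⟩
      · rw [smul_mul_assoc, cen_sq hcc, smul_zero]
      · rw [show κ • cen σ H c - cen σ H c = (κ - 1) • cen σ H c by rw [sub_smul, one_smul], smul_mul_smul_comm,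
          cen_sq hcc, smul_zero]
      · rw [show κ • cen σ H c - cen σ H c = (κ - 1) • cen σ H c by rw [sub_smul, one_smul]]
        exact smul_ne_zero (sub_ne_zero.mpr hκ1) (hH.cen_ne hc)
    · have hm4 : 4 ≤ m := by
        rcases Nat.lt_or_ge m 4 with h3 | h4
        · exact absurd (hC.par.2 (by have := hC.par.1; omega)) hκ
        · exact h4
      set f2 : (Fin m → F) →ₗ[F] (Fin 2 → F) := Matrix.mulVecLin (Matrix.of ![axis σ H c, axis σ H d]) with hf2
      obtain ⟨c₂, hc₂m, hc₂0, hc₂⟩ := exists_iso_mem hf (LinearMap.ker f2) (by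
        have h1 := f2.finrank_range_add_finrank_ker
        have h2 := (LinearMap.range f2).finrank_le
        rw [Module.finrank_fin_fun] at h1 h2
        omega)
      rw [LinearMap.mem_ker] at hc₂m
      have h2c : hm σ H c₂ c = 0 := by rw [← axis_dot]; exact congrFun hc₂m 0
      have h2d : hm σ H c₂ d = 0 := by rw [← axis_dot]; exact congrFun hc₂m 1
      obtain ⟨h, hh, k, hk, hhc⟩ := TensorUnitary.exists_move_line hf hc hcc hc₂0 hc₂
      refine ⟨h, hh, (k * σ k) • cen σ H c₂, by rw [hH.conj_cen hh.1, hhc, hH.cen_smul], ?_, ?_, fun e => ?_⟩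
      · rw [smul_mul_assoc, cen_mul_cen, unitary_orth_symm hf h2c, zero_smul, smul_zero]
      · rw [sub_mul, mul_sub, mul_sub, smul_mul_smul_comm, smul_mul_assoc, mul_smul_comm, cen_sq hc₂, cen_sq hcc,
          cen_mul_cen, cen_mul_cen, h2c, unitary_orth_symm hf h2c]
        simp
      · have e2 := congrArg (fun X => hm σ H (X *ᵥ d) d) e
        simp only [sub_mulVec, smul_mulVec, cen_mulVec, zero_mulVec, hs.zero_left, hs.sub_left, hs.smul_left, h2d,
          hdc, hcd, mul_zero, zero_sub, one_mul, neg_eq_zero] at e2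
        exact one_ne_zero e2
  have he : ∀ (X : Matrix (Fin m) (Fin m) F) (L : Matrix (Rest i m) (Rest i m) F),
      emb i (h : Matrix (Fin m) (Fin m) F) * kr i X L * emb i ((h⁻¹ : GL (Fin m) F) : Matrix (Fin m) (Fin m) F) =
        kr i ((h : Matrix (Fin m) (Fin m) F) * X * ((h⁻¹ : GL (Fin m) F) : Matrix (Fin m) (Fin m) F)) L := by
    intro X L
    rw [TWSp.emb_eq_kr, TWSp.emb_eq_kr, TWSp.kr_mul, TWSp.kr_mul, Matrix.one_mul, Matrix.mul_one]
  have hD : ((embG i h * w * (embG i h)⁻¹ * w⁻¹ : GL (ι → Fin m) F) : Matrix (ι → Fin m) (ι → Fin m) F) =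
      1 + kr i (C₂ - cen σ H c) (K * A') := by
    have e1 : emb i (h : Matrix (Fin m) (Fin m) F) * (kr i 1 Am + kr i (cen σ H c) K) *
        emb i ((h⁻¹ : GL (Fin m) F) : Matrix (Fin m) (Fin m) F) = kr i 1 Am + kr i C₂ K := by
      rw [mul_add, add_mul, he, he, hC₂, mul_one, Units.mul_inv]
    rw [← map_inv, Units.val_mul, Units.val_mul, Units.val_mul, embG_val, embG_val, hK, hK', e1, add_mul, mul_add,
      mul_add, TWSp.kr_mul, TWSp.kr_mul, TWSp.kr_mul, TWSp.kr_mul, one_mul, one_mul, mul_one, h2c,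
      TWSp.kr_zero_left, add_zero, hAA, TWSp.kr_one, eq_neg_of_add_eq_zero_left hsum, TWSp.kr_neg_right,
      TWSp.kr_sub_left]
    abel
  obtain ⟨k, hk⟩ : ∃ k : F, K * A' = k • 1 := by
    by_contra hcon
    push Not at hcon
    have hh' := hC.factors i h hh
    obtain ⟨T, hT, hE⟩ := hC.el_of_slice hQQ hQ0 hcon
      (M.mul_mem (M.mul_mem (M.mul_mem hh' hw) (M.inv_mem hh')) (M.inv_mem hw)) hD
    exact hno T hT hE
  have hKA : K = k • Am := by
    rw [← mul_one K, ← Units.inv_mul A, ← mul_assoc, hk, smul_mul_assoc, one_mul]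
  have hfac : w = urt σ H i k c * othG i A := by
    apply Units.ext
    rw [Units.val_mul, urt_val hH i hcc, othG_val, oth_eq_kr, TWSp.emb_eq_kr, add_mul, one_mul, smul_mul_assoc,
      TWSp.kr_mul, Matrix.mul_one, Matrix.one_mul, hK, hKA, TWSp.kr_smul_right]
  have hG := uForm_gram (ι := {j // j ≠ i}) hH
  have hskew : σ k = -k := by
    obtain ⟨x, hx0⟩ : ∃ x : Rest i m → F, x ≠ 0 :=
      ⟨fun _ => 1, fun h => one_ne_zero (congrFun h fun _ => 0)⟩
    obtain ⟨y, hy⟩ := (hG.isUnitary.nondegenerate _ hx0).2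
    have e1 := hC.iso hw (lift i c x) (lift i d y)
    have e2 := hC.iso hw (lift i d x) (lift i d y)
    rw [hA, hK, add_mulVec, TWSp.kr_mulVec_lift, TWSp.kr_mulVec_lift, one_mulVec, cen_mulVec, hdc, one_smul,
      (uForm_gram hH).sesq.add_right, hm_lift, hm_lift, hm_lift, hcd, hcc, hKA, smul_mulVec] at e1
    rw [hK, add_mulVec, add_mulVec, TWSp.kr_mulVec_lift, TWSp.kr_mulVec_lift, TWSp.kr_mulVec_lift,
      TWSp.kr_mulVec_lift, one_mulVec, cen_mulVec, hdc, one_smul, hKA, smul_mulVec, smul_mulVec,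
      (uForm_gram hH).sesq.add_left, (uForm_gram hH).sesq.add_right, (uForm_gram hH).sesq.add_right, hm_lift,
      hm_lift, hm_lift, hm_lift, hm_lift, hd, hdc, hcd, hcc, hG.sesq.smul_left, hG.sesq.smul_right] at e2
    simp only [zero_mul, one_mul, add_zero, zero_add] at e1 e2
    rw [e1] at e2
    have : (k + σ k) * hm σ (gram {j // j ≠ i} H) x y = 0 := by linear_combination e2
    linear_combination (mul_eq_zero.mp this).resolve_right hy
  refine ⟨?_, k, hfac⟩
  rw [show othG i A = (urt σ H i k c)⁻¹ * w by rw [hfac, inv_mul_cancel_left]]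
  exact M.mul_mem (M.inv_mem (hC.factors.urt_mem hH i hcc hskew)) hw

/-- The group induced on a block by the centraliser of the radical. -/
def indGroup (σ : F ≃+* F) (H : Matrix (Fin m) (Fin m) F) (i : ι) (c : Fin m → F)
    (M : Subgroup (GL (ι → Fin m) F)) : Subgroup (GL (Rest i m) F) where
  carrier := {A | ∃ w ∈ M, Cz σ H i c (w : Matrix (ι → Fin m) (ι → Fin m) F) ∧
    ∀ x, (w : Matrix (ι → Fin m) (ι → Fin m) F) *ᵥ lift i c x =
      lift i c ((A : Matrix (Rest i m) (Rest i m) F) *ᵥ x)}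
  one_mem' := ⟨1, M.one_mem, ⟨by simp, fun v _ => by simp⟩, fun x => by simp⟩
  mul_mem' := by
    rintro A B ⟨w, hw, hW, hA⟩ ⟨w', hw', hW', hB⟩
    refine ⟨w * w', M.mul_mem hw hw', by rw [Units.val_mul]; exact hW.mul hW', fun x => ?_⟩
    rw [Units.val_mul, Units.val_mul, ← mulVec_mulVec, hB, hA, mulVec_mulVec]
  inv_mem' := by
    rintro A ⟨w, hw, hW, hA⟩
    exact ⟨w⁻¹, M.inv_mem hw, hW.inv, act_inv hA⟩

theorem othG_urt (i : ι) (j : {k // k ≠ i}) (s : F) (u : Fin m → F) :
    othG i (urt σ H j s u) = urt σ H (j : ι) s u := Units.ext (emb_eq_oth i j _).symm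

theorem oth_PP (i : ι) (T : Finset {k // k ≠ i}) (xs : ι → Fin m → F) :
    oth i (PP σ H T fun k => xs k) = PP σ H (T.map (Function.Embedding.subtype _)) xs := by
  classical
  have hi : i ∉ T.map (Function.Embedding.subtype _) := fun h => by
    obtain ⟨j', -, hj''⟩ := Finset.mem_map.mp h; exact j'.2 hj''
  rw [PP_eq_kr (T.map (Function.Embedding.subtype _)) xs i, if_neg hi, oth_eq_kr]
  congr 2
  ext j; simp [j.2]

/-- An element of `M` stabilising a block at an isotropic point lies in the wreath group. -/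
theorem Ctx.stab_mem_wreath (hC : Ctx σ H M) (hno : ∀ T : Finset ι, 2 ≤ T.card → ¬ El σ H M T)
    (hc : c ≠ 0) (hcc : hm σ H c c = 0) [Nontrivial ι]
    (IH : ∀ N : Subgroup (GL (Rest i m) F), Ctx σ H N → ¬ N ≤ wreath {j // j ≠ i} m F →
      ∃ T : Finset {j // j ≠ i}, 2 ≤ T.card ∧ El σ H N T)
    {z : GL (ι → Fin m) F} (hz : z ∈ M)
    (hst : (block i c).map (Matrix.mulVecLin (z : Matrix (ι → Fin m) (ι → Fin m) F)) ≤ block i c) :
    z ∈ wreath ι m F := by
  classical
  have : NeZero m := ⟨by have := hC.par.1; omega⟩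
  have hm2 : 2 ≤ m := by have := hC.par.1; omega
  have hH := hC.form
  have hf := hH.isUnitary
  have hnc := hC.noCen hno
  have : Nonempty {j // j ≠ i} := let ⟨l, hl⟩ := exists_ne i; ⟨⟨l, hl⟩⟩
  obtain ⟨A₀, hA₀⟩ := exists_actG hc fun x => hst ⟨_, lift_mem_block i c x, rfl⟩
  obtain ⟨t, ht0, ht⟩ := exists_traceZero hH.ne_refl hH.invol
  -- the induced group is an overgroup of the factors
  have hind : ∀ {A}, A ∈ indGroup σ H i c M → othG i A ∈ M := fun {A} ⟨w, hw, hW, hA⟩ =>
    (hC.oth_mem hno hc hcc hw hW hA).1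
  have hC' : Ctx σ H (indGroup σ H i c M) := by
    refine ⟨hH, hC.par, fun A hA x y => ?_, fun j h hh => ⟨embG (j : ι) h, hC.factors _ h hh, ?_, fun x => ?_⟩⟩
    · obtain ⟨d, -, -, hcd⟩ := TensorUnitary.exists_partner hf hc hcc
      have e := hC.iso (hind hA) (lift i c x) (lift i d y)
      rw [othG_val, oth_mulVec_lift, oth_mulVec_lift, hm_lift, hm_lift, hcd, one_mul, one_mul] at e
      exact e
    · rw [embG_val]
      exact ⟨emb_comm j.2 _ _, fun v _ => emb_comm j.2 _ _⟩
    · rw [embG_val, embG_val, emb_eq_oth i j, oth_mulVec_lift]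
  have hle : indGroup σ H i c M ≤ wreath {j // j ≠ i} m F := by
    by_contra hcon
    obtain ⟨T, hT, hE⟩ := IH _ hC' hcon
    obtain ⟨g, hg, hgv⟩ := hE (fun _ => c) (fun k _ => ⟨hc, hcc⟩) t ht
    refine hno (T.map (Function.Embedding.subtype _)) (by rw [Finset.card_map]; exact hT)
      (hC.el_of_one (Finset.map_nonempty.mpr (Finset.card_pos.mp (by omega))) (xs := fun _ => c)
        (fun k _ => ⟨hc, hcc⟩) ht0 (hind hg) ?_)
    rw [othG_val, hgv, oth_add, oth_one, oth_smul, ← oth_PP i T fun _ => c]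
  -- conjugates of the roots of the other factors
  have hconj : ∀ (j : {k // k ≠ i}) (u : Fin m → F), hm σ H u u = 0 → ∀ s, σ s = -s →
      z * urt σ H (j : ι) s u * z⁻¹ ∈ M ∧
      Cz σ H i c ((z * urt σ H (j : ι) s u * z⁻¹ : GL (ι → Fin m) F) : Matrix (ι → Fin m) (ι → Fin m) F) ∧
      ∀ x, ((z * urt σ H (j : ι) s u * z⁻¹ : GL (ι → Fin m) F) : Matrix (ι → Fin m) (ι → Fin m) F) *ᵥ lift i c x =
        lift i c (((A₀ * urt σ H j s u * A₀⁻¹ : GL (Rest i m) F) : Matrix (Rest i m) (Rest i m) F) *ᵥ x) := by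
    intro j u hu s hs
    set r := urt σ H (j : ι) s u with hr
    have hrM : r ∈ M := hC.factors.urt_mem hH _ hu hs
    refine ⟨M.mul_mem (M.mul_mem hz hrM) (M.inv_mem hz), ?_, fun x => ?_⟩
    · have hcom : ∀ {v : Fin m → F}, hm σ H v c = 0 → ∀ {g : GL (ι → Fin m) F}, g ∈ M → ∀ {a : F},
          (g : Matrix (ι → Fin m) (ι → Fin m) F) = 1 + emb i (rMat (hm σ H) c v + a • cen σ H c) →
          ((z * r * z⁻¹ : GL (ι → Fin m) F) : Matrix (ι → Fin m) (ι → Fin m) F) *
            emb i (rMat (hm σ H) c v + a • cen σ H c) = emb i (rMat (hm σ H) c v + a • cen σ H c) *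
              ((z * r * z⁻¹ : GL (ι → Fin m) F) : Matrix (ι → Fin m) (ι → Fin m) F) := by
        intro v hv g hg a hgv
        obtain ⟨N, hN⟩ := hC.conj_sieg hnc hc hcc (M.inv_mem hz) (act_inv hA₀) hv hg hgv
        have hcl : Commute r (z⁻¹ * g * z⁻¹⁻¹) := by
          apply Units.ext
          show (r : Matrix (ι → Fin m) (ι → Fin m) F) *
              ((z⁻¹ * g * z⁻¹⁻¹ : GL (ι → Fin m) F) : Matrix (ι → Fin m) (ι → Fin m) F) =
            ((z⁻¹ * g * z⁻¹⁻¹ : GL (ι → Fin m) F) : Matrix (ι → Fin m) (ι → Fin m) F) *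
              (r : Matrix (ι → Fin m) (ι → Fin m) F)
          rw [hN, mul_add, add_mul, mul_one, one_mul, hr, urt_val hH _ hu, add_mul,
            mul_add, one_mul, mul_one, smul_mul_assoc, mul_smul_comm, emb_comm j.2]
        have h1 : Commute (z * r * z⁻¹) g := by
          have e := congrArg (fun p => z * p * z⁻¹) hcl.eq
          show z * r * z⁻¹ * g = g * (z * r * z⁻¹)
          convert e using 1 <;> group
        have h2 := congrArg Units.val h1.eq
        rwa [Units.val_mul, Units.val_mul g, hgv, mul_add, add_mul, mul_one, one_mul, add_right_inj] at h2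
      have hr0 : rMat (hm σ H) c 0 = 0 := by
        have := TensorUnitary.rMat_smul_self hf c 0
        simpa using this
      have hcen : ((z * r * z⁻¹ : GL (ι → Fin m) F) : Matrix (ι → Fin m) (ι → Fin m) F) * emb i (cen σ H c) =
          emb i (cen σ H c) * ((z * r * z⁻¹ : GL (ι → Fin m) F) : Matrix (ι → Fin m) (ι → Fin m) F) := by
        have e := hcom (v := 0) (hH.sesq.zero_left _) (hC.factors.urt_mem hH i hcc ht) (a := t) (by
          rw [urt_val hH i hcc, hr0, zero_add, emb_smul])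
        rw [hr0, zero_add, emb_smul, mul_smul_comm, smul_mul_assoc] at e
        exact smul_right_injective _ ht0 e
      refine ⟨hcen, fun v hv => ?_⟩
      obtain ⟨a, g, hg, -, hgv, -⟩ := exists_sieg' hH hcc hv
      have e := hcom hv (hC.factors i g hg) (a := a) (by rw [embG_val, hgv, emb_add, emb_one])
      rwa [emb_add, emb_smul, mul_add, add_mul, mul_smul_comm, smul_mul_assoc, hcen, add_left_inj] at e
    · rw [Units.val_mul, Units.val_mul, ← mulVec_mulVec, ← mulVec_mulVec, act_inv hA₀, hr, ← othG_urt, othG_val,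
        oth_mulVec_lift, hA₀, Units.val_mul, Units.val_mul, ← mulVec_mulVec, ← mulVec_mulVec]
  have hA₀W : A₀ ∈ wreath {j // j ≠ i} m F := mem_wreath_of_conj_urt hH hC.par fun j u _ hu s hs =>
    hle ⟨_, hconj j u hu s hs⟩
  -- the conjugates have no part in the factor `i`
  have hkey : ∀ (j : {k // k ≠ i}) (u : Fin m → F), u ≠ 0 → hm σ H u u = 0 →
      z * urt σ H (j : ι) t u * z⁻¹ = othG i (A₀ * urt σ H j t u * A₀⁻¹) := by
    intro j u hu0 hu
    obtain ⟨hwM, hW, hA⟩ := hconj j u hu t ht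
    obtain ⟨-, k, hk⟩ := hC.oth_mem hno hc hcc hwM hW hA
    rw [hk]
    suffices k = 0 by rw [this, urt_zero, one_mul]
    obtain ⟨τ, hτ⟩ := hA₀W
    have h0 := root_orth hH hu t
    obtain ⟨c', φ', hc', hφ', h', he⟩ := hτ.conj_root (i := j) h0 (smul_ne_zero ht0 hu0) (hH.axis_ne hu0)
    rw [show othG i (A₀ * urt σ H j t u * A₀⁻¹) = root (τ j : ι) c' φ' by
      rw [urt, he]; exact Units.ext (emb_eq_oth i (τ j) _).symm] at hk
    set l : ι := (τ j : ι) with hl
    have hli : l ≠ i := (τ j).2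
    set gs : ι → GL (Fin m) F := Function.update (Function.update (1 : ι → GL (Fin m) F) i
      (tv (k • c) (axis σ H c))) l (tv c' φ') with hgs
    have hwgs : z * urt σ H (j : ι) t u * z⁻¹ = PtG gs := by
      rw [hk, urt, root, root, embG_eq_PtG, embG_eq_PtG, ← map_mul]
      congr 1
      funext q
      rcases eq_or_ne q l with rfl | hq
      · simp [hgs, hli]
      · rcases eq_or_ne q i with rfl | hqi
        · simp [hgs, hq]
        · simp [hgs, hq, hqi]
    have hperm : HasPerm (z * urt σ H (j : ι) t u * z⁻¹) 1 := ⟨gs, by rw [hwgs, map_one, mul_one]⟩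
    obtain ⟨p, hp'⟩ := CharP.exists F
    have : Fact p.Prime := ⟨CharP.char_is_prime F p⟩
    have hq := conj_quadratic (y := z) (root_quadratic (i := (j : ι)) h0)
    have hrk : ((((z * urt σ H (j : ι) t u * z⁻¹ : GL (ι → Fin m) F) : Matrix (ι → Fin m) (ι → Fin m) F)) - 1).rank =
        bdim ι m := by rw [urt, rank_conj_sub_one', root_rank h0 (smul_ne_zero ht0 hu0) (hH.axis_ne hu0)]
    rcases classify (p := p) hC.par.1 hperm hq hrk with
      ⟨j₁, c₁, φ₁, -, -, -, he₁⟩ | ⟨-, a, b, hab, hsw, -⟩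
    swap
    · exact absurd (Equiv.swap_eq_one_iff.mp (hperm.unique hm2 hsw).symm) hab
    rw [hwgs] at he₁
    by_contra hk0
    rcases eq_or_ne i j₁ with rfl | hij
    · obtain ⟨r, hr⟩ := exists_scalar_of_PtG_eq_embG he₁ hli
      rw [hgs, Function.update_self] at hr
      exact tv_ne_smul_one h' hc' hφ' r hr
    · obtain ⟨r, hr⟩ := exists_scalar_of_PtG_eq_embG he₁ hij
      rw [hgs, Function.update_of_ne hli.symm, Function.update_self] at hr
      exact tv_ne_smul_one (root_orth hH hcc k) (smul_ne_zero hk0 hc) (hH.axis_ne hc) r hr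
  -- split off the action on the block
  set z' := (othG i A₀)⁻¹ * z with hz'
  have hcomm : ∀ j, j ≠ i → ∀ A, (z' : Matrix (ι → Fin m) (ι → Fin m) F) * emb j A =
      emb j A * (z' : Matrix (ι → Fin m) (ι → Fin m) F) := by
    intro j hj A
    refine comm_emb_of_cen hH hm2 (fun u hu0 hu => ?_) A
    have e : z' * urt σ H j t u = urt σ H j t u * z' := by
      have e1 := hkey ⟨j, hj⟩ u hu0 hu
      rw [map_mul, map_mul, othG_urt, map_inv] at e1
      have e2 := congrArg (fun p => (othG i A₀)⁻¹ * p * z) e1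
      rw [hz']
      convert e2 using 1 <;> group
    have e3 : (z' : Matrix (ι → Fin m) (ι → Fin m) F) * (urt σ H j t u : Matrix (ι → Fin m) (ι → Fin m) F) =
        (urt σ H j t u : Matrix (ι → Fin m) (ι → Fin m) F) * (z' : Matrix (ι → Fin m) (ι → Fin m) F) :=
      congrArg Units.val e
    rw [urt_val hH j hu, mul_add, add_mul, mul_one, one_mul, add_right_inj,
      mul_smul_comm, smul_mul_assoc] at e3
    exact smul_right_injective _ ht0 e3
  obtain ⟨X, hX⟩ := exists_emb_of_comm hcomm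
  have hXu : IsUnit X := mulVec_injective_iff_isUnit.mp fun u v e => by
    funext q
    have h1 : emb i X *ᵥ lift i u (fun _ => 1) = emb i X *ᵥ lift i v (fun _ => 1) := by
      rw [emb_mulVec_lift, emb_mulVec_lift]; exact congrArg (fun w => lift i w _) e
    rw [← hX] at h1
    have := congrFun (mulVec_injective_iff_isUnit.mpr z'.isUnit h1) (extend i q fun _ => 0)
    simpa [lift_apply, extend_self] using this
  have hz'e : z = othG i A₀ * embG i hXu.unit := by
    rw [← mul_inv_cancel_left (othG i A₀) z, ← hz', show z' = embG i hXu.unit from Units.ext hX]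
  rw [hz'e]
  exact (wreath ι m F).mul_mem (othG_mem_wreath hA₀W) (embG_mem _ _)

end CfsgLib.TWU
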